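import Cfsg.Agent.Lib.PGroup.RadicalSeven.Linear
import Mathlib.GroupTheory.QuotientGroup.Basic
import Mathlib.GroupTheory.Subgroup.Simple
import Mathlib.Tactic.Group

/-!
# Standard elements above a layer of order eight
-/

set_option autoImplicit false
set_option linter.unusedSectionVars false
set_option linter.style.haveILetI false

open Subgroup

namespace CfsgLib.PGroup.RadicalSeven

universe u v

variable {Y : Type u} [Group Y] {L : Type v} [Group L]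

/-- The commutator `g x g⁻¹ x⁻¹`. -/
def cm (g x : Y) : Y := g * x * g⁻¹ * x⁻¹

theorem cm_mem {P : Subgroup Y} [hP : P.Normal] (g : Y) {x : Y} (hx : x ∈ P) : cm g x ∈ P :=
  mul_mem (hP.conj_mem x hx g) (inv_mem hx)

/-- The action of the quotient on a normal subgroup centralised by the kernel. -/
theorem exists_act [IsSimpleGroup L] (π : Y →* L) (hπ : Function.Surjective π) (Λ : Subgroup Y) [Λ.Normal]
    (hc : ∀ z ∈ Λ, ∀ q ∈ π.ker, z * q = q * z) :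
    ∃ ρ : L →* MulAut Λ, (∀ y (z : Λ), (ρ (π y) z : Y) = y * z * y⁻¹) ∧
      (¬ Λ ≤ center Y → Function.Injective ρ) := by
  have hk : π.ker ≤ (MulAut.conjNormal (H := Λ)).ker := fun q hq => by
    refine MonoidHom.mem_ker.2 (MulEquiv.ext fun z => Subtype.ext ?_)
    rw [MulAut.conjNormal_apply, ← hc z z.2 q hq, mul_inv_cancel_right]
    rfl
  obtain ⟨ρ, hρ⟩ : ∃ ρ : L →* MulAut Λ, ∀ y, ρ (π y) = MulAut.conjNormal y :=
    ⟨MonoidHom.liftOfSurjective π hπ ⟨MulAut.conjNormal, hk⟩, fun y =>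
      MonoidHom.liftOfRightInverse_comp_apply π _ _ ⟨MulAut.conjNormal, hk⟩ y⟩
  have happ : ∀ y (z : Λ), (ρ (π y) z : Y) = y * z * y⁻¹ := fun y z => by
    rw [hρ, MulAut.conjNormal_apply]
  refine ⟨ρ, happ, fun hne => (MonoidHom.ker_eq_bot_iff ρ).1 ?_⟩
  refine (IsSimpleGroup.eq_bot_or_eq_top_of_normal ρ.ker inferInstance).resolve_right fun htop =>
    hne fun z hz => mem_center_iff.2 fun y => ?_
  have h := happ y ⟨z, hz⟩
  rw [show ρ (π y) = 1 from MonoidHom.mem_ker.1 (htop ▸ mem_top _)] at h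
  exact (mul_inv_eq_iff_eq_mul.1 h.symm)

/-- Standard elements above a layer `P/Λ` of order eight. -/
structure Std (π : Y →* L) (Λ P : Subgroup Y) (c r y : Y) : Prop where
  cP : c ∈ P
  y3 : y * y * y = 1
  t2 : π (r * r) * π (r * r) = 1
  t1 : π (r * r) ≠ 1
  tri : π (r * r) * (π y * π (r * r) * (π y)⁻¹) * (π y * (π y * π (r * r) * (π y)⁻¹) * (π y)⁻¹) = 1
  ne : π y * π (r * r) * (π y)⁻¹ ≠ π (r * r)
  dih : ∃ s : L, s * s = 1 ∧ s * π (r * r) * (s * π (r * r)) * (s * π (r * r) * (s * π (r * r))) = 1 ∧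
    s * π (r * r) * (s * π (r * r)) ≠ 1
  conj : ∀ x : L, x * x = 1 → x ≠ 1 → ∃ g, g * π (r * r) * g⁻¹ = x
  rp : cm r (cm r (cm r c)) ∈ Λ
  yp : cm y (cm r (cm r c)) ∈ Λ
  span : ∀ m ∈ P, ∃ i j k : Fin 2,
    (c ^ (i : ℕ) * cm r c ^ (j : ℕ) * cm r (cm r c) ^ (k : ℕ))⁻¹ * m ∈ Λ
  indep : ∀ i j k : Fin 2, c ^ (i : ℕ) * cm r c ^ (j : ℕ) * cm r (cm r c) ^ (k : ℕ) ∈ Λ →
    i = 0 ∧ j = 0 ∧ k = 0
  fix : ∀ m ∈ P, cm (r * r * y) m ∈ Λ → m ∈ Λ ∨ (cm r (cm r c))⁻¹ * m ∈ Λ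

variable [Finite Y] [Finite L] [IsSimpleGroup L]

theorem exists_std (hL : Nat.card L = 168) (π : Y →* L) (hπ : Function.Surjective π)
    (h16 : ∀ m : Y, π m = 1 → m ^ 16 = 1) (Λ P : Subgroup Y) [Λ.Normal] [P.Normal] (hΛP : Λ ≤ P)
    (hsq : ∀ m ∈ P, m * m ∈ Λ) (h8 : Nat.card (P.map (QuotientGroup.mk' Λ)) = 8)
    (hker : ∀ q, π q = 1 → ∀ m ∈ P, cm q m ∈ Λ) (hne : ∃ g, ∃ m ∈ P, cm g m ∉ Λ) :
    ∃ c r y, Std π Λ P c r y := by
  set mk := QuotientGroup.mk' Λ with hmk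
  set W := P.map mk with hW
  haveI : W.Normal := Subgroup.Normal.map inferInstance _ (QuotientGroup.mk'_surjective Λ)
  have h2W : ∀ w : W, w * w = 1 := by
    rintro ⟨_, m, hm, rfl⟩
    refine Subtype.ext ?_
    show mk m * mk m = 1
    rw [← map_mul]
    exact (QuotientGroup.eq_one_iff _).2 (hsq m hm)
  letI : CommGroup W := { (inferInstance : Group W) with
    mul_comm := fun a b => by
      have hi : ∀ x : W, x⁻¹ = x := fun x => inv_eq_of_mul_eq_one_right (h2W x)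
      calc a * b = (a * b)⁻¹ := (hi _).symm
        _ = b * a := by rw [mul_inv_rev, hi, hi] }
  have hcm : ∀ g m, mk (cm g m) = 1 ↔ mk g * mk m * (mk g)⁻¹ = mk m := fun g m => by
    simp only [cm, map_mul, map_inv, mul_inv_eq_one]
  let π' : Y ⧸ Λ →* L := QuotientGroup.lift Λ π (by
    obtain ⟨g, m, hm, hgm⟩ := hne
    by_contra hle
    obtain ⟨n, hn, hn1⟩ := SetLike.not_le_iff_exists.1 hle
    have htop : (Λ.map π) = ⊤ := ((Subgroup.Normal.map inferInstance π hπ).eq_bot_or_eq_top).resolve_left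
      fun e => hn1 (MonoidHom.mem_ker.2 (mem_bot.1 (e ▸ mem_map_of_mem π hn)))
    obtain ⟨n', hn', hn''⟩ := (htop ▸ mem_top (π g) : π g ∈ Λ.map π)
    refine hgm ?_
    have hq : π (n'⁻¹ * g) = 1 := by rw [map_mul, map_inv, hn'', inv_mul_cancel]
    rw [show cm g m = n' * cm (n'⁻¹ * g) m * (m * n'⁻¹ * m⁻¹) by unfold cm; group]
    exact mul_mem (mul_mem hn' (hker _ hq m hm)) ((inferInstance : Λ.Normal).conj_mem _ (inv_mem hn') m))
  obtain ⟨ρ, happ, hinj⟩ := exists_act π' (fun g => by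
    obtain ⟨x, hx⟩ := hπ g
    exact ⟨mk x, hx⟩) W (by
    rintro _ ⟨m, hm, rfl⟩ z hz
    obtain ⟨q, rfl⟩ := QuotientGroup.mk'_surjective Λ z
    have h1 : π q = 1 := MonoidHom.mem_ker.1 hz
    have := (hcm q m).1 ((QuotientGroup.eq_one_iff _).2 (hker q h1 m hm))
    exact (mul_inv_eq_iff_eq_mul.1 this).symm)
  have hρ : Function.Injective ρ := hinj fun hle => by
    obtain ⟨g, m, hm, hgm⟩ := hne
    refine hgm ((QuotientGroup.eq_one_iff _).1 ((hcm g m).2 ?_))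
    rw [mem_center_iff.1 (hle (mem_map_of_mem mk hm)) (mk g), mul_inv_cancel_right]
  obtain ⟨c₁, q₁, p₁, r₁, y₁, s₁, F⟩ := exists_frame hL h2W h8 ρ hρ
  obtain ⟨e1, e2, e3, e4, e5, e6, e7, e8⟩ := F.relations h2W h8 hρ
  obtain ⟨c, hc, hcc⟩ := mem_map.1 c₁.2
  obtain ⟨r, hr⟩ := hπ r₁
  obtain ⟨y₀, hy0⟩ := hπ y₁
  set y := y₀ ^ 16 with hy
  have hπy : π y = y₁ := by
    rw [hy, map_pow, hy0, show (16 : ℕ) = 3 * 5 + 1 by rfl, pow_succ, pow_mul, pow_three, ← mul_assoc, e2,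
      one_pow, one_mul]
  have hrr : π (r * r) = r₁ * r₁ := by rw [map_mul, hr]
  have hrep : ∀ g (m : Y) (w : W), mk m = w → mk (cm g m) = ((ρ (π g) w * w : W) : Y ⧸ Λ) := by
    intro g m w hw
    rw [coe_mul, show π g = π' (mk g) from rfl, happ, ← hw]
    simp only [cm, map_mul, map_inv]
    congr 1
    have h := congrArg Subtype.val (h2W w)
    rw [coe_mul, coe_one, ← hw] at h
    exact inv_eq_of_mul_eq_one_right h
  have hi : ∀ a b : W, a * b * a = b := fun a b => by rw [mul_comm a b, mul_assoc, h2W, mul_one]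
  have hq : mk (cm r c) = q₁ := by rw [hrep r c c₁ hcc, hr, F.rc, hi]
  have hp : mk (cm r (cm r c)) = p₁ := by rw [hrep r _ q₁ hq, hr, F.rq, hi]
  have hmkpow : ∀ i j k : ℕ, mk (c ^ i * cm r c ^ j * cm r (cm r c) ^ k) =
      ((c₁ ^ i * q₁ ^ j * p₁ ^ k : W) : Y ⧸ Λ) := fun i j k => by
    simp only [map_mul, map_pow, hcc, hq, hp, coe_mul, SubmonoidClass.coe_pow]
  have hbij := coord_bijective h2W h8 F.indep
  refine ⟨c, r, y, hc, ?_, by rw [hrr]; exact e1, by rw [hrr]; exact e4, by rw [hrr, hπy]; exact e5,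
    by rw [hrr, hπy]; exact e6, ⟨s₁, by rw [hrr]; exact ⟨e3, e7, e8⟩⟩,
    fun x hx hx1 => by rw [hrr]; exact F.exists_conj hL h2W h8 hρ x hx hx1, ?_, ?_, ?_, ?_, ?_⟩
  · have h3 : π (y₀ ^ 3) = 1 := by rw [map_pow, hy0, pow_three, ← mul_assoc]; exact e2
    have := h16 _ h3
    rw [← pow_mul] at this
    rw [hy, ← pow_add, ← pow_add]
    exact this
  · refine (QuotientGroup.eq_one_iff _).1 ?_
    rw [show ((cm r (cm r (cm r c)) : Y) : Y ⧸ Λ) = mk (cm r (cm r (cm r c))) from rfl, hrep r _ p₁ hp, hr,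
      F.rp, h2W, coe_one]
  · refine (QuotientGroup.eq_one_iff _).1 ?_
    rw [show ((cm y (cm r (cm r c)) : Y) : Y ⧸ Λ) = mk (cm y (cm r (cm r c))) from rfl, hrep y _ p₁ hp, hπy,
      F.yp, h2W, coe_one]
  · intro m hm
    obtain ⟨e, he⟩ := hbij.2 ⟨mk m, mem_map_of_mem mk hm⟩
    obtain ⟨⟨i, j, k⟩, rfl⟩ : ∃ x, Multiplicative.ofAdd x = e := ⟨e.toAdd, ofAdd_toAdd e⟩
    refine ⟨i, j, k, QuotientGroup.eq.1 ?_⟩
    show mk _ = mk m
    rw [hmkpow]
    exact congrArg Subtype.val he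
  · intro i j k h
    have h1 : coord h2W c₁ q₁ p₁ (Multiplicative.ofAdd ((i, j, k) : ZMod 2 × ZMod 2 × ZMod 2)) = 1 := by
      refine Subtype.ext ((hmkpow i j k).symm.trans ?_)
      exact (QuotientGroup.eq_one_iff _).2 h
    have h2 := hbij.1 (h1.trans (map_one _).symm)
    simp only [ofAdd_eq_one] at h2
    exact ⟨congrArg Prod.fst h2, congrArg (fun x => x.2.1) h2, congrArg (fun x => x.2.2) h2⟩
  · intro m hm h
    have h1 := hrep (r * r * y) m ⟨mk m, mem_map_of_mem mk hm⟩ rfl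
    rw [show mk (cm (r * r * y) m) = 1 from (QuotientGroup.eq_one_iff _).2 h, map_mul, hrr, hπy] at h1
    have h2 : ρ (r₁ * r₁ * y₁) ⟨mk m, mem_map_of_mem mk hm⟩ = ⟨mk m, mem_map_of_mem mk hm⟩ := by
      have h3 := Subtype.ext (a1 := (1 : W)) h1
      exact (eq_inv_of_mul_eq_one_left h3.symm).trans (inv_eq_of_mul_eq_one_right (h2W _))
    rcases F.fix_ty h2W h8 _ h2 with h4 | h4
    · exact Or.inl ((QuotientGroup.eq_one_iff m).1 (congrArg Subtype.val h4))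
    · exact Or.inr (QuotientGroup.eq.1 (hp.trans (congrArg Subtype.val h4).symm))

end CfsgLib.PGroup.RadicalSeven
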