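import Mathlib.GroupTheory.PGroup
import Mathlib.GroupTheory.Index
import Mathlib.GroupTheory.Perm.Cycle.Type
import Mathlib.Data.ZMod.Basic
import Mathlib.Data.Fintype.Pi
import Mathlib.Data.Fintype.Prod

/-!
# A group of order 168 acting faithfully on eight elements

A group of order 168 acting faithfully on an elementary abelian group of order 8 induces every
automorphism.  We fix a basis and a few standard elements.
-/

set_option autoImplicit false
set_option linter.unusedSectionVars false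

open Subgroup

namespace CfsgLib.PGroup.RadicalSeven

universe u v

variable {W : Type u} [CommGroup W]

/-- Coordinates with respect to three elements. -/
def coord (h2 : ∀ w : W, w * w = 1) (c q p : W) : Multiplicative (ZMod 2 × ZMod 2 × ZMod 2) →* W :=
  MonoidHom.mk' (fun e => c ^ e.toAdd.1.val * q ^ e.toAdd.2.1.val * p ^ e.toAdd.2.2.val) fun a b => by
    have hx : ∀ (x : W) (i j : ZMod 2), x ^ (i + j).val = x ^ i.val * x ^ j.val := by
      intro x i j
      rw [← pow_add, ZMod.val_add, ← pow_eq_pow_mod _ (show x ^ 2 = 1 by rw [pow_two]; exact h2 x)]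
    simp only [toAdd_mul, Prod.fst_add, Prod.snd_add, hx]
    simp only [mul_assoc, mul_comm, mul_left_comm]

theorem coord_apply (h2 : ∀ w : W, w * w = 1) (c q p : W) (e : ZMod 2 × ZMod 2 × ZMod 2) :
    coord h2 c q p (Multiplicative.ofAdd e) = c ^ e.1.val * q ^ e.2.1.val * p ^ e.2.2.val := rfl

/-- Three independent elements. -/
def Indep (c q p : W) : Prop :=
  c ≠ 1 ∧ q ≠ 1 ∧ q ≠ c ∧ p ≠ 1 ∧ p ≠ c ∧ p ≠ q ∧ p ≠ c * q

variable [Finite W]

theorem coord_bijective (h2 : ∀ w : W, w * w = 1) (h8 : Nat.card W = 8) {c q p : W} (h : Indep c q p) :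
    Function.Bijective (coord h2 c q p) := by
  have hinj : Function.Injective (coord h2 c q p) := by
    rw [injective_iff_map_eq_one]
    intro e he
    obtain ⟨⟨i, j, k⟩, rfl⟩ : ∃ x, Multiplicative.ofAdd x = e := ⟨e.toAdd, ofAdd_toAdd e⟩
    rw [coord_apply] at he
    have hi : ∀ x : W, x⁻¹ = x := fun x => inv_eq_of_mul_eq_one_right (h2 x)
    obtain ⟨hc, hq, hqc, hp, hpc, hpq, hpcq⟩ := h
    fin_cases i <;> fin_cases j <;> fin_cases k <;> simp [ZMod.val] at he
    · rfl
    · exact absurd he hp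
    · exact absurd he hq
    · exact absurd (by rw [eq_inv_of_mul_eq_one_right he, hi]) hpq
    · exact absurd he hc
    · exact absurd (by rw [eq_inv_of_mul_eq_one_right he, hi]) hpc
    · exact absurd (by rw [eq_inv_of_mul_eq_one_right he, hi]) hqc
    · exact absurd (by rw [eq_inv_of_mul_eq_one_right he, hi]) hpcq
  refine ⟨hinj, fun w => ?_⟩
  haveI : Fintype W := Fintype.ofFinite W
  have := (Fintype.bijective_iff_injective_and_card (coord h2 c q p)).2 ⟨hinj, by
    rw [← Nat.card_eq_fintype_card (α := W), h8]; rfl⟩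
  exact this.2 w

theorem exists_indep (h2 : ∀ w : W, w * w = 1) (h8 : Nat.card W = 8) : ∃ c q p : W, Indep c q p := by
  classical
  haveI : Fintype W := Fintype.ofFinite W
  have hcard : Fintype.card W = 8 := by rw [← Nat.card_eq_fintype_card, h8]
  have key : ∀ s : Finset W, s.card < 8 → ∃ x, x ∉ s := fun s hs => by
    by_contra h
    push Not at h
    exact absurd (hcard ▸ Finset.eq_univ_of_forall h ▸ Finset.card_univ) (by omega)
  obtain ⟨c, hc⟩ := key {1} (by simp)
  obtain ⟨q, hq⟩ := key {1, c} (lt_of_le_of_lt (Finset.card_insert_le _ _) (by simp))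
  obtain ⟨p, hp⟩ := key {1, c, q, c * q} (lt_of_le_of_lt (Finset.card_insert_le _ _)
    (lt_of_le_of_lt (Nat.add_le_add_right (Finset.card_insert_le _ _) 1)
      (lt_of_le_of_lt (Nat.add_le_add_right (Nat.add_le_add_right (Finset.card_insert_le _ _) 1) 1)
        (by simp))))
  simp only [Finset.mem_insert, Finset.mem_singleton, not_or] at hc hq hp
  exact ⟨c, q, p, hc, hq.1, hq.2, hp.1, hp.2.1, hp.2.2.1, hp.2.2.2⟩

theorem aut_ext (h2 : ∀ w : W, w * w = 1) (h8 : Nat.card W = 8) {c q p : W} (h : Indep c q p)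
    {σ τ : MulAut W} (hc : σ c = τ c) (hq : σ q = τ q) (hp : σ p = τ p) : σ = τ := by
  refine MulEquiv.ext fun w => ?_
  obtain ⟨e, rfl⟩ := (coord_bijective h2 h8 h).2 w
  obtain ⟨x, rfl⟩ : ∃ x, Multiplicative.ofAdd x = e := ⟨e.toAdd, ofAdd_toAdd e⟩
  simp only [coord_apply, map_mul, map_pow, hc, hq, hp]

variable {L : Type v} [Group L] [Finite L]

theorem act_surjective (hL : Nat.card L = 168) (h2 : ∀ w : W, w * w = 1) (h8 : Nat.card W = 8)
    (ρ : L →* MulAut W) (hρ : Function.Injective ρ) : Function.Surjective ρ := by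
  classical
  obtain ⟨c, q, p, h⟩ := exists_indep h2 h8
  let e := MulEquiv.ofBijective _ (coord_bijective h2 h8 h)
  let T := {x : (ZMod 2 × ZMod 2 × ZMod 2) × (ZMod 2 × ZMod 2 × ZMod 2) × (ZMod 2 × ZMod 2 × ZMod 2) //
    x.1 ≠ 0 ∧ x.2.1 ≠ 0 ∧ x.2.1 ≠ x.1 ∧ x.2.2 ≠ 0 ∧ x.2.2 ≠ x.1 ∧ x.2.2 ≠ x.2.1 ∧ x.2.2 ≠ x.1 + x.2.1}
  have hT : Nat.card T = 168 := by rw [Nat.card_eq_fintype_card]; decide +kernel
  haveI : Finite (MulAut W) := Finite.of_injective (fun σ : MulAut W => (σ : W → W))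
    fun σ τ h => MulEquiv.ext (congrFun h)
  obtain ⟨hc, hq, hqc, hp, hpc, hpq, hpcq⟩ := h
  let f : MulAut W → T := fun σ =>
    ⟨((e.symm (σ c)).toAdd, (e.symm (σ q)).toAdd, (e.symm (σ p)).toAdd), by
      have hi : ∀ x y : W, x ≠ y → (e.symm (σ x)).toAdd ≠ (e.symm (σ y)).toAdd := fun x y hne h' =>
        hne (σ.injective (e.symm.injective (Multiplicative.toAdd.injective h')))
      have h1 : (e.symm (σ 1)).toAdd = 0 := by rw [map_one, map_one]; rfl
      have h3 : (e.symm (σ (c * q))).toAdd = (e.symm (σ c)).toAdd + (e.symm (σ q)).toAdd := by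
        rw [map_mul, map_mul]; rfl
      exact ⟨h1 ▸ hi _ _ hc, h1 ▸ hi _ _ hq, hi _ _ hqc, h1 ▸ hi _ _ hp, hi _ _ hpc, hi _ _ hpq,
        h3 ▸ hi _ _ hpcq⟩⟩
  have hf : Function.Injective f := by
    intro σ τ h'
    have h'' := congrArg Subtype.val h'
    simp only [f, Prod.mk.injEq] at h''
    exact aut_ext h2 h8 ⟨hc, hq, hqc, hp, hpc, hpq, hpcq⟩
      (e.symm.injective (Multiplicative.toAdd.injective h''.1))
      (e.symm.injective (Multiplicative.toAdd.injective h''.2.1))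
      (e.symm.injective (Multiplicative.toAdd.injective h''.2.2))
  have hle := Nat.card_le_card_of_injective f hf
  haveI : Fintype L := Fintype.ofFinite L
  haveI : Fintype (MulAut W) := Fintype.ofFinite (MulAut W)
  refine ((Fintype.bijective_iff_injective_and_card ρ).2 ⟨hρ, ?_⟩).2
  have := Nat.card_le_card_of_injective ρ hρ
  rw [← Nat.card_eq_fintype_card, ← Nat.card_eq_fintype_card]
  omega

/-- An element with prescribed values on a basis. -/
theorem exists_elem (hL : Nat.card L = 168) (h2 : ∀ w : W, w * w = 1) (h8 : Nat.card W = 8)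
    (ρ : L →* MulAut W) (hρ : Function.Injective ρ) {c q p c' q' p' : W} (h : Indep c q p)
    (h' : Indep c' q' p') : ∃ g, ρ g c = c' ∧ ρ g q = q' ∧ ρ g p = p' := by
  let e := MulEquiv.ofBijective _ (coord_bijective h2 h8 h)
  let e' := MulEquiv.ofBijective _ (coord_bijective h2 h8 h')
  obtain ⟨g, hg⟩ := act_surjective hL h2 h8 ρ hρ (e.symm.trans e')
  have key : ∀ (x x' : W) (v : Multiplicative (ZMod 2 × ZMod 2 × ZMod 2)), e v = x → e' v = x' →
      ρ g x = x' := fun x x' v hx hx' => by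
    rw [hg, ← hx, MulEquiv.trans_apply, MulEquiv.symm_apply_apply, hx']
  refine ⟨g, key c c' (Multiplicative.ofAdd (1, 0, 0)) ?_ ?_, key q q' (Multiplicative.ofAdd (0, 1, 0)) ?_ ?_,
    key p p' (Multiplicative.ofAdd (0, 0, 1)) ?_ ?_⟩ <;>
    simp [e, e', coord_apply, ZMod.val_one]

/-- A basis with the standard elements. -/
structure Frame (ρ : L →* MulAut W) (c q p : W) (r y s : L) : Prop where
  indep : Indep c q p
  rc : ρ r c = c * q
  rq : ρ r q = q * p
  rp : ρ r p = p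
  yc : ρ y c = q
  yq : ρ y q = c * q
  yp : ρ y p = p
  sc : ρ s c = q
  sq : ρ s q = c
  sp : ρ s p = p

theorem exists_frame (hL : Nat.card L = 168) (h2 : ∀ w : W, w * w = 1) (h8 : Nat.card W = 8)
    (ρ : L →* MulAut W) (hρ : Function.Injective ρ) :
    ∃ c q p r y s, Frame ρ c q p r y s := by
  obtain ⟨c, q, p, h⟩ := exists_indep h2 h8
  have hh := h
  obtain ⟨hc, hq, hqc, hp, hpc, hpq, hpcq⟩ := h
  have hcc : ∀ a b : W, a * (a * b) = b := fun a b => by rw [← mul_assoc, h2, one_mul]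
  obtain ⟨r, r1, r2, r3⟩ := exists_elem hL h2 h8 ρ hρ hh
    (c' := c * q) (q' := q * p) (p' := p) ⟨fun e => hqc (by
      calc q = c * (c * q) := (hcc c q).symm
        _ = c := by rw [e, mul_one]), fun e => hpq (by
      calc p = q * (q * p) := (hcc q p).symm
        _ = q := by rw [e, mul_one]), fun e => hpc (mul_left_cancel (e.trans (mul_comm c q))),
      hp, hpcq, fun e => hq (mul_eq_right.1 e.symm), fun e => hc (by
        have e2 : c * q * (q * p) = c * p := by rw [mul_assoc, hcc]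
        rw [e2] at e
        exact mul_eq_right.1 e.symm)⟩
  obtain ⟨y, y1, y2, y3⟩ := exists_elem hL h2 h8 ρ hρ hh
    (c' := q) (q' := c * q) (p' := p) ⟨hq, fun e => hqc (by
      calc q = c * (c * q) := (hcc c q).symm
        _ = c := by rw [e, mul_one]), fun e => hc (mul_eq_right.1 e), hp, hpq, hpcq, fun e => hpc (by
      rw [e, mul_comm c q, hcc])⟩
  obtain ⟨s, s1, s2, s3⟩ := exists_elem hL h2 h8 ρ hρ hh
    (c' := q) (q' := c) (p' := p) ⟨hq, hc, fun e => hqc e.symm, hp, hpq, hpc, fun e => hpcq (e.trans (mul_comm q c))⟩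
  exact ⟨c, q, p, r, y, s, hh, r1, r2, r3, y1, y2, y3, s1, s2, s3⟩

variable {ρ : L →* MulAut W} {c q p : W} {r y s : L}

theorem Frame.r2 (h2 : ∀ w : W, w * w = 1) (F : Frame ρ c q p r y s) :
    ρ (r * r) c = c * p ∧ ρ (r * r) q = q ∧ ρ (r * r) p = p := by
  simp only [map_mul, MulAut.mul_apply, F.rc, F.rq, F.rp]
  refine ⟨?_, ?_, trivial⟩
  · rw [mul_assoc c q, ← mul_assoc q q, h2, one_mul]
  · rw [mul_assoc, h2, mul_one]

/-- The relations between the standard elements. -/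
theorem Frame.relations (h2 : ∀ w : W, w * w = 1) (h8 : Nat.card W = 8) (hρ : Function.Injective ρ)
    (F : Frame ρ c q p r y s) :
    r * r * (r * r) = 1 ∧ y * y * y = 1 ∧ s * s = 1 ∧ r * r ≠ 1 ∧
      r * r * (y * (r * r) * y⁻¹) * (y * (y * (r * r) * y⁻¹) * y⁻¹) = 1 ∧
      y * (r * r) * y⁻¹ ≠ r * r ∧ (s * (r * r)) * (s * (r * r)) * ((s * (r * r)) * (s * (r * r))) = 1 ∧
      (s * (r * r)) * (s * (r * r)) ≠ 1 := by
  have hh := F.indep
  obtain ⟨hc, hq, hqc, hp, hpc, hpq, hpcq⟩ := F.indep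
  obtain ⟨tc, tq, tp⟩ := F.r2 h2
  have hcc : ∀ a b : W, a * (a * b) = b := fun a b => by rw [← mul_assoc, h2, one_mul]
  have hy3 : y * y * y = 1 := by
    refine hρ (aut_ext h2 h8 hh ?_ ?_ ?_) <;> simp only [map_mul, map_one, MulAut.mul_apply, MulAut.one_apply,
      F.yc, F.yq, F.yp]
    all_goals simp only [F.yc, F.yq, mul_comm, mul_left_comm, mul_assoc, h2, hcc, mul_one]
  have hyi : y⁻¹ = y * y := inv_eq_of_mul_eq_one_left hy3
  set t := r * r with ht
  have hst : ρ ((s * t) * (s * t)) c = c * p := by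
    simp only [map_mul, MulAut.mul_apply, tc, tp, tq, F.sc, F.sq, F.sp]
  have hne : ∀ a b : W, a * b = a → b = 1 := fun a b e => mul_eq_left.1 e
  refine ⟨?_, hy3, ?_, ?_, ?_, ?_, ?_, ?_⟩
  · refine hρ (aut_ext h2 h8 hh ?_ ?_ ?_) <;> simp only [map_mul, map_one, MulAut.mul_apply, MulAut.one_apply,
      tc, tq, tp]
    rw [mul_assoc, h2, mul_one]
  · refine hρ (aut_ext h2 h8 hh ?_ ?_ ?_) <;> simp only [map_mul, map_one, MulAut.mul_apply, MulAut.one_apply,
      F.sc, F.sq, F.sp]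
  · intro e
    rw [e, map_one, MulAut.one_apply] at tc
    exact hp (hne c p tc.symm)
  · rw [hyi]
    refine hρ (aut_ext h2 h8 hh ?_ ?_ ?_) <;> simp only [map_mul, map_one, MulAut.mul_apply, MulAut.one_apply,
      F.yc, F.yq, F.yp, tc, tq, tp, mul_comm, mul_left_comm, mul_assoc, h2, hcc, mul_one]
  · intro e
    have e' := congrArg (fun g => ρ g q) e
    simp only [hyi] at e'
    simp only [map_mul, MulAut.mul_apply, F.yc, F.yq, F.yp, tq, tc, tp, mul_comm, mul_left_comm, mul_assoc,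
      h2, hcc, mul_one] at e'
    first
      | exact hp (hne q p e')
      | exact hp (mul_eq_right.1 e')
  · refine hρ (aut_ext h2 h8 hh ?_ ?_ ?_) <;> simp only [map_mul, map_one, MulAut.mul_apply, MulAut.one_apply,
      F.sc, F.sq, F.sp, tc, tq, tp, mul_comm, mul_left_comm, mul_assoc, h2, hcc, mul_one]
  · intro e
    rw [e, map_one, MulAut.one_apply] at hst
    exact hp (hne c p hst.symm)

/-- The fixed points of the element of order three above the transvection. -/
theorem Frame.fix_ty (h2 : ∀ w : W, w * w = 1) (h8 : Nat.card W = 8) (F : Frame ρ c q p r y s) (w : W)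
    (hw : ρ (r * r * y) w = w) : w = 1 ∨ w = p := by
  obtain ⟨tc, tq, tp⟩ := F.r2 h2
  obtain ⟨e, rfl⟩ := (coord_bijective h2 h8 F.indep).2 w
  obtain ⟨⟨i, j, k⟩, rfl⟩ : ∃ x, Multiplicative.ofAdd x = e := ⟨e.toAdd, ofAdd_toAdd e⟩
  have h1 : ρ (r * r * y) c = q := by rw [map_mul, MulAut.mul_apply, F.yc, tq]
  have h2' : ρ (r * r * y) q = c * q * p := by
    rw [map_mul, MulAut.mul_apply, F.yq, map_mul, tc, tq, mul_right_comm]
  have h3 : ρ (r * r * y) p = p := by rw [map_mul, MulAut.mul_apply, F.yp, tp]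
  rw [coord_apply] at hw ⊢
  simp only [map_mul (ρ (r * r * y)), map_pow, h1, h2', h3] at hw
  obtain ⟨hc, hq, hqc, hp, hpc, hpq, hpcq⟩ := F.indep
  have hcc : ∀ a b : W, a * (a * b) = b := fun a b => by rw [← mul_assoc, h2, one_mul]
  have hi : ∀ {a b : W}, a * b = 1 → a = b := fun {a b} e =>
    (eq_inv_of_mul_eq_one_left e).trans (inv_eq_of_mul_eq_one_right (h2 b))
  fin_cases i <;> fin_cases j <;> fin_cases k <;>
    simp [ZMod.val, mul_comm, mul_left_comm, mul_assoc, h2, hcc] at hw ⊢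
  all_goals grind

/-- Every involution is a conjugate of the standard one. -/
theorem Frame.exists_conj (hL : Nat.card L = 168) (h2 : ∀ w : W, w * w = 1) (h8 : Nat.card W = 8)
    (hρ : Function.Injective ρ) (F : Frame ρ c q p r y s) (x : L) (hx : x * x = 1) (hx1 : x ≠ 1) :
    ∃ g, g * (r * r) * g⁻¹ = x := by
  obtain ⟨tc, tq, tp⟩ := F.r2 h2
  have hcc : ∀ a b : W, a * (a * b) = b := fun a b => by rw [← mul_assoc, h2, one_mul]
  obtain ⟨a, ha⟩ : ∃ a, ρ x a ≠ a := by
    by_contra h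
    push Not at h
    exact hx1 (hρ (MulEquiv.ext fun a => by rw [map_one, h a]; rfl))
  let δ : W →* W := MonoidHom.mk' (fun u => u * ρ x u) fun u v => by rw [map_mul, mul_mul_mul_comm]
  have hxx : ∀ u, ρ x (ρ x u) = u := fun u => by rw [← MulAut.mul_apply, ← map_mul, hx, map_one]; rfl
  have hfix : ∀ u, u ∈ δ.ker ↔ ρ x u = u := fun u => by
    rw [MonoidHom.mem_ker]
    show u * ρ x u = 1 ↔ _
    exact ⟨fun e => by rw [← hcc u (ρ x u), e, mul_one], fun e => by rw [e, h2]⟩
  have hrk : δ.range ≤ δ.ker := by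
    rintro _ ⟨u, rfl⟩
    rw [hfix]
    show ρ x (u * ρ x u) = u * ρ x u
    rw [map_mul, hxx, mul_comm]
  have hprod : Nat.card δ.ker * Nat.card δ.range = 8 := by rw [← h8, ← index_ker, card_mul_index]
  have hker : 2 < Nat.card δ.ker := by
    have h1 := card_le_of_le hrk
    by_contra h
    have h4 : Nat.card δ.ker * Nat.card δ.range ≤ 2 * 2 := Nat.mul_le_mul (by omega) (by omega)
    omega
  set P := a * ρ x a with hP
  have hPk : P ∈ δ.ker := hrk ⟨a, rfl⟩
  obtain ⟨Q', hQ', hQ1, hQP⟩ : ∃ Q' ∈ δ.ker, Q' ≠ 1 ∧ Q' ≠ P := by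
    by_contra h
    push Not at h
    have hs : (δ.ker : Set W) ⊆ {1, P} := fun u hu => by
      rcases eq_or_ne u 1 with e | e
      · exact Or.inl e
      · exact Or.inr (h u hu e)
    have := (Set.ncard_le_ncard hs (Set.toFinite _)).trans (Set.ncard_insert_le _ _)
    rw [Set.ncard_singleton, ← Nat.card_coe_set_eq] at this
    change Nat.card δ.ker ≤ 2 at this
    omega
  have hP1 : P ≠ 1 := fun e => ha ((hfix a).1 (MonoidHom.mem_ker.2 e))
  have hak : a ∉ δ.ker := fun e => ha ((hfix a).1 e)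
  have hindep : Indep a Q' P := by
    refine ⟨fun e => hak (e ▸ one_mem _), hQ1, fun e => hak (e ▸ hQ'), hP1, fun e => hak (e ▸ hPk),
      hQP.symm, fun e => hak ?_⟩
    have hm := mul_mem hPk (inv_mem hQ')
    rwa [e, mul_inv_cancel_right] at hm
  obtain ⟨g, gc, gq, gp⟩ := exists_elem hL h2 h8 ρ hρ F.indep hindep
  refine ⟨g, mul_inv_eq_of_eq_mul (hρ (aut_ext h2 h8 F.indep ?_ ?_ ?_))⟩ <;>
    simp only [map_mul, MulAut.mul_apply] at tc tq tp ⊢
  · rw [tc, map_mul, gc, gp, hP, hcc]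
  · rw [tq, gq, (hfix Q').1 hQ']
  · rw [tp, gp, (hfix P).1 hPk]

end CfsgLib.PGroup.RadicalSeven
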