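import Cfsg.Agent.Lib.PGroup.RadicalSeven.Section
import Cfsg.Agent.Lib.PGroup.RadicalSeven.Linear
import Cfsg.Agent.Lib.Fusion.System.RankThree.OverQuotient
import Mathlib.GroupTheory.Subgroup.Simple

/-!
# A transvection and an element of order three

An element over a transvection, an element of order three permuting three transvections with common
centre and a suitable abelian subgroup give an elementary abelian section of order 32.
-/

set_option autoImplicit false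
set_option linter.unusedSectionVars false
set_option linter.style.haveILetI false

open Subgroup

namespace CfsgLib.PGroup.RadicalSeven

universe u v

variable {Y : Type u} [Group Y] [Finite Y] {L : Type v} [Group L] [Finite L]

theorem false_of_triangle (h4 : Cfsg.SectionalPRankLE 2 4 Y) (π : Y →* L) (B N : Subgroup Y)
    (hBk : B ≤ π.ker) (hNB : N ≤ B) (hBsq : ∀ b ∈ B, b * b ∈ N)
    (hBc : ∀ a ∈ B, ∀ b ∈ B, a * b = b * a) (hcard : 8 * Nat.card N ≤ Nat.card B) (s y : Y)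
    (hs : s * s ∈ N) (hs1 : π s ≠ 1) (hy : y * y * y = 1) (hne : π y * π s * (π y)⁻¹ ≠ π s)
    (htri : π s * (π y * π s * (π y)⁻¹) * (π y * (π y * π s * (π y)⁻¹) * (π y)⁻¹) = 1)
    (hsB : ∀ b ∈ B, s * b * s⁻¹ * b⁻¹ ∈ N) (hyB : ∀ b ∈ B, y * b * y⁻¹ ∈ B)
    (hyN : ∀ n ∈ N, y * n * y⁻¹ ∈ N)
    (hfix : ∀ m : Y, π m = 1 → s * y * m = m * (s * y) → m ∈ B) : False := by
  set t := y * s * y⁻¹ with ht
  set e := y * t * y⁻¹ with he
  have hey : y * e * y⁻¹ = s := by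
    rw [he, ht, show y * (y * (y * s * y⁻¹) * y⁻¹) * y⁻¹ = (y * y * y) * s * (y * y * y)⁻¹ by group,
      hy, one_mul, inv_one, mul_one]
  have hyy : ∀ b ∈ B, y⁻¹ * b * y ∈ B := fun b hb => by
    have h := hyB _ (hyB b hb)
    rwa [show y * (y * b * y⁻¹) * y⁻¹ = (y * y * y) * (y⁻¹ * b * y) * (y * y * y)⁻¹ by group, hy,
      one_mul, inv_one, mul_one] at h
  have hconj : ∀ {g : Y}, (∀ b ∈ B, g * b * g⁻¹ * b⁻¹ ∈ N) →
      ∀ b ∈ B, y * g * y⁻¹ * b * (y * g * y⁻¹)⁻¹ * b⁻¹ ∈ N := fun {g} hg b hb => by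
    have := hyN _ (hg _ (hyy b hb))
    rwa [show y * (g * (y⁻¹ * b * y) * g⁻¹ * (y⁻¹ * b * y)⁻¹) * y⁻¹ =
      y * g * y⁻¹ * b * (y * g * y⁻¹)⁻¹ * b⁻¹ by group] at this
  have htB := hconj hsB
  have heB := hconj htB
  have htt : t * t ∈ N := by
    rw [show t * t = y * (s * s) * y⁻¹ by rw [ht]; group]; exact hyN _ hs
  have hee : e * e ∈ N := by
    rw [show e * e = y * (t * t) * y⁻¹ by rw [he]; group]; exact hyN _ htt
  set μ := s * t * e with hμ
  have hμ1 : π μ = 1 := by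
    rw [hμ, he, ht]; simpa [map_mul, map_inv] using htri
  have hyμ : y * μ * y⁻¹ = t * e * s := by
    conv_rhs => rw [← hey]
    rw [hμ, he, ht]; group
  have hsy : s * y * μ = μ * (s * y) := by
    calc s * y * μ = s * (y * μ * y⁻¹) * y := by group
      _ = μ * (s * y) := by rw [hyμ, hμ]; group
  have hμB := hfix μ hμ1 hsy
  refine false_of_two h4 π B N hBk hNB hBsq (fun a ha b hb => ?_) s t hs1 ?_ ?_ ?_ hs htt ?_ hsB htB hcard
  · rw [hBc a ha b hb, mul_inv_cancel_right, mul_inv_cancel]; exact one_mem N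
  · rw [ht, map_mul, map_mul, map_inv]
    exact fun h => hs1 (conj_eq_one_iff.1 h)
  · intro h
    rw [ht, map_mul, map_mul, map_inv] at h
    rw [h, one_mul, conj_eq_one_iff, conj_eq_one_iff] at htri
    exact hs1 htri
  · rw [ht, map_mul, map_mul, map_inv]; exact fun h => hne h.symm
  · rw [show s * t = μ * e⁻¹ by rw [hμ]; group,
      show μ * e⁻¹ * (μ * e⁻¹) = (μ * μ) * (μ⁻¹ * (e⁻¹ * μ * e⁻¹⁻¹)) * (e * e)⁻¹ by group]
    refine mul_mem (mul_mem (hBsq μ hμB) ?_) (inv_mem hee)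
    have h1 := heB μ hμB
    have hn : ∀ n ∈ N, e⁻¹ * n * e⁻¹⁻¹ ∈ N := fun n hn => by
      have h2 := mul_mem (heB n (hNB hn)) hn
      rw [inv_mul_cancel_right] at h2
      rw [show e⁻¹ * n * e⁻¹⁻¹ = (e * e)⁻¹ * (e * n * e⁻¹) * (e * e) by group]
      exact mul_mem (mul_mem (inv_mem hee) h2) hee
    have h3 := hn _ (inv_mem h1)
    have h4' : μ⁻¹ * (e⁻¹ * μ * e⁻¹⁻¹) = μ⁻¹ * (e⁻¹ * (e * μ * e⁻¹ * μ⁻¹)⁻¹ * e⁻¹⁻¹) * μ := by group
    rw [h4', hBc _ (inv_mem hμB) _ (hNB h3), mul_assoc, inv_mul_cancel, mul_one]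
    exact h3

end CfsgLib.PGroup.RadicalSeven
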