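import Cfsg.Agent.Lib.PGroup.RadicalSeven.Act
import Cfsg.Agent.Lib.PGroup.RadicalSeven.Triangle
import Cfsg.Agent.Lib.PGroup.RadicalFive.Sit

/-!
# No cyclic part of order eight below the simple group of order 168
-/

set_option autoImplicit false
set_option linter.unusedSectionVars false
set_option linter.style.haveILetI false

open Subgroup

namespace CfsgLib.PGroup.RadicalSeven

universe u v

variable {Y : Type u} [Group Y]

/-- The commutation trick: three conjugate elements over a triangle whose squares are central. -/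
theorem sq_sq_of_triangle {a b y : Y} (hb : b = y * a * y⁻¹) (hy : y * y * y = 1) {ζ : Y}
    (hζ : a * b * (y * b * y⁻¹) = ζ) (hζc : ∀ g ∈ ({a, b, y * b * y⁻¹} : Set Y), ζ * g = g * ζ)
    (hac : ∀ g ∈ ({a, b, y} : Set Y), a * a * g = g * (a * a)) :
    (ζ * ζ * ((a * a) * (a * a) * (a * a))⁻¹) * (ζ * ζ * ((a * a) * (a * a) * (a * a))⁻¹) = 1 := by
  set A := a * a with hA
  have hbb : b * b = A := by
    rw [hb, show y * a * y⁻¹ * (y * a * y⁻¹) = y * (a * a) * y⁻¹ by group,
      ← hac y (by simp), mul_inv_cancel_right]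
  set e := y * b * y⁻¹ with he
  have hee : e * e = A := by
    rw [he, show y * b * y⁻¹ * (y * b * y⁻¹) = y * (b * b) * y⁻¹ by group, hbb,
      ← hac y (by simp), mul_inv_cancel_right]
  have hea : y * e * y⁻¹ = a := by
    rw [he, hb, show y * (y * (y * a * y⁻¹) * y⁻¹) * y⁻¹ = (y * y * y) * a * (y * y * y)⁻¹ by group, hy,
      one_mul, inv_one, mul_one]
  have hab : a * b = ζ * e⁻¹ := by rw [← hζ]; group
  have hAa : Commute A a := hac a (by simp)
  have hAb : Commute A b := hac b (by simp)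
  have hζa : Commute ζ a := hζc a (by simp)
  have hζb : Commute ζ b := hζc b (by simp)
  have hζe : Commute ζ e := hζc e (by simp)
  set c := ζ * ζ * (A * A * A)⁻¹ with hc
  have hca : Commute c a := ((hζa.mul_left hζa).mul_left ((hAa.mul_left hAa).mul_left hAa).inv_left)
  have hcb : Commute c b := ((hζb.mul_left hζb).mul_left ((hAb.mul_left hAb).mul_left hAb).inv_left)
  have h1 : a * b * (a * b) = c * (A * A) := by
    calc a * b * (a * b) = ζ * (e⁻¹ * ζ) * e⁻¹ := by rw [hab]; group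
      _ = ζ * ζ * (e * e)⁻¹ := by rw [← hζe.inv_right.eq]; group
      _ = c * (A * A) := by rw [hee, hc]; group
  have h2 : b * a = c * (a * b) := by
    calc b * a = a⁻¹ * (a * b * (a * b)) * b⁻¹ := by group
      _ = a⁻¹ * (c * (a * a * (b * b))) * b⁻¹ := by rw [h1, hbb]
      _ = c * (a * b) := by rw [← mul_assoc a⁻¹, ← hca.inv_right.eq]; group
  have h3 : b * A = c * c * (A * b) := by
    calc b * A = (b * a) * a := by rw [hA, mul_assoc]
      _ = c * a * (b * a) := by conv_lhs => rw [h2]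
                                group
      _ = c * (a * c) * (a * b) := by rw [h2]; group
      _ = c * c * (A * b) := by rw [← hca.eq, hA]; group
  rw [← hAb.eq] at h3
  exact mul_eq_right.1 h3.symm

variable [Finite Y] {L : Type v} [Group L] [Finite L] [IsSimpleGroup L]

/-- In a central extension with cyclic kernel of order four lifts of involutions have squares of order
at most two. -/
theorem sq_sq_of_central (hL : Nat.card L = 168) (π : Y →* L) (hker : ∀ q, π q = 1 → ∀ g, q * g = g * q)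
    (h4 : ∀ q, π q = 1 → q * q * (q * q) = 1) {t y₀ : L} (ht : t * t = 1) (hy : y₀ * y₀ * y₀ = 1)
    (htri : t * (y₀ * t * y₀⁻¹) * (y₀ * (y₀ * t * y₀⁻¹) * y₀⁻¹) = 1) {a y : Y} (ha : π a = t)
    (hπy : π y = y₀) (hy3 : y * y * y = 1) : (a * a) * (a * a) = 1 := by
  set b := y * a * y⁻¹ with hb
  set ζ := a * b * (y * b * y⁻¹) with hζ
  have hζk : π ζ = 1 := by rw [hζ, hb]; simp only [map_mul, map_inv, ha, hπy]; exact htri
  have hAk : π (a * a) = 1 := by rw [map_mul, ha, ht]
  have h := sq_sq_of_triangle hb hy3 rfl (fun g _ => hker ζ hζk g) (fun g _ => hker _ hAk g)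
  set A := a * a
  have hc : Commute ζ A := hker ζ hζk A
  have e1 : (ζ * ζ * (A * A * A)⁻¹) * (ζ * ζ * (A * A * A)⁻¹) =
      (ζ * ζ * (ζ * ζ)) * ((A * A * A) * (A * A * A))⁻¹ := by
    have hc3 : Commute (ζ * ζ) (A * A * A)⁻¹ :=
      (((hc.mul_left hc).mul_right (hc.mul_left hc)).mul_right (hc.mul_left hc)).inv_right
    rw [hc3.symm.mul_mul_mul_comm, mul_inv_rev (A * A * A) (A * A * A)]
  rw [e1, h4 ζ hζk, one_mul, inv_eq_one] at h
  have h6 : A * A * A * (A * A * A) = (A * A * (A * A)) * (A * A) := by group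
  rw [h6, h4 A hAk, one_mul] at h
  exact h

/-- The central factor of order four. -/
theorem false_of_cyclic (h4 : Cfsg.SectionalPRankLE 2 4 Y) (hL : Nat.card L = 168) (π : Y →* L)
    (hπ : Function.Surjective π) (hc : ∀ a b : Y, π a = 1 → π b = 1 → a * b = b * a)
    (h32 : Nat.card π.ker = 32) (u : Y) (hu : π u = 1) (huc : ∀ g, u * g = g * u)
    (hu4 : u * u * (u * u) = 1) (hv : u * u ≠ 1) (Ω : Subgroup Y) [Ω.Normal] (hΩk : Ω ≤ π.ker)
    (hΩ2 : ∀ z ∈ Ω, z * z = 1) (hvΩ : u * u ∈ Ω)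
    (hgen : ∀ m, π m = 1 → ∃ k : ℕ, ∃ z ∈ Ω, m = u ^ k * z) (hΩ16 : Nat.card Ω = 16)
    (hne : ∃ g, ∃ m ∈ Ω, cm g m ∉ zpowers (u * u)) : False := by
  set v := u * u with hv'
  have hvc : ∀ g, v * g = g * v := fun g => ((show Commute u g from huc g).mul_left (huc g)).eq
  haveI : (zpowers v).Normal := ⟨fun n hn g => by
    obtain ⟨k, rfl⟩ := mem_zpowers_iff.1 hn
    rw [← ((show Commute v g from hvc g).zpow_left k).eq, mul_inv_cancel_right]
    exact zpow_mem (mem_zpowers v) k⟩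
  have hk4 : ∀ m, π m = 1 → m * m * (m * m) = 1 := by
    intro m hm
    obtain ⟨k, z, hz, rfl⟩ := hgen m hm
    have h1 : Commute (u ^ k) z := ((show Commute u z from huc z).pow_left k)
    have h2 : u ^ k * z * (u ^ k * z) = v ^ k := by
      rw [h1.symm.mul_mul_mul_comm, hΩ2 z hz, mul_one, hv', (Commute.refl u).mul_pow]
    rw [h2, ← (Commute.refl v).mul_pow, hu4, one_pow]
  have h8 : Nat.card (Ω.map (QuotientGroup.mk' (zpowers v))) = 8 := by
    have h := CfsgLib.PGroup.RadicalFive.card_comap_mk (zpowers v) (Ω.map (QuotientGroup.mk' (zpowers v)))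
    rw [comap_map_eq, QuotientGroup.ker_mk', sup_eq_left.2 (zpowers_le.2 hvΩ), hΩ16, Nat.card_zpowers,
      orderOf_eq_prime (p := 2) (hp := ⟨Nat.prime_two⟩) (by rw [pow_two]; exact hu4) hv] at h
    omega
  obtain ⟨c, r, y, S⟩ := exists_std hL π hπ (fun m hm => by
      rw [show m ^ 16 = (m * m * (m * m)) ^ 4 by simp [pow_succ, mul_assoc], hk4 m hm, one_pow])
    (zpowers v) Ω (zpowers_le.2 hvΩ) (fun m hm => by rw [hΩ2 m hm]; exact one_mem _) h8
    (fun q hq m hm => by
      rw [cm, hc q m hq (MonoidHom.mem_ker.1 (hΩk hm)), mul_inv_cancel_right, mul_inv_cancel]; exact one_mem _)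
    hne
  set q := cm r c with hqd
  set p := cm r q with hpd
  have hqΩ : q ∈ Ω := cm_mem r S.cP
  have hpΩ : p ∈ Ω := cm_mem r hqΩ
  have hΩc : ∀ a ∈ Ω, ∀ b ∈ Ω, a * b = b * a := fun a ha b hb =>
    hc a b (MonoidHom.mem_ker.1 (hΩk ha)) (MonoidHom.mem_ker.1 (hΩk hb))
  have hv2 : v * v = 1 := hu4
  have hV2 : ∀ n ∈ zpowers v, n * n = 1 := fun n hn => hΩ2 n (zpowers_le.2 hvΩ hn)
  set N := zpowers v ⊔ zpowers p with hN
  have hNΩ : N ≤ Ω := sup_le (zpowers_le.2 hvΩ) (zpowers_le.2 hpΩ)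
  have hVN : zpowers v ≤ N := le_sup_left
  have hpN : p ∈ N := mem_sup_right (mem_zpowers p)
  -- `r * r` on `Ω`
  set s := r * r with hs
  have hsp : s * p * s⁻¹ = p := by
    calc s * p * s⁻¹ = r * (cm r p * p) * r⁻¹ := by rw [hs]; unfold cm; group
      _ = (r * cm r p * r⁻¹) * (r * p * r⁻¹) := by group
      _ = cm r p * (cm r p * p) := by
        have h1 : r * cm r p * r⁻¹ = cm r p := by
          obtain ⟨k, hk⟩ := mem_zpowers_iff.1 S.rp
          rw [← hk, ← ((show Commute v r from hvc r).zpow_left k).eq, mul_inv_cancel_right]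
        rw [h1]; congr 1; unfold cm; group
      _ = p := by rw [← mul_assoc, hV2 _ S.rp, one_mul]
  have hsfix : ∀ n ∈ N, s * n * s⁻¹ = n := by
    intro n hn
    have hle : N ≤ centralizer ({s} : Set Y) := sup_le
      (zpowers_le.2 (mem_centralizer_singleton_iff.2 (hvc s)))
      (zpowers_le.2 (mem_centralizer_singleton_iff.2 (mul_inv_eq_iff_eq_mul.1 hsp).symm))
    rw [← (mem_centralizer_singleton_iff.1 (hle hn)), mul_inv_cancel_right]
  have hscm : ∀ z ∈ Ω, cm s z ∈ N := by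
    intro z hz
    obtain ⟨i, j, k, h⟩ := S.span z hz
    have hcq : cm s c ∈ N := by
      have : cm s c = p := by
        calc cm s c = r * (r * c * r⁻¹) * r⁻¹ * c⁻¹ := by rw [hs]; unfold cm; group
          _ = r * (q * c) * r⁻¹ * c⁻¹ := by rw [show r * c * r⁻¹ = q * c by rw [hqd]; unfold cm; group]
          _ = (r * q * r⁻¹) * (r * c * r⁻¹) * c⁻¹ := by group
          _ = p * q * (q * c) * c⁻¹ := by
            rw [show r * q * r⁻¹ = p * q by rw [hpd]; unfold cm; group,
              show r * c * r⁻¹ = q * c by rw [hqd]; unfold cm; group]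
          _ = p * (q * q) := by group
          _ = p := by rw [hΩ2 q hqΩ, mul_one]
      rw [this]; exact hpN
    have hqq : cm s q ∈ N := by
      have : cm s q = cm r p := by
        calc cm s q = r * (r * q * r⁻¹) * r⁻¹ * q⁻¹ := by rw [hs]; unfold cm; group
          _ = r * (p * q) * r⁻¹ * q⁻¹ := by rw [show r * q * r⁻¹ = p * q by rw [hpd]; unfold cm; group]
          _ = (r * p * r⁻¹) * (r * q * r⁻¹) * q⁻¹ := by group
          _ = cm r p * p * (p * q) * q⁻¹ := by
            rw [show r * q * r⁻¹ = p * q by rw [hpd]; unfold cm; group,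
              show r * p * r⁻¹ = cm r p * p by unfold cm; group]
          _ = cm r p * (p * p) := by group
          _ = cm r p := by rw [hΩ2 p hpΩ, mul_one]
      rw [this]; exact hVN S.rp
    have hmul : ∀ a ∈ Ω, ∀ b ∈ Ω, cm s a ∈ N → cm s b ∈ N → cm s (a * b) ∈ N := by
      intro a ha b hb h1 h2
      rw [show cm s (a * b) = cm s a * (a * cm s b * a⁻¹) by unfold cm; group,
        hΩc a ha _ (hNΩ h2), mul_inv_cancel_right]
      exact mul_mem h1 h2
    have hp' : cm s p ∈ N := by unfold cm; rw [hsp, mul_inv_cancel]; exact one_mem _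
    have h1' : cm s 1 ∈ N := by unfold cm; rw [mul_one, mul_inv_cancel, one_mul, inv_one]; exact one_mem _
    have hpow : ∀ (a : Y), a ∈ Ω → cm s a ∈ N → ∀ k : Fin 2, cm s (a ^ (k : ℕ)) ∈ N := fun a ha h k => by
      fin_cases k
      · simpa using h1'
      · simpa using h
    set n := (c ^ (i : ℕ) * q ^ (j : ℕ) * p ^ (k : ℕ))⁻¹ * z with hnd
    have e : z = c ^ (i : ℕ) * q ^ (j : ℕ) * p ^ (k : ℕ) * n := by rw [hnd, mul_inv_cancel_left]
    rw [e]
    refine hmul _ (mul_mem (mul_mem (pow_mem S.cP _) (pow_mem hqΩ _)) (pow_mem hpΩ _)) _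
      (zpowers_le.2 hvΩ h) (hmul _ (mul_mem (pow_mem S.cP _) (pow_mem hqΩ _)) _ (pow_mem hpΩ _)
        (hmul _ (pow_mem S.cP _) _ (pow_mem hqΩ _) (hpow c S.cP hcq i) (hpow q hqΩ hqq j)) (hpow p hpΩ hp' k)) ?_
    unfold cm
    rw [hsfix n (hVN h), mul_inv_cancel]
    exact one_mem _
  have hyp : y * p * y⁻¹ = p := by
    set n := cm y p with hn
    have h1 : y * p * y⁻¹ = n * p := by rw [hn]; unfold cm; group
    have hyn : y * n * y⁻¹ = n := by
      obtain ⟨k, hk⟩ := mem_zpowers_iff.1 S.yp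
      rw [← (show v ^ k = n from hk), ← ((show Commute v y from hvc y).zpow_left k).eq, mul_inv_cancel_right]
    have h3 : (y * y * y) * p * (y * y * y)⁻¹ = n * (n * (n * p)) := by
      calc (y * y * y) * p * (y * y * y)⁻¹ = y * (y * (y * p * y⁻¹) * y⁻¹) * y⁻¹ := by group
        _ = y * (y * (n * p) * y⁻¹) * y⁻¹ := by rw [h1]
        _ = y * (y * n * y⁻¹ * (y * p * y⁻¹)) * y⁻¹ := by group
        _ = y * (n * (n * p)) * y⁻¹ := by rw [hyn, h1]
        _ = (y * n * y⁻¹) * ((y * n * y⁻¹) * (y * p * y⁻¹)) := by group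
        _ = n * (n * (n * p)) := by rw [hyn, h1]
    rw [S.y3, one_mul, inv_one, mul_one, ← mul_assoc n n, hV2 n S.yp, one_mul] at h3
    rw [h1, ← h3]
  have hyN : ∀ n ∈ N, y * n * y⁻¹ = n := by
    intro n hn
    have hle : N ≤ centralizer ({y} : Set Y) := sup_le
      (zpowers_le.2 (mem_centralizer_singleton_iff.2 (hvc y)))
      (zpowers_le.2 (mem_centralizer_singleton_iff.2 (mul_inv_eq_iff_eq_mul.1 hyp).symm))
    rw [← (mem_centralizer_singleton_iff.1 (hle hn)), mul_inv_cancel_right]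
  -- the square of `s`
  have hr4 : π (s * s) = 1 := by rw [map_mul]; exact S.t2
  obtain ⟨k, z, hz, hzk⟩ := hgen _ hr4
  have hrz : r * z * r⁻¹ = z := by
    have h1 : r * (s * s) * r⁻¹ = s * s := by rw [hs]; group
    rw [hzk, show r * (u ^ k * z) * r⁻¹ = (r * u ^ k) * z * r⁻¹ by group,
      ← ((show Commute u r from huc r).pow_left k).eq, mul_assoc, mul_assoc, mul_right_inj] at h1
    rwa [← mul_assoc] at h1
  have hzN : z ∈ N := by
    obtain ⟨i, j, l, h⟩ := S.span z hz
    set n := (c ^ (i : ℕ) * q ^ (j : ℕ) * p ^ (l : ℕ))⁻¹ * z with hnd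
    have e : z = c ^ (i : ℕ) * q ^ (j : ℕ) * p ^ (l : ℕ) * n := by rw [hnd, mul_inv_cancel_left]
    have hm : c ^ (0 : Fin 2).val * q ^ (i : ℕ) * p ^ (j : ℕ) ∈ zpowers v := by
      have hrn : r * n * r⁻¹ = n := by
        obtain ⟨k', hk'⟩ := mem_zpowers_iff.1 h
        rw [← hk', ← ((show Commute v r from hvc r).zpow_left k').eq, mul_inv_cancel_right]
      have hmodv : ((r * z * r⁻¹ * z⁻¹ : Y) : Y ⧸ zpowers v) = 1 := by
        rw [hrz, mul_inv_cancel, QuotientGroup.mk_one]
      have hr1 : ((r * c * r⁻¹ : Y) : Y ⧸ zpowers v) = ((q * c : Y) : Y ⧸ zpowers v) :=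
        congrArg _ (by rw [hqd]; unfold cm; group)
      have hr2 : ((r * q * r⁻¹ : Y) : Y ⧸ zpowers v) = ((p * q : Y) : Y ⧸ zpowers v) :=
        congrArg _ (by rw [hpd]; unfold cm; group)
      have hr3 : ((r * p * r⁻¹ : Y) : Y ⧸ zpowers v) = (p : Y ⧸ zpowers v) := by
        rw [show r * p * r⁻¹ = cm r p * p by unfold cm; group, QuotientGroup.mk_mul,
          (QuotientGroup.eq_one_iff _).2 S.rp, one_mul]
      have hmk : ∀ {a : Y}, a ∈ Ω → ∀ {b : Y}, b ∈ Ω →
          Commute (a : Y ⧸ zpowers v) (b : Y ⧸ zpowers v) := fun {a} ha {b} hb =>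
        show _ = _ by rw [← QuotientGroup.mk_mul, ← QuotientGroup.mk_mul, hΩc a ha b hb]
      rw [← QuotientGroup.eq_one_iff, ← hmodv, e,
        show r * (c ^ (i : ℕ) * q ^ (j : ℕ) * p ^ (l : ℕ) * n) * r⁻¹ =
          (r * c ^ (i : ℕ) * r⁻¹) * (r * q ^ (j : ℕ) * r⁻¹) * (r * p ^ (l : ℕ) * r⁻¹) * (r * n * r⁻¹) by group,
        hrn, ← conj_pow, ← conj_pow, ← conj_pow]
      simp only [QuotientGroup.mk_mul, QuotientGroup.mk_pow, QuotientGroup.mk_inv, hr1, hr2, hr3,
        (QuotientGroup.eq_one_iff n).2 h, mul_one, Fin.val_zero, pow_zero, one_mul]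
      rw [(hmk hqΩ S.cP).mul_pow, (hmk hpΩ hqΩ).mul_pow]
      have cq : Commute ((c : Y ⧸ zpowers v) ^ (i : ℕ)) ((p : Y ⧸ zpowers v) ^ (j : ℕ)) :=
        (hmk S.cP hpΩ).pow_pow _ _
      rw [eq_comm, mul_inv_eq_iff_eq_mul]
      simp only [mul_assoc]
      congr 1
      rw [← mul_assoc ((c : Y ⧸ zpowers v) ^ (i : ℕ)), cq.eq, mul_assoc]
    obtain ⟨-, hi, hj⟩ := S.indep 0 i j hm
    rw [e, hi, hj]
    exact mul_mem (by simpa using pow_mem hpN (l : ℕ)) (hVN h)
  have hζ : π (s * (y * s * y⁻¹) * (y * (y * s * y⁻¹) * y⁻¹)) = 1 := by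
    simp only [map_mul, map_inv, hs]
    simpa [map_mul] using S.tri
  obtain ⟨i, w, hw, hwk⟩ := hgen _ hζ
  set ζ := s * (y * s * y⁻¹) * (y * (y * s * y⁻¹) * y⁻¹) with hζd
  have hsy : s * y * ζ = ζ * (s * y) := by
    have hea : y * (y * (y * s * y⁻¹) * y⁻¹) * y⁻¹ = s := by
      rw [show y * (y * (y * s * y⁻¹) * y⁻¹) * y⁻¹ = (y * y * y) * s * (y * y * y)⁻¹ by group, S.y3,
        one_mul, inv_one, mul_one]
    calc s * y * ζ = s * ((y * s * y⁻¹) * (y * (y * s * y⁻¹) * y⁻¹) * (y * (y * (y * s * y⁻¹) * y⁻¹) * y⁻¹)) * y := by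
          rw [hζd]; group
      _ = ζ * (s * y) := by rw [hea, hζd]; group
  have hwN : w ∈ N := by
    have h1 : cm (r * r * y) w = 1 := by
      have h2 : s * y * w = w * (s * y) := by
        have hu' : Commute (u ^ i) (s * y) := (show Commute u _ from huc _).pow_left i
        rw [hwk, ← mul_assoc, ← hu'.eq, mul_assoc, mul_assoc _ w, mul_right_inj] at hsy
        exact hsy
      unfold cm
      rw [← hs, h2, mul_inv_cancel_right, mul_inv_cancel]
    rcases S.fix w hw (by rw [h1]; exact one_mem _) with h | h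
    · exact hVN h
    · have := mul_mem hpN (hVN h)
      rwa [mul_inv_cancel_left] at this
  -- everything in `⟨u⟩N` is central in the triangle
  have hUN : ∀ (k : ℕ), ∀ n ∈ N, ∀ g ∈ ({s, y} : Set Y), u ^ k * n * g = g * (u ^ k * n) := by
    intro k n hn g hg
    have h1 : g * n * g⁻¹ = n := by
      rcases hg with rfl | rfl
      · exact hsfix n hn
      · exact hyN n hn
    rw [mul_assoc, show n * g = g * n from (mul_inv_eq_iff_eq_mul.1 h1).symm, ← mul_assoc,
      ((show Commute u g from huc g).pow_left k).eq, mul_assoc]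
  have hcl : ∀ (k : ℕ), ∀ n ∈ N, ∀ g ∈ closure ({s, y} : Set Y), u ^ k * n * g = g * (u ^ k * n) := by
    intro k n hn g hg
    have hle : closure ({s, y} : Set Y) ≤ centralizer ({u ^ k * n} : Set Y) := (closure_le _).2 fun g hg =>
      mem_centralizer_singleton_iff.2 (hUN k n hn g hg).symm
    exact (mem_centralizer_singleton_iff.1 (hle hg)).symm
  have hsC : s ∈ closure ({s, y} : Set Y) := Subgroup.subset_closure (by simp)
  have hyC : y ∈ closure ({s, y} : Set Y) := Subgroup.subset_closure (by simp)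
  have hbC : y * s * y⁻¹ ∈ closure ({s, y} : Set Y) := mul_mem (mul_mem hyC hsC) (inv_mem hyC)
  have heC : y * (y * s * y⁻¹) * y⁻¹ ∈ closure ({s, y} : Set Y) := mul_mem (mul_mem hyC hbC) (inv_mem hyC)
  have h := sq_sq_of_triangle (a := s) rfl S.y3 hζd.symm
    (fun g hg => by
      rw [hwk]
      refine hcl i w hwN g ?_
      rcases hg with rfl | rfl | rfl <;> assumption)
    (fun g hg => by
      rw [hzk]
      refine hcl k z hzN g ?_
      rcases hg with rfl | rfl | rfl <;> assumption)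
  rw [hzk, hwk] at h
  have hsqn : ∀ (l : ℕ), ∀ n ∈ N, u ^ l * n * (u ^ l * n) = v ^ l := fun l n hn => by
    rw [((show Commute u n from huc n).pow_left l).symm.mul_mul_mul_comm, hΩ2 n (hNΩ hn), mul_one, hv',
      (Commute.refl u).mul_pow]
  rw [hsqn i w hwN, hsqn k z hzN] at h
  have hcVA : Commute (v ^ i) (v ^ k * (u ^ k * z))⁻¹ :=
    ((show Commute v _ from hvc _).pow_left i)
  rw [hcVA.symm.mul_mul_mul_comm, ← (Commute.refl v).mul_pow, hv2, one_pow, one_mul, ← mul_inv_rev,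
    inv_eq_one, ((show Commute v _ from hvc (u ^ k * z)).pow_left k).symm.mul_mul_mul_comm,
    ← (Commute.refl v).mul_pow, hv2, one_pow, one_mul, hsqn k z hzN] at h
  have hkeven : u ^ k ∈ zpowers v := by
    obtain ⟨k', rfl | rfl⟩ := Nat.even_or_odd' k
    · rw [pow_mul, pow_two, ← hv']; exact pow_mem (mem_zpowers v) _
    · exact absurd (by rwa [pow_succ, pow_mul, pow_two, hv2, one_pow, one_mul] at h) hv
  have hssN : s * s ∈ N := by rw [hzk]; exact mul_mem (hVN hkeven) hzN
  refine false_of_triangle h4 π π.ker N le_rfl (hNΩ.trans hΩk) ?_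
    (fun a ha b hb => hc a b (MonoidHom.mem_ker.1 ha) (MonoidHom.mem_ker.1 hb)) ?_ s y hssN S.t1 S.y3
    S.ne S.tri ?_ (fun b hb => (inferInstance : π.ker.Normal).conj_mem b hb y)
    (fun n hn => by rw [hyN n hn]; exact hn) (fun m hm _ => MonoidHom.mem_ker.2 hm)
  · intro m hm
    obtain ⟨l, n, hn, rfl⟩ := hgen m (MonoidHom.mem_ker.1 hm)
    rw [((show Commute u n from huc n).pow_left l).symm.mul_mul_mul_comm, hΩ2 n hn, mul_one,
      ← (Commute.refl u).mul_pow, ← hv']
    exact hVN (pow_mem (mem_zpowers v) l)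
  · rw [h32]
    have hsub : ((N : Subgroup Y) : Set Y) ⊆ {1, v, p, v * p} := by
      intro n hn
      obtain ⟨a, ha, b, hb, rfl⟩ := mem_sup_of_normal_left.1 (show n ∈ zpowers v ⊔ zpowers p from hn)
      have two : ∀ {w' : Y}, w' * w' = 1 → ∀ {a : Y}, a ∈ zpowers w' → a = 1 ∨ a = w' := by
        intro w' hw' a ha
        obtain ⟨m, rfl⟩ := (Submonoid.mem_powers_iff _ _).1 (mem_powers_iff_mem_zpowers.2 ha)
        obtain ⟨m', rfl | rfl⟩ := Nat.even_or_odd' m
        · exact Or.inl (by rw [pow_mul, pow_two, hw', one_pow])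
        · exact Or.inr (by rw [pow_succ, pow_mul, pow_two, hw', one_pow, one_mul])
      rcases two hv2 ha with rfl | rfl <;> rcases two (hΩ2 p hpΩ) hb with rfl | rfl <;> simp
    have h1 := Set.ncard_le_ncard hsub (Set.toFinite _)
    have h2 : ({1, v, p, v * p} : Set Y).ncard ≤ 4 :=
      (Set.ncard_insert_le _ _).trans (Nat.succ_le_succ ((Set.ncard_insert_le _ _).trans
        (Nat.succ_le_succ ((Set.ncard_insert_le _ _).trans (by rw [Set.ncard_singleton])))))
    rw [← Nat.card_coe_set_eq] at h1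
    change Nat.card N ≤ _ at h1
    omega
  · intro m hm
    obtain ⟨l, n, hn, rfl⟩ := hgen m (MonoidHom.mem_ker.1 hm)
    have e : s * (u ^ l * n) * s⁻¹ * (u ^ l * n)⁻¹ = cm s n := by
      rw [← mul_assoc s, ← ((show Commute u s from huc s).pow_left l).eq]
      unfold cm
      rw [show u ^ l * s * n * s⁻¹ * (u ^ l * n)⁻¹ = u ^ l * (s * n * s⁻¹ * n⁻¹) * (u ^ l)⁻¹ by group,
        ((show Commute u _ from huc _).pow_left l).eq, mul_inv_cancel_right]
    rw [e]; exact hscm n hn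

end CfsgLib.PGroup.RadicalSeven
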