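import Cfsg.Prelude.Def_CaseTheorems
import Mathlib.GroupTheory.QuotientGroup.Basic
import Mathlib.GroupTheory.Index
import Mathlib.GroupTheory.OrderOfElement
import Mathlib.Tactic.Group

/-!
# Elementary sections of order 32 from generators
-/

set_option autoImplicit false
set_option linter.unusedSectionVars false
set_option linter.style.haveILetI false

open Subgroup

namespace CfsgLib.PGroup.RadicalSeven

universe u v

variable {Y : Type u} [Group Y] [Finite Y]

/-- Generators whose squares and commutators lie in a small normalised subgroup. -/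
theorem false_of_gens (h4 : Cfsg.SectionalPRankLE 2 4 Y) (gens : Set Y) (N : Subgroup Y)
    (hN : ∀ g ∈ gens, ∀ n ∈ N, g * n * g⁻¹ ∈ N) (hsq : ∀ g ∈ gens, g * g ∈ N)
    (hcomm : ∀ a ∈ gens, ∀ b ∈ gens, a * b * a⁻¹ * b⁻¹ ∈ N) (hNH : N ≤ closure gens)
    (hcard : 32 * Nat.card N ≤ Nat.card (closure gens)) : False := by
  set H := closure gens with hH
  have hnorm : ∀ h ∈ H, ∀ n ∈ N, h * n * h⁻¹ ∈ N := by
    intro h hh
    induction hh using closure_induction with
    | mem g hg => exact hN g hg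
    | one => intro n hn; simpa using hn
    | mul a b _ _ ha hb =>
      intro n hn
      rw [show a * b * n * (a * b)⁻¹ = a * (b * n * b⁻¹) * a⁻¹ by group]
      exact ha _ (hb n hn)
    | inv a _ ha =>
      obtain ⟨k, hk⟩ := (Submonoid.mem_powers_iff _ _).1
        (mem_powers_iff_mem_zpowers.2 (inv_mem (mem_zpowers a)))
      rw [← hk]
      clear hk
      induction k with
      | zero => intro n hn; simpa using hn
      | succ k ih =>
        intro n hn
        rw [pow_succ', show a * a ^ k * n * (a * a ^ k)⁻¹ = a * (a ^ k * n * (a ^ k)⁻¹) * a⁻¹ by group]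
        exact ha _ (ih n hn)
  haveI : (N.subgroupOf H).Normal := ⟨fun a ha h => by
    rw [mem_subgroupOf] at ha ⊢
    rw [coe_mul, coe_mul, coe_inv]
    exact hnorm _ h.2 _ ha⟩
  let π := QuotientGroup.mk' (N.subgroupOf H)
  have hmem : ∀ p : H, (p : Y) ∈ N → π p = 1 := fun p hp =>
    (QuotientGroup.eq_one_iff p).2 (mem_subgroupOf.2 hp)
  let G : Set (↥H ⧸ N.subgroupOf H) := π '' ((↑) ⁻¹' gens)
  have hGtop : closure G = ⊤ := by
    rw [← MonoidHom.map_closure, closure_closure_coe_preimage, ← MonoidHom.range_eq_map,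
      QuotientGroup.range_mk']
  have hGcomm : ∀ a ∈ G, ∀ b ∈ G, Commute a b := by
    rintro _ ⟨a, ha, rfl⟩ _ ⟨b, hb, rfl⟩
    show π a * π b = π b * π a
    rw [← mul_inv_eq_iff_eq_mul, ← mul_inv_eq_one, ← map_inv, ← map_inv, ← map_mul, ← map_mul, ← map_mul]
    exact hmem _ (hcomm _ ha _ hb)
  have hcommT : ∀ a b : ↥H ⧸ N.subgroupOf H, Commute a b := by
    have h1 : ∀ a ∈ G, ∀ b, Commute a b := by
      intro a ha b
      have hb : b ∈ closure G := hGtop ▸ mem_top b
      induction hb using closure_induction with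
      | mem w hw => exact hGcomm a ha w hw
      | one => exact Commute.one_right a
      | mul x y _ _ hx hy => exact hx.mul_right hy
      | inv x _ hx => exact hx.inv_right
    intro a b
    have ha : a ∈ closure G := hGtop ▸ mem_top a
    induction ha using closure_induction with
    | mem w hw => exact h1 w hw b
    | one => exact Commute.one_left b
    | mul x y _ _ hx hy => exact hx.mul_left hy
    | inv x _ hx => exact hx.inv_left
  have hexp : ∀ a : ↥H ⧸ N.subgroupOf H, a ^ 2 = 1 := by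
    intro a
    have ha : a ∈ closure G := hGtop ▸ mem_top a
    induction ha using closure_induction with
    | mem w hw =>
      obtain ⟨p, hp, rfl⟩ := hw
      rw [← map_pow]
      refine hmem _ ?_
      rw [SubgroupClass.coe_pow, pow_two]
      exact hsq _ hp
    | one => exact one_pow _
    | mul x y _ _ hx hy => rw [(hcommT x y).mul_pow, hx, hy, one_mul]
    | inv x _ hx => rw [inv_pow, hx, inv_one]
  have hle := h4 H (N.subgroupOf H) ⊤ ⟨⟨fun a b => Subtype.ext (hcommT a.1 b.1).eq⟩⟩ (fun a _ => hexp a)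
  rw [Subgroup.card_top, ← Subgroup.index, ← Subgroup.relIndex] at hle
  have h1 : Nat.card N * N.relIndex H = Nat.card H := by
    rw [← relIndex_bot_left, relIndex_mul_relIndex ⊥ N H bot_le hNH, relIndex_bot_left]
  have h32 : Nat.card N * 32 ≤ Nat.card N * N.relIndex H := by rw [h1]; omega
  have := Nat.le_of_mul_le_mul_left h32 Nat.card_pos
  omega

variable {L : Type v} [Group L]

/-- One element over an elementary section of order 16. -/
theorem false_of_single (h4 : Cfsg.SectionalPRankLE 2 4 Y) (π : Y →* L) (B N : Subgroup Y)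
    (hBk : B ≤ π.ker) (hNB : N ≤ B) (hBsq : ∀ b ∈ B, b * b ∈ N)
    (hBc : ∀ a ∈ B, ∀ b ∈ B, a * b * a⁻¹ * b⁻¹ ∈ N) (s : Y) (hs1 : π s ≠ 1) (hs : s * s ∈ N)
    (hsB : ∀ b ∈ B, s * b * s⁻¹ * b⁻¹ ∈ N) (hcard : 16 * Nat.card N ≤ Nat.card B) : False := by
  refine false_of_gens h4 (insert s (B : Set Y)) N ?_ ?_ ?_ (fun n hn => Subgroup.subset_closure (Or.inr (hNB hn))) ?_
  · rintro g (rfl | hg) n hn
    · have := mul_mem (hsB n (hNB hn)) hn
      rwa [inv_mul_cancel_right] at this
    · have := mul_mem (hBc g hg n (hNB hn)) hn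
      rwa [inv_mul_cancel_right] at this
  · rintro g (rfl | hg)
    · exact hs
    · exact hBsq g hg
  · rintro a (rfl | ha) b (rfl | hb)
    · rw [mul_inv_cancel_right, mul_inv_cancel]; exact one_mem N
    · exact hsB b hb
    · rw [show a * b * a⁻¹ * b⁻¹ = (b * a * b⁻¹ * a⁻¹)⁻¹ by group]; exact inv_mem (hsB a ha)
    · exact hBc a ha b hb
  · have hf : Function.Injective (fun p : Fin 2 × B => (⟨s ^ (p.1 : ℕ) * (p.2 : Y),
        mul_mem (pow_mem (Subgroup.subset_closure (k := insert s (B : Set Y)) (Or.inl rfl)) _) (Subgroup.subset_closure (Or.inr p.2.2))⟩ :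
        closure (insert s (B : Set Y)))) := by
      rintro ⟨i, a⟩ ⟨j, b⟩ h
      have h' : s ^ (i : ℕ) * (a : Y) = s ^ (j : ℕ) * (b : Y) := congrArg Subtype.val h
      have hπ := congrArg π h'
      rw [map_mul, map_mul, MonoidHom.mem_ker.1 (hBk a.2), MonoidHom.mem_ker.1 (hBk b.2), mul_one, mul_one,
        map_pow, map_pow] at hπ
      have hij : i = j := by
        fin_cases i <;> fin_cases j <;> simp at hπ ⊢
        · exact hs1 hπ.symm
        · exact hs1 hπ
      subst hij
      exact Prod.ext rfl (Subtype.ext (mul_left_cancel h'))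
    have := Nat.card_le_card_of_injective _ hf
    rw [Nat.card_prod, Nat.card_fin] at this
    omega

/-- Two elements over an elementary section of order 8. -/
theorem false_of_two (h4 : Cfsg.SectionalPRankLE 2 4 Y) (π : Y →* L) (B N : Subgroup Y)
    (hBk : B ≤ π.ker) (hNB : N ≤ B) (hBsq : ∀ b ∈ B, b * b ∈ N)
    (hBc : ∀ a ∈ B, ∀ b ∈ B, a * b * a⁻¹ * b⁻¹ ∈ N) (s t : Y)
    (hs1 : π s ≠ 1) (ht1 : π t ≠ 1) (hst : π s * π t ≠ 1) (hne : π s ≠ π t)
    (hs : s * s ∈ N) (ht : t * t ∈ N) (hst2 : s * t * (s * t) ∈ N)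
    (hsB : ∀ b ∈ B, s * b * s⁻¹ * b⁻¹ ∈ N) (htB : ∀ b ∈ B, t * b * t⁻¹ * b⁻¹ ∈ N)
    (hcard : 8 * Nat.card N ≤ Nat.card B) : False := by
  have hcs : ∀ {g : Y}, (∀ b ∈ B, g * b * g⁻¹ * b⁻¹ ∈ N) → ∀ n ∈ N, g * n * g⁻¹ ∈ N := by
    intro g hg n hn
    have := mul_mem (hg n (hNB hn)) hn
    rwa [inv_mul_cancel_right] at this
  have hNs := hcs hsB
  have hNt := hcs htB
  have hc : s * t * s⁻¹ * t⁻¹ ∈ N := by
    have h1 := hNs _ (hNt _ (inv_mem hs))
    have := mul_mem (mul_mem hst2 (hNt _ (inv_mem hs))) (inv_mem ht)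
    rw [show s * t * s⁻¹ * t⁻¹ = (s * t * (s * t)) * ((t⁻¹ * ((s * s)⁻¹) * t⁻¹⁻¹)) * (t * t)⁻¹ by group]
    refine mul_mem (mul_mem hst2 ?_) (inv_mem ht)
    have h2 : ∀ n ∈ N, t⁻¹ * n * t⁻¹⁻¹ ∈ N := fun n hn => by
      rw [show t⁻¹ * n * t⁻¹⁻¹ = (t * t)⁻¹ * (t * n * t⁻¹) * (t * t) by group]
      exact mul_mem (mul_mem (inv_mem ht) (hNt n hn)) ht
    exact h2 _ (inv_mem hs)
  refine false_of_gens h4 (insert s (insert t (B : Set Y))) N ?_ ?_ ?_
    (fun n hn => Subgroup.subset_closure (Or.inr (Or.inr (hNB hn)))) ?_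
  · rintro g (rfl | rfl | hg) n hn
    · exact hNs n hn
    · exact hNt n hn
    · exact hcs (fun b hb => hBc g hg b hb) n hn
  · rintro g (rfl | rfl | hg)
    · exact hs
    · exact ht
    · exact hBsq g hg
  · have hflip : ∀ {a b : Y}, a * b * a⁻¹ * b⁻¹ ∈ N → b * a * b⁻¹ * a⁻¹ ∈ N := fun {a b} h => by
      rw [show b * a * b⁻¹ * a⁻¹ = (a * b * a⁻¹ * b⁻¹)⁻¹ by group]; exact inv_mem h
    rintro a (rfl | rfl | ha) b (rfl | rfl | hb)
    · rw [mul_inv_cancel_right, mul_inv_cancel]; exact one_mem N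
    · exact hc
    · exact hsB b hb
    · exact hflip hc
    · rw [mul_inv_cancel_right, mul_inv_cancel]; exact one_mem N
    · exact htB b hb
    · exact hflip (hsB a ha)
    · exact hflip (htB a ha)
    · exact hBc a ha b hb
  · have hf : Function.Injective (fun p : (Fin 2 × Fin 2) × B =>
        (⟨s ^ (p.1.1 : ℕ) * t ^ (p.1.2 : ℕ) * (p.2 : Y),
        mul_mem (mul_mem (pow_mem (Subgroup.subset_closure (k := insert s (insert t (B : Set Y))) (Or.inl rfl)) _)
          (pow_mem (Subgroup.subset_closure (k := insert s (insert t (B : Set Y))) (Or.inr (Or.inl rfl))) _))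
          (Subgroup.subset_closure (Or.inr (Or.inr p.2.2)))⟩ :
        closure (insert s (insert t (B : Set Y))))) := by
      rintro ⟨⟨i, k⟩, a⟩ ⟨⟨j, l⟩, b⟩ h
      have h' : s ^ (i : ℕ) * t ^ (k : ℕ) * (a : Y) = s ^ (j : ℕ) * t ^ (l : ℕ) * (b : Y) := congrArg Subtype.val h
      have hπ := congrArg π h'
      rw [map_mul, map_mul _ _ (b : Y), MonoidHom.mem_ker.1 (hBk a.2), MonoidHom.mem_ker.1 (hBk b.2), mul_one,
        mul_one, map_mul, map_mul, map_pow, map_pow, map_pow, map_pow] at hπ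
      have hss : π s * π s = 1 := by rw [← map_mul]; exact MonoidHom.mem_ker.1 (hBk (hNB hs))
      have hij : i = j ∧ k = l := by
        fin_cases i <;> fin_cases k <;> fin_cases j <;> fin_cases l <;> simp at hπ ⊢ <;>
          first
            | exact hs1 hπ
            | exact hs1 hπ.symm
            | exact ht1 hπ
            | exact ht1 hπ.symm
            | exact hst hπ
            | exact hst hπ.symm
            | exact hne hπ
            | exact hne hπ.symm
      obtain ⟨rfl, rfl⟩ := hij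
      exact Prod.ext rfl (Subtype.ext (mul_left_cancel h'))
    have := Nat.card_le_card_of_injective _ hf
    rw [Nat.card_prod, Nat.card_prod, Nat.card_fin] at this
    omega

end CfsgLib.PGroup.RadicalSeven
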