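import Cfsg.Agent.Lib.PGroup.RadicalSeven.Act
import Cfsg.Agent.Lib.PGroup.RadicalSeven.Section
import Cfsg.Agent.Lib.PGroup.RadicalFive.Sit

/-!
# An abelian layer of order 128 with indecomposable omega subgroup
-/

set_option autoImplicit false
set_option linter.unusedSectionVars false
set_option linter.style.haveILetI false

open Subgroup

namespace CfsgLib.PGroup.RadicalSeven

universe u v

abbrev T8 := ZMod 4 × ZMod 4 × ZMod 4 × ZMod 2

/-- The action of an element of order four. -/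
def fAct (v : Fin 2 × Fin 2 × Fin 2) (a : Fin 2) (e : Fin 2 × Fin 2 × Fin 2) (x : T8) : T8 :=
  (x.1 + 2 * (v.1 : ℕ) * x.2.2.1 + 2 * (e.1 : ℕ) * (x.2.2.2.val : ℕ),
   x.1 + x.2.1 + 2 * (v.2.1 : ℕ) * x.2.2.1 + 2 * (e.2.1 : ℕ) * (x.2.2.2.val : ℕ),
   x.2.1 + (1 + 2 * (v.2.2 : ℕ)) * x.2.2.1 + 2 * (e.2.2 : ℕ) * (x.2.2.2.val : ℕ),
   (a : ℕ) * (x.2.2.1.val : ℕ) + x.2.2.2)

/-- An element of order at most two. -/
def omega (i j k l : Fin 2) : T8 :=
  (2 * ((i : ℕ) : ZMod 4), 2 * ((j : ℕ) : ZMod 4), 2 * ((k : ℕ) : ZMod 4), ((l : ℕ) : ZMod 2))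

theorem omega_two : ∀ i j k l, omega i j k l + omega i j k l = 0 := by decide +kernel

theorem double_last : ∀ z : T8, (z + z).2.2.2 = 0 := by decide +kernel

theorem omega_last : ∀ i j k, (omega i j k 1).2.2.2 ≠ 0 := by decide +kernel

/-- The action is linear. -/
theorem fAct_gens : ∀ v a e, fAct v a e (1, 0, 0, 0) = ((1, 0, 0, 0) : T8) + (0, 1, 0, 0) ∧
    fAct v a e (0, 1, 0, 0) = ((0, 1, 0, 0) : T8) + (0, 0, 1, 0) ∧
    fAct v a e (0, 0, 1, 0) = ((0, 0, 1, 0) : T8) + omega v.1 v.2.1 v.2.2 a ∧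
    fAct v a e (0, 0, 0, 1) = ((0, 0, 0, 1) : T8) + omega e.1 e.2.1 e.2.2 0 := by
  decide +kernel

theorem fAct_add (v : Fin 2 × Fin 2 × Fin 2) (a : Fin 2) (e : Fin 2 × Fin 2 × Fin 2) (x z : T8) :
    fAct v a e (x + z) = fAct v a e x + fAct v a e z := by
  obtain ⟨x0, x1, x2, x3⟩ := x
  obtain ⟨z0, z1, z2, z3⟩ := z
  have h2 : ∀ (k : ℕ) (i j : ZMod 2), (2 : ZMod 4) * k * ((i + j).val : ℕ) =
      2 * k * (i.val : ℕ) + 2 * k * (j.val : ℕ) := by
    intro k i j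
    rw [← mul_add, mul_comm 2 (k : ZMod 4), mul_assoc, mul_assoc]
    congr 1
    revert i j; decide
  have h3 : ∀ (k : ℕ) (i j : ZMod 4), (k : ZMod 2) * ((i + j).val : ℕ) =
      k * (i.val : ℕ) + k * (j.val : ℕ) := by
    intro k i j
    rw [← mul_add]
    congr 1
    revert i j; decide
  simp only [fAct, Prod.mk_add_mk, Prod.mk.injEq, h2, h3]
  refine ⟨?_, ?_, ?_, ?_⟩ <;> ring

/-- Fourth power one and no fixed point outside the doubles leave eight possibilities. -/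
theorem fAct_restrict : ∀ v a e,
    (fAct v a e (fAct v a e (fAct v a e (fAct v a e (1, 0, 0, 0)))) = (1, 0, 0, 0) ∧
      fAct v a e (fAct v a e (fAct v a e (fAct v a e (0, 0, 1, 0)))) = (0, 0, 1, 0)) →
    (∀ i j k : Fin 2, fAct v a e (omega i j k 1) ≠ omega i j k 1) →
    a = 0 ∧ v.1 = 0 ∧ v.2.1 = 1 ∧ e.1 = 1 := by
  decide +kernel

/-- An element supported on the first and third coordinates. -/
def m13 (i k : Fin 4) : T8 := (((i : ℕ) : ZMod 4), 0, ((k : ℕ) : ZMod 4), 0)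

theorem fAct_even : ∀ (b : Fin 2) (e : Fin 2 × Fin 2) (x : T8), x.1.val % 2 = 0 →
    (fAct (0, 1, b) 0 (1, e.1, e.2) (fAct (0, 1, b) 0 (1, e.1, e.2) x) - x).1 = 0 ∧
    (fAct (0, 1, b) 0 (1, e.1, e.2) (fAct (0, 1, b) 0 (1, e.1, e.2) x) - x).2.1.val % 2 = 0 ∧
    (fAct (0, 1, b) 0 (1, e.1, e.2) (fAct (0, 1, b) 0 (1, e.1, e.2) x) - x).2.2.1.val % 2 = 0 ∧
    (fAct (0, 1, b) 0 (1, e.1, e.2) (fAct (0, 1, b) 0 (1, e.1, e.2) x) - x).2.2.2 = 0 := by
  decide +kernel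

theorem fAct_fixed : ∀ (b : Fin 2) (e : Fin 2 × Fin 2) (x : T8), fAct (0, 1, b) 0 (1, e.1, e.2) x = x →
    ∃ (m0 m2 : Fin 4),
    (x + fAct (0, 1, b) 0 (1, e.1, e.2) (fAct (0, 1, b) 0 (1, e.1, e.2) (m13 m0 m2)) +
      (m13 m0 m2)).1 = 0 ∧
    (x + fAct (0, 1, b) 0 (1, e.1, e.2) (fAct (0, 1, b) 0 (1, e.1, e.2) (m13 m0 m2)) +
      (m13 m0 m2)).2.1.val % 2 = 0 ∧
    (x + fAct (0, 1, b) 0 (1, e.1, e.2) (fAct (0, 1, b) 0 (1, e.1, e.2) (m13 m0 m2)) +
      (m13 m0 m2)).2.2.1.val % 2 = 0 ∧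
    (x + fAct (0, 1, b) 0 (1, e.1, e.2) (fAct (0, 1, b) 0 (1, e.1, e.2) (m13 m0 m2)) +
      (m13 m0 m2)).2.2.2 = 0 := by
  decide +kernel

/-- The vectors with even first coordinate. -/
def bVec : Subgroup (Multiplicative T8) where
  carrier := {x | x.toAdd.1.val % 2 = 0}
  one_mem' := by decide
  mul_mem' := fun {x y} hx hy => by
    have h : ∀ a b : ZMod 4, a.val % 2 = 0 → b.val % 2 = 0 → (a + b).val % 2 = 0 := by decide
    exact h _ _ hx hy
  inv_mem' := fun {x} hx => by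
    have h : ∀ a : ZMod 4, a.val % 2 = 0 → (-a).val % 2 = 0 := by decide
    exact h _ hx

/-- The doubles of vectors with even first coordinate. -/
def nVec : Subgroup (Multiplicative T8) where
  carrier := {x | x.toAdd.1 = 0 ∧ x.toAdd.2.1.val % 2 = 0 ∧ x.toAdd.2.2.1.val % 2 = 0 ∧ x.toAdd.2.2.2 = 0}
  one_mem' := by decide
  mul_mem' := fun {x y} hx hy => by
    have h : ∀ a b : ZMod 4, a.val % 2 = 0 → b.val % 2 = 0 → (a + b).val % 2 = 0 := by decide
    exact ⟨by simp [toAdd_mul, hx.1, hy.1], h _ _ hx.2.1 hy.2.1, h _ _ hx.2.2.1 hy.2.2.1,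
      by simp [toAdd_mul, hx.2.2.2, hy.2.2.2]⟩
  inv_mem' := fun {x} hx => by
    have h : ∀ a : ZMod 4, a.val % 2 = 0 → (-a).val % 2 = 0 := by decide
    exact ⟨by simp [toAdd_inv, hx.1], h _ hx.2.1, h _ hx.2.2.1, by simp [toAdd_inv, hx.2.2.2]⟩

theorem card_bVec_nVec : Nat.card bVec = 64 ∧ Nat.card nVec = 4 := by
  have e : bVec ≃ {x : T8 // x.1.val % 2 = 0} :=
    ⟨fun x => ⟨x.1.toAdd, x.2⟩, fun x => ⟨Multiplicative.ofAdd x.1, x.2⟩, fun _ => rfl, fun _ => rfl⟩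
  have e' : nVec ≃ {x : T8 // x.1 = 0 ∧ x.2.1.val % 2 = 0 ∧ x.2.2.1.val % 2 = 0 ∧ x.2.2.2 = 0} :=
    ⟨fun x => ⟨x.1.toAdd, x.2⟩, fun x => ⟨Multiplicative.ofAdd x.1, x.2⟩, fun _ => rfl, fun _ => rfl⟩
  rw [Nat.card_congr e, Nat.card_congr e', Nat.card_eq_fintype_card, Nat.card_eq_fintype_card]
  decide +kernel

theorem T8.sq_mem : ∀ x : T8, x.1.val % 2 = 0 →
    (x + x).1 = 0 ∧ (x + x).2.1.val % 2 = 0 ∧ (x + x).2.2.1.val % 2 = 0 ∧ (x + x).2.2.2 = 0 := by
  decide +kernel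

theorem T8.decomp : ∀ x : T8, x = x.1.val • ((1, 0, 0, 0) : T8) + x.2.1.val • (0, 1, 0, 0) +
    x.2.2.1.val • (0, 0, 1, 0) + x.2.2.2.val • (0, 0, 0, 1) := by
  decide +kernel

theorem T8.exists_omega : ∀ x : T8, x + x = 0 → ∃ i j k l : Fin 2,
    x = omega i j k l := by
  decide +kernel

theorem T8.exists_double : ∀ x : T8, ∃ i j k : Fin 2,
    x + x = omega i j k 0 := by
  decide +kernel

variable {Y : Type u} [Group Y] [Finite Y] {L : Type v} [Group L] [Finite L] [IsSimpleGroup L]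

theorem false_of_indecomposable (h4 : Cfsg.SectionalPRankLE 2 4 Y) (hL : Nat.card L = 168) (π : Y →* L)
    (hπ : Function.Surjective π) (h16 : ∀ m : Y, π m = 1 → m ^ 16 = 1)
    (P Ω Λ : Subgroup Y) [P.Normal] [Ω.Normal] [Λ.Normal] (hPk : P ≤ π.ker)
    (hc : ∀ a ∈ P, ∀ b ∈ P, a * b = b * a) (h128 : Nat.card P = 128)
    (hΩ : ∀ z, z ∈ Ω ↔ z ∈ P ∧ z * z = 1) (hΩ16 : Nat.card Ω = 16) (hΛΩ : Λ ≤ Ω)
    (hΛ8 : Nat.card Λ = 8) (hsq : ∀ m ∈ P, m * m ∈ Λ)
    (hker : ∀ q, π q = 1 → ∀ m ∈ P, cm q m ∈ Ω) (hne : ∃ g, ∃ m ∈ P, cm g m ∉ Ω)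
    (hns : ∀ w ∈ Ω, w ∉ Λ → ∀ g, π (g * g) ≠ 1 → π (g * g) * π (g * g) = 1 → g * w ≠ w * g)
    (hQ : ∀ q, π q = 1 → q ∉ P → q * q ∈ Ω ∧ q * q ∉ Λ) : False := by
  classical
  have hΩP : Ω ≤ P := fun z hz => ((hΩ z).1 hz).1
  letI : CommGroup P := { (inferInstance : Group P) with
    mul_comm := fun a b => Subtype.ext (hc a a.2 b b.2) }
  have hP4 : ∀ m : P, m ^ 4 = 1 := fun m => Subtype.ext (by
    rw [SubmonoidClass.coe_pow, show (m : Y) ^ 4 = (m : Y) * m * ((m : Y) * m) by simp [pow_succ, mul_assoc],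
      ((hΩ _).1 (hΛΩ (hsq m m.2))).2, coe_one])
  -- squares fill `Λ`
  have hsqrt : ∀ z ∈ Λ, ∃ n : P, ((n * n : P) : Y) = z := by
    let sqh : P →* P := MonoidHom.mk' (fun m => m * m) fun a b => mul_mul_mul_comm a b a b
    have hk : sqh.ker = Ω.subgroupOf P := by
      ext m
      rw [MonoidHom.mem_ker, mem_subgroupOf, hΩ]
      show m * m = 1 ↔ _
      rw [← Subtype.coe_inj, coe_mul, coe_one]
      exact ⟨fun h => ⟨m.2, h⟩, fun h => h.2⟩
    have hcard : Nat.card sqh.range = 8 := by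
      have h1 := sqh.ker.card_mul_index
      rw [index_ker, h128, hk, Nat.card_congr (Subgroup.subgroupOfEquivOfLe hΩP).toEquiv, hΩ16] at h1
      omega
    have hle : sqh.range.map P.subtype ≤ Λ := by
      rintro _ ⟨_, ⟨n, rfl⟩, rfl⟩
      exact hsq n n.2
    have heq : sqh.range.map P.subtype = Λ := eq_of_le_of_card_ge hle (by
      rw [hΛ8, card_map_of_injective P.subtype_injective, hcard])
    intro z hz
    obtain ⟨_, ⟨n, rfl⟩, hn⟩ := heq.ge hz
    exact ⟨n, hn⟩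
  have hmap8 : Nat.card (P.map (QuotientGroup.mk' Ω)) = 8 := by
    have h := CfsgLib.PGroup.RadicalFive.card_comap_mk Ω (P.map (QuotientGroup.mk' Ω))
    rw [comap_map_eq, QuotientGroup.ker_mk', sup_eq_left.2 hΩP, h128, hΩ16] at h
    omega
  obtain ⟨c, r, y, S⟩ := exists_std hL π hπ h16 Ω P hΩP (fun m hm => hΛΩ (hsq m hm)) hmap8 hker hne
  obtain ⟨w, hwΩ, hwΛ⟩ : ∃ w ∈ Ω, w ∉ Λ := by
    by_contra h
    push Not at h
    have := card_le_of_le (show Ω ≤ Λ from h)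
    omega
  set q := cm r c with hq
  set p := cm r q with hp
  have hqP : q ∈ P := cm_mem r S.cP
  have hpP : p ∈ P := cm_mem r hqP
  have hr4P : r * r * (r * r) ∈ P := by
    by_contra h
    obtain ⟨h1, h2⟩ := hQ _ (by rw [map_mul]; exact S.t2) h
    exact hns _ h1 h2 r S.t1 S.t2 (by group)
  let cM : P := ⟨c, S.cP⟩
  let qM : P := ⟨q, hqP⟩
  let pM : P := ⟨p, hpP⟩
  let wM : P := ⟨w, hΩP hwΩ⟩
  have hw2 : wM ^ 2 = 1 := Subtype.ext (by rw [SubmonoidClass.coe_pow, pow_two]; exact ((hΩ w).1 hwΩ).2)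
  let F : Multiplicative T8 →* P :=
    MonoidHom.mk' (fun e => cM ^ e.toAdd.1.val * qM ^ e.toAdd.2.1.val * pM ^ e.toAdd.2.2.1.val *
      wM ^ e.toAdd.2.2.2.val) fun a b => by
      have hx : ∀ (x : P) (i j : ZMod 4), x ^ (i + j).val = x ^ i.val * x ^ j.val := fun x i j => by
        rw [← pow_add, ZMod.val_add, ← pow_eq_pow_mod _ (hP4 x)]
      have hx2 : ∀ (i j : ZMod 2), wM ^ (i + j).val = wM ^ i.val * wM ^ j.val := fun i j => by
        rw [← pow_add, ZMod.val_add, ← pow_eq_pow_mod _ hw2]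
      simp only [toAdd_mul, Prod.fst_add, Prod.snd_add, hx, hx2]
      simp only [mul_assoc, mul_comm, mul_left_comm]
  have hFc : F (Multiplicative.ofAdd (1, 0, 0, 0)) = cM := by
    simp [F, show ZMod.val (1 : ZMod 4) = 1 from rfl]
  have hFq : F (Multiplicative.ofAdd (0, 1, 0, 0)) = qM := by
    simp [F, show ZMod.val (1 : ZMod 4) = 1 from rfl]
  have hFp : F (Multiplicative.ofAdd (0, 0, 1, 0)) = pM := by
    simp [F, show ZMod.val (1 : ZMod 4) = 1 from rfl]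
  have hFw : F (Multiplicative.ofAdd (0, 0, 0, 1)) = wM := by simp [F, ZMod.val_one]
  have hsurj : Function.Surjective F := by
    have hmod : ∀ m : P, ∃ x ∈ F.range, ((x : Y))⁻¹ * (m : Y) ∈ Ω := by
      intro m
      obtain ⟨i, j, k, h⟩ := S.span m m.2
      refine ⟨cM ^ (i : ℕ) * qM ^ (j : ℕ) * pM ^ (k : ℕ),
        mul_mem (mul_mem (pow_mem (show cM ∈ F.range from ⟨_, hFc⟩) _) (pow_mem (show qM ∈ F.range from ⟨_, hFq⟩) _))
          (pow_mem (show pM ∈ F.range from ⟨_, hFp⟩) _), ?_⟩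
      simp only [coe_mul, SubmonoidClass.coe_pow]
      exact h
    have hΛr : ∀ m : P, (m : Y) ∈ Λ → m ∈ F.range := by
      intro m hm
      obtain ⟨n, hn⟩ := hsqrt _ hm
      obtain ⟨x', hx', hxn⟩ := hmod n
      set l : P := x'⁻¹ * n with hl
      have hl2 : l * l = 1 := Subtype.ext ((hΩ _).1 hxn).2
      have : m = x' * x' := by
        rw [← show n * n = m from Subtype.ext hn, show n = x' * l by rw [hl, mul_inv_cancel_left],
          mul_mul_mul_comm, hl2, mul_one]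
      rw [this]; exact mul_mem hx' hx'
    have htwo : ∀ z ∈ Ω, z ∈ Λ ∨ w⁻¹ * z ∈ Λ := by
      intro z hz
      have hidx : Λ.relIndex Ω = 2 := by
        have h1 := relIndex_mul_relIndex ⊥ Λ Ω bot_le hΛΩ
        rw [relIndex_bot_left, relIndex_bot_left, hΛ8, hΩ16] at h1
        omega
      by_cases hzΛ : z ∈ Λ
      · exact Or.inl hzΛ
      refine Or.inr ?_
      have h := (mul_mem_iff_of_index_two (H := Λ.subgroupOf Ω) hidx
        (a := ⟨w⁻¹, inv_mem hwΩ⟩) (b := ⟨z, hz⟩)).2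
      simp only [mem_subgroupOf, coe_mul] at h
      exact h (iff_of_false (fun e => hwΛ ((inv_mem_iff).1 e)) hzΛ)
    intro m
    show m ∈ F.range
    obtain ⟨x, hx, hxm⟩ := hmod m
    rcases htwo _ hxm with h | h
    · have h' := hΛr (x⁻¹ * m) (by rw [coe_mul, coe_inv]; exact h)
      have := mul_mem hx h'
      rwa [mul_inv_cancel_left] at this
    · have h' := hΛr (wM⁻¹ * (x⁻¹ * m)) (by rw [coe_mul, coe_mul, coe_inv, coe_inv]; exact h)
      have := mul_mem hx (mul_mem (show wM ∈ F.range from ⟨_, hFw⟩) h')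
      rwa [mul_inv_cancel_left, mul_inv_cancel_left] at this
  haveI : Fintype P := Fintype.ofFinite P
  have hbij : Function.Bijective F := (Fintype.bijective_iff_surjective_and_card F).2 ⟨hsurj, by
    rw [← Nat.card_eq_fintype_card (α := P), h128]; rfl⟩
  have hzero : ∀ x : T8, F (Multiplicative.ofAdd x) * F (Multiplicative.ofAdd x) = 1 → x + x = 0 := fun x h => by
    apply Multiplicative.ofAdd.injective
    apply hbij.1
    rw [ofAdd_add, map_mul, h, ofAdd_zero, map_one]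
  -- the matrix of `r`
  obtain ⟨xz, hxz⟩ := hsurj ⟨cm r p, cm_mem r hpP⟩
  obtain ⟨v0, v1, v2, a, hv⟩ := T8.exists_omega xz.toAdd (hzero _ (by
    rw [ofAdd_toAdd, hxz]; exact Subtype.ext ((hΩ _).1 S.rp).2))
  have hcwΛ : cm r w ∈ Λ := by
    by_contra h
    have hidx : Λ.relIndex Ω = 2 := by
      have h1 := relIndex_mul_relIndex ⊥ Λ Ω bot_le hΛΩ
      rw [relIndex_bot_left, relIndex_bot_left, hΛ8, hΩ16] at h1
      omega
    have hh := mul_mem_iff_of_index_two (H := Λ.subgroupOf Ω) hidx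
      (a := ⟨cm r w, cm_mem r hwΩ⟩) (b := ⟨w, hwΩ⟩)
    simp only [mem_subgroupOf, coe_mul] at hh
    have h1 : cm r w * w ∈ Λ := hh.2 (iff_of_false h hwΛ)
    rw [show cm r w * w = r * w * r⁻¹ by unfold cm; group] at h1
    have h2 := (inferInstance : Λ.Normal).conj_mem _ h1 r⁻¹
    exact hwΛ (by rwa [show r⁻¹ * (r * w * r⁻¹) * r⁻¹⁻¹ = w by group] at h2)
  obtain ⟨n, hn⟩ := hsqrt _ hcwΛ
  obtain ⟨xn, hxn⟩ := hsurj n
  obtain ⟨e0, e1, e2, he⟩ := T8.exists_double xn.toAdd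
  set f := fAct (v0, v1, v2) a (e0, e1, e2) with hf
  obtain ⟨hg0, hg1, hg2, hg3⟩ := fAct_gens (v0, v1, v2) a (e0, e1, e2)
  have fsmul : ∀ (n : ℕ) (x : T8), f (n • x) = n • f x := fun n x =>
    map_nsmul (AddMonoidHom.mk' f (fAct_add _ _ _)) n x
  have hconj : ∀ x : T8, MulAut.conjNormal r (F (Multiplicative.ofAdd x)) =
      F (Multiplicative.ofAdd (f x)) := by
    have g0 : MulAut.conjNormal r cM = cM * qM := Subtype.ext (by
      rw [MulAut.conjNormal_apply, mul_comm, coe_mul]; show r * c * r⁻¹ = cm r c * c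
      unfold cm; group)
    have g1 : MulAut.conjNormal r qM = qM * pM := Subtype.ext (by
      rw [MulAut.conjNormal_apply, mul_comm, coe_mul]; show r * q * r⁻¹ = cm r q * q
      unfold cm; group)
    have g2 : MulAut.conjNormal r pM = pM * F xz := Subtype.ext (by
      rw [MulAut.conjNormal_apply, mul_comm, coe_mul, hxz]; show r * p * r⁻¹ = cm r p * p
      unfold cm; group)
    have g3 : MulAut.conjNormal r wM = wM * F (Multiplicative.ofAdd (xn.toAdd + xn.toAdd)) := Subtype.ext (by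
      rw [MulAut.conjNormal_apply, mul_comm, coe_mul, ofAdd_add, ofAdd_toAdd, map_mul, hxn, hn]
      show r * w * r⁻¹ = cm r w * w
      unfold cm; group)
    intro x
    rw [T8.decomp x]
    simp only [hf] at fsmul ⊢
    simp only [fAct_add, fsmul, ofAdd_add, ofAdd_nsmul, map_mul, map_pow, hFc, hFq, hFp, hFw, hg0, hg1, hg2, hg3,
      g0, g1, g2, g3]
    rw [← hv, ← he, ofAdd_toAdd, ofAdd_add, map_mul]
    rfl
  have hr4 : π (r * r * (r * r)) = 1 := by rw [map_mul]; exact S.t2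
  have hR4 : ∀ x : T8, f (f (f (f x))) = x := fun x => by
    apply Multiplicative.ofAdd.injective
    apply hbij.1
    rw [← hconj, ← hconj, ← hconj, ← hconj, ← MulAut.mul_apply, ← MulAut.mul_apply, ← MulAut.mul_apply,
      ← map_mul, ← map_mul, ← map_mul]
    refine Subtype.ext ?_
    rw [MulAut.conjNormal_apply, hc _ (by simpa [mul_assoc] using hr4P) _ (F (Multiplicative.ofAdd x)).2,
      mul_inv_cancel_right]
  obtain ⟨ha, hv0, hv1, he0⟩ := fAct_restrict (v0, v1, v2) a (e0, e1, e2) ⟨hR4 _, hR4 _⟩ (by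
    intro i j k hfix
    set x : T8 := omega i j k 1 with hx
    have hh := hconj x
    rw [hf, hfix] at hh
    have hval := congrArg Subtype.val hh
    rw [MulAut.conjNormal_apply] at hval
    refine hns ((F (Multiplicative.ofAdd x) : P) : Y) ((hΩ _).2 ⟨(F _).2, ?_⟩) ?_ r S.t1 S.t2
      (mul_inv_eq_iff_eq_mul.1 hval)
    · have : F (Multiplicative.ofAdd x) * F (Multiplicative.ofAdd x) = 1 := by
        rw [← map_mul, ← ofAdd_add, show x + x = 0 from omega_two i j k 1]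
        exact map_one F
      exact congrArg Subtype.val this
    · intro hin
      obtain ⟨n', hn'⟩ := hsqrt _ hin
      obtain ⟨xn', hxn'⟩ := hsurj n'
      have h2 : xn'.toAdd + xn'.toAdd = x := by
        apply Multiplicative.ofAdd.injective
        apply hbij.1
        rw [ofAdd_add, ofAdd_toAdd, map_mul, hxn']
        exact Subtype.ext hn'
      have h3 := double_last xn'.toAdd
      rw [h2, hx] at h3
      exact omega_last i j k h3)
  simp only at hv0 hv1 he0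
  subst ha; subst hv0; subst hv1; subst he0
  obtain ⟨x₀, hx0⟩ := hsurj ⟨r * r * (r * r), hr4P⟩
  obtain ⟨m0, m2, hm⟩ := fAct_fixed v2 (e1, e2) x₀.toAdd (by
    apply Multiplicative.ofAdd.injective
    apply hbij.1
    show F (Multiplicative.ofAdd (f x₀.toAdd)) = _
    rw [← hconj, ofAdd_toAdd, hx0]
    refine Subtype.ext ?_
    rw [MulAut.conjNormal_apply]
    show r * (r * r * (r * r)) * r⁻¹ = r * r * (r * r)
    group)
  set m : T8 := (m13 m0 m2) with hmdef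
  set mM : P := F (Multiplicative.ofAdd m) with hmM
  set s := r * r * (mM : Y) with hs
  set B := bVec.map (P.subtype.comp F) with hB
  set N := nVec.map (P.subtype.comp F) with hN
  have hinj : Function.Injective (P.subtype.comp F) := P.subtype_injective.comp hbij.1
  have hmemN : ∀ x : T8, (x.1 = 0 ∧ x.2.1.val % 2 = 0 ∧ x.2.2.1.val % 2 = 0 ∧ x.2.2.2 = 0) →
      ((F (Multiplicative.ofAdd x) : P) : Y) ∈ N := fun x hx => ⟨Multiplicative.ofAdd x, hx, rfl⟩
  have hrrr : ∀ x : P, (r * r)⁻¹ * (x : Y) * (r * r) = (r * r) * (x : Y) * (r * r)⁻¹ := fun x => by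
    calc (r * r)⁻¹ * (x : Y) * (r * r) = (r * r) * ((r * r * (r * r))⁻¹ * x * (r * r * (r * r))) * (r * r)⁻¹ :=
          (fun t w : Y => show t⁻¹ * w * t = t * ((t * t)⁻¹ * w * (t * t)) * t⁻¹ by group) (r * r) x
      _ = r * r * (x : Y) * (r * r)⁻¹ := by
        rw [mul_assoc _ (x : Y), hc _ x.2 _ hr4P, inv_mul_cancel_left]
  refine false_of_single h4 π B N ?_ ?_ ?_ ?_ s ?_ ?_ ?_ ?_
  · rintro _ ⟨x, -, rfl⟩; exact hPk (F x).2
  · rintro _ ⟨x, hx, rfl⟩
    exact ⟨x, (show x.toAdd.1.val % 2 = 0 by rw [hx.1]; rfl), rfl⟩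
  · rintro _ ⟨x, hx, rfl⟩
    rw [← map_mul]
    exact ⟨x * x, T8.sq_mem x.toAdd hx, rfl⟩
  · rintro _ ⟨x, -, rfl⟩ _ ⟨z, -, rfl⟩
    rw [show P.subtype.comp F x * P.subtype.comp F z * (P.subtype.comp F x)⁻¹ * (P.subtype.comp F z)⁻¹ =
      P.subtype.comp F 1 by
        simp only [← map_inv, ← map_mul]; congr 1; rw [mul_comm x z, mul_inv_cancel_right, mul_inv_cancel]]
    exact ⟨1, one_mem _, rfl⟩
  · rw [hs, map_mul, MonoidHom.mem_ker.1 (hPk mM.2), mul_one]; exact S.t1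
  · have e1' : s * s = (r * r * (r * r)) * ((r * r)⁻¹ * (mM : Y) * (r * r)) * mM := by simp [hs, mul_assoc]
    rw [e1', hrrr]
    have h := hmemN _ hm
    rw [ofAdd_add, ofAdd_add, map_mul, map_mul, ofAdd_toAdd, hx0, ← hconj, ← hconj] at h
    simp only [coe_mul, MulAut.conjNormal_apply] at h
    rw [← hmM] at h
    convert h using 1
    group
  · rintro _ ⟨x, hx, rfl⟩
    show s * (F x : Y) * s⁻¹ * (F x : Y)⁻¹ ∈ N
    have e1' : s * (F x : Y) * s⁻¹ * (F x : Y)⁻¹ =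
        ((MulAut.conjNormal r (MulAut.conjNormal r (F x)) * (F x)⁻¹ : P) : Y) := by
      rw [coe_mul, coe_inv, MulAut.conjNormal_apply, MulAut.conjNormal_apply, hs,
        show r * r * (mM : Y) * (F x : Y) * (r * r * (mM : Y))⁻¹ =
          r * r * ((mM : Y) * (F x : Y) * (mM : Y)⁻¹) * (r * r)⁻¹ by group,
        hc _ mM.2 _ (F x).2, mul_inv_cancel_right]
      group
    rw [e1']
    have e2' : MulAut.conjNormal r (MulAut.conjNormal r (F x)) * (F x)⁻¹ =
        F (Multiplicative.ofAdd (f (f x.toAdd) - x.toAdd)) := by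
      conv_lhs => rw [← ofAdd_toAdd x, hconj, hconj]
      rw [ofAdd_sub, map_div, ofAdd_toAdd, div_eq_mul_inv]
    rw [e2']
    exact hmemN _ (fAct_even v2 (e1, e2) x.toAdd hx)
  · rw [hB, hN, card_map_of_injective hinj, card_map_of_injective hinj, card_bVec_nVec.1, card_bVec_nVec.2]

end CfsgLib.PGroup.RadicalSeven
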