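import Cfsg.Agent.Lib.PGroup.RadicalSeven.Linear
import Mathlib.GroupTheory.GroupAction.Basic
import Mathlib.GroupTheory.GroupAction.Quotient

/-!
# Modules of order at most 16 of the simple group of order 168

Equivariant maps between faithful modules of order 8, and the two shapes of a faithful module of
order 16.
-/

set_option autoImplicit false
set_option linter.unusedSectionVars false
set_option linter.style.haveILetI false

open Subgroup

namespace CfsgLib.PGroup.RadicalSeven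

universe u v w

variable {W : Type u} [CommGroup W] [Finite W] {L : Type v} [Group L] [Finite L]

/-- The stabiliser of a point. -/
def stabPt (ρ : L →* MulAut W) (a : W) : Subgroup L where
  carrier := {g | ρ g a = a}
  one_mem' := by show ρ 1 a = a; rw [map_one]; rfl
  mul_mem' := fun {g k} hg hk => by
    show ρ (g * k) a = a
    rw [map_mul, MulAut.mul_apply, show ρ k a = a from hk, show ρ g a = a from hg]
  inv_mem' := fun {g} hg => by
    show ρ g⁻¹ a = a
    nth_rewrite 1 [← (show ρ g a = a from hg)]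
    rw [← MulAut.mul_apply, ← map_mul, inv_mul_cancel, map_one]; rfl

theorem mem_stabPt {ρ : L →* MulAut W} {a : W} {g : L} : g ∈ stabPt ρ a ↔ ρ g a = a := Iff.rfl

/-- The fixed points of an automorphism. -/
def fixPts (σ : MulAut W) : Subgroup W where
  carrier := {v | σ v = v}
  one_mem' := map_one σ
  mul_mem' := fun {a b} ha hb => by
    show σ (a * b) = a * b
    rw [map_mul, show σ a = a from ha, show σ b = b from hb]
  inv_mem' := fun {a} ha => by
    show σ a⁻¹ = a⁻¹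
    rw [map_inv, show σ a = a from ha]

theorem card_stabPt_mul (ρ : L →* MulAut W) (a : W) :
    Nat.card (Set.range fun g => ρ g a) * Nat.card (stabPt ρ a) = Nat.card L := by
  letI : MulAction L W := MulAction.compHom W ρ
  have h1 : stabPt ρ a = MulAction.stabilizer L a := by ext g; exact Iff.rfl
  rw [h1, ← Nat.card_prod]
  exact Nat.card_congr (MulAction.orbitProdStabilizerEquivGroup L a)

theorem exists_third (h8 : Nat.card W = 8) {a b : W} (ha : a ≠ 1) (hb : b ≠ 1) (hab : a ≠ b) :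
    ∃ d, Indep d a b ∧ Indep a b d := by
  classical
  haveI : Fintype W := Fintype.ofFinite W
  obtain ⟨d, hd⟩ : ∃ d, d ∉ ({1, a, b, a * b, b * a⁻¹, b⁻¹, a⁻¹} : Finset W) := by
    by_contra h
    push Not at h
    have h1 := Finset.eq_univ_of_forall h
    have h2 : ({1, a, b, a * b, b * a⁻¹, b⁻¹, a⁻¹} : Finset W).card ≤ 7 := (Finset.card_insert_le _ _).trans (Nat.succ_le_succ Finset.card_le_six)
    rw [h1, Finset.card_univ, ← Nat.card_eq_fintype_card, h8] at h2
    omega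
  simp only [Finset.mem_insert, Finset.mem_singleton, not_or] at hd
  obtain ⟨d1, da, db, dab, dba, -, -⟩ := hd
  refine ⟨d, ⟨d1, ha, Ne.symm da, hb, Ne.symm db, hab.symm, fun e => dba ?_⟩, ⟨ha, hb, hab.symm, d1, da, db, dab⟩⟩
  rw [e, mul_inv_cancel_right]

variable (hL : Nat.card L = 168) (h2 : ∀ w : W, w * w = 1) (h8 : Nat.card W = 8)
  (ρ : L →* MulAut W) (hρ : Function.Injective ρ)

include hL h2 h8 hρ

theorem exists_map_pair {a b a' b' : W} (ha : a ≠ 1) (hb : b ≠ 1) (hab : a ≠ b) (ha' : a' ≠ 1)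
    (hb' : b' ≠ 1) (hab' : a' ≠ b') : ∃ g, ρ g a = a' ∧ ρ g b = b' := by
  obtain ⟨d, -, hi⟩ := exists_third h8 ha hb hab
  obtain ⟨d', -, hi'⟩ := exists_third h8 ha' hb' hab'
  obtain ⟨g, h1, h2', -⟩ := exists_elem hL h2 h8 ρ hρ hi hi'
  exact ⟨g, h1, h2'⟩

theorem exists_map_point {a a' : W} (ha : a ≠ 1) (ha' : a' ≠ 1) : ∃ g, ρ g a = a' := by
  classical
  have key : ∀ a : W, a ≠ 1 → ∃ b, b ≠ 1 ∧ a ≠ b := by
    intro a _
    by_contra h
    push Not at h
    haveI : Fintype W := Fintype.ofFinite W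
    have : Finset.univ ⊆ ({1, a} : Finset W) := fun x _ => by
      rcases eq_or_ne x 1 with e | e
      · simp [e]
      · simp [h x e]
    have h' := (Finset.card_le_card this).trans Finset.card_le_two
    rw [Finset.card_univ, ← Nat.card_eq_fintype_card, h8] at h'
    omega
  obtain ⟨b, hb, hab⟩ := key a ha
  obtain ⟨b', hb', hab'⟩ := key a' ha'
  obtain ⟨g, hg, -⟩ := exists_map_pair hL h2 h8 ρ hρ ha hb hab ha' hb' hab'
  exact ⟨g, hg⟩

theorem card_stabPt {a : W} (ha : a ≠ 1) : Nat.card (stabPt ρ a) = 24 := by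
  have h := card_stabPt_mul ρ a
  have hr : Set.range (fun g => ρ g a) = {1}ᶜ := by
    ext x
    refine ⟨?_, fun hx => exists_map_point hL h2 h8 ρ hρ ha hx⟩
    rintro ⟨g, rfl⟩ e
    exact ha ((map_eq_one_iff _ (ρ g).injective).1 e)
  rw [hr, hL, Nat.card_coe_set_eq, Set.ncard_compl, Set.ncard_singleton, h8] at h
  omega

theorem card_stab_two {a b : W} (ha : a ≠ 1) (hb : b ≠ 1) (hab : a ≠ b) {S : Subgroup L}
    (hS : ∀ g ∈ S, ρ g a = a ∧ ρ g b = b) : Nat.card S ≤ 4 := by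
  obtain ⟨d, -, hi⟩ := exists_third h8 ha hb hab
  let K : Subgroup W :=
    { carrier := {1, a, b, a * b}
      one_mem' := Or.inl rfl
      mul_mem' := by
        have hcc : ∀ x y : W, x * (x * y) = y := fun x y => by rw [← mul_assoc, h2, one_mul]
        rintro x y (rfl | rfl | rfl | rfl) (rfl | rfl | rfl | rfl) <;>
          simp [mul_comm, mul_left_comm, mul_assoc, h2, hcc]
      inv_mem' := fun {x} hx => by rwa [inv_eq_of_mul_eq_one_right (h2 x)] }
  let f : S → {x : W // x ∉ K} := fun g => ⟨ρ g d, fun hx => by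
    have hfix : ∀ v ∈ K, ρ g v = v := by
      rintro v (rfl | rfl | rfl | rfl)
      · exact map_one _
      · exact (hS g g.2).1
      · exact (hS g g.2).2
      · rw [map_mul, (hS g g.2).1, (hS g g.2).2]
    have hd' := hx
    rw [(ρ g).injective (hfix _ hx)] at hd'
    have h4' : d ≠ 1 ∧ d ≠ a ∧ d ≠ b ∧ d ≠ a * b := hi.2.2.2
    obtain ⟨d1, da, db, dab⟩ := h4'
    rcases hd' with h | h | h | h <;> contradiction⟩
  have hf : Function.Injective f := by
    intro g g' h
    refine Subtype.ext (hρ (aut_ext h2 h8 hi ?_ ?_ (congrArg Subtype.val h)))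
    · rw [(hS g g.2).1, (hS g' g'.2).1]
    · rw [(hS g g.2).2, (hS g' g'.2).2]
  have h1 := Nat.card_le_card_of_injective f hf
  have h4 : Nat.card {x : W // x ∉ K} = 4 := by
    have hK : ((K : Set W)).ncard = 4 := by
      have e : ((K : Set W)) = {1, a, b, a * b} := rfl
      have n1 : a * b ≠ 1 := fun e => hab ((eq_inv_of_mul_eq_one_left e).trans
        (inv_eq_of_mul_eq_one_right (h2 b)))
      have n2 : a * b ≠ a := fun e => hb (mul_eq_left.1 e)
      have n3 : a * b ≠ b := fun e => ha (mul_eq_right.1 e)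
      rw [e, Set.ncard_insert_of_notMem (by simp [Ne.symm ha, Ne.symm hb, Ne.symm n1]),
        Set.ncard_insert_of_notMem (by simp [hab, Ne.symm n2]),
        Set.ncard_pair (Ne.symm n3)]
    show Nat.card ((K : Set W)ᶜ : Set W) = 4
    rw [Nat.card_coe_set_eq, Set.ncard_compl, hK, h8]
  omega

theorem eq_of_stab_fixed {a x y : W} (ha : a ≠ 1) (hx : x ≠ 1) (hy : y ≠ 1) {S : Subgroup L}
    (hS : 4 < Nat.card S) (hfx : ∀ g ∈ S, ρ g x = x ∧ ρ g y = y) : x = y := by
  by_contra h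
  have := card_stab_two hL h2 h8 ρ hρ hx hy h hfx
  omega

variable {V : Type w} [CommGroup V] [Finite V]

theorem setmap_linear [IsSimpleGroup L] (h2' : ∀ v : V, v * v = 1) (h8' : Nat.card V = 8)
    (ρ' : L →* MulAut V) (hρ' : Function.Injective ρ') (σ : W → V) (hσ1 : σ 1 = 1)
    (hσ : ∀ g a, σ (ρ g a) = ρ' g (σ a)) :
    (∀ a, σ a = 1) ∨ ((∀ a b, σ (a * b) = σ a * σ b) ∧ Function.Bijective σ) := by
  classical
  by_cases hall : ∀ a, σ a = 1
  · exact Or.inl hall
  right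
  push Not at hall
  obtain ⟨a0, ha0⟩ := hall
  have hne : ∀ a, a ≠ 1 → σ a ≠ 1 := by
    intro a ha e
    obtain ⟨g, hg⟩ := exists_map_point hL h2 h8 ρ hρ ha (fun e' : a0 = 1 => ha0 (e' ▸ hσ1))
    exact ha0 (by rw [← hg, hσ, e, map_one])
  have hsle : ∀ a, stabPt ρ a ≤ stabPt ρ' (σ a) := fun a g hg => by
    show ρ' g (σ a) = σ a
    rw [← hσ, show ρ g a = a from hg]
  have hinj : Function.Injective σ := by
    intro a b e
    by_contra hab
    have ha : a ≠ 1 := fun h => hne b (fun h' => hab (h.trans h'.symm)) (by rw [← e, h, hσ1])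
    have hb : b ≠ 1 := fun h => hne a ha (by rw [e, h, hσ1])
    have hA : stabPt ρ a = stabPt ρ' (σ a) := eq_of_le_of_card_ge (hsle a) (by
      rw [card_stabPt hL h2 h8 ρ hρ ha, card_stabPt hL h2' h8' ρ' hρ' (hne a ha)])
    have hB : stabPt ρ b = stabPt ρ' (σ b) := eq_of_le_of_card_ge (hsle b) (by
      rw [card_stabPt hL h2 h8 ρ hρ hb, card_stabPt hL h2' h8' ρ' hρ' (hne b hb)])
    exact hab (eq_of_stab_fixed hL h2 h8 ρ hρ ha ha hb (S := stabPt ρ a)
      (by rw [card_stabPt hL h2 h8 ρ hρ ha]; omega)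
      (fun g hg => ⟨hg, by
        have : g ∈ stabPt ρ b := by rw [hB, ← e, ← hA]; exact hg
        exact this⟩))
  haveI : Fintype W := Fintype.ofFinite W
  haveI : Fintype V := Fintype.ofFinite V
  refine ⟨fun a b => ?_, (Fintype.bijective_iff_injective_and_card σ).2 ⟨hinj, by
    rw [← Nat.card_eq_fintype_card, ← Nat.card_eq_fintype_card, h8, h8']⟩⟩
  rcases eq_or_ne a 1 with rfl | ha
  · rw [one_mul, hσ1, one_mul]
  rcases eq_or_ne b 1 with rfl | hb
  · rw [mul_one, hσ1, mul_one]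
  rcases eq_or_ne a b with rfl | hab
  · rw [h2, hσ1, h2']
  -- an automorphism fixing `a` and `b`
  obtain ⟨d, hd, hi⟩ := exists_third h8 ha hb hab
  have hda : Indep a b (d * a) := by
    obtain ⟨-, -, hba, d1, da, db, dab⟩ := hi
    have hcc : ∀ x y : W, x * y * y = x := fun x y => by rw [mul_assoc, h2, mul_one]
    refine ⟨ha, hb, hba, fun e => da ?_, fun e => d1 (mul_eq_right.1 e), fun e => dab ?_, fun e => db ?_⟩
    · rw [← hcc d a, e, one_mul]
    · rw [← hcc d a, e, mul_comm]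
    · rw [← hcc d a, e, mul_comm a b, hcc]
  obtain ⟨g, g1, g2, g3⟩ := exists_elem hL h2 h8 ρ hρ hi hda
  have hg1 : g ≠ 1 := fun e => ha (by
    rw [e, map_one, MulAut.one_apply] at g3
    exact mul_eq_left.1 g3.symm)
  set Fx := fixPts (ρ' g)
  have hFx : Nat.card Fx ≤ 4 := by
    by_contra hlt
    have hdvd := card_subgroup_dvd_card Fx
    rw [h8'] at hdvd
    have h8F : Nat.card Fx = 8 := by
      have := Nat.le_of_dvd (by norm_num) hdvd
      have key : ∀ n : ℕ, n < 9 → n ∣ 8 → n ≤ 4 ∨ n = 8 := by decide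
      exact (key _ (by omega) hdvd).resolve_left hlt
    exact hg1 (hρ' (MulEquiv.ext fun v => by
      rw [map_one]
      exact (eq_top_of_card_eq Fx (h8F.trans h8'.symm) ▸ mem_top v : v ∈ Fx)))
  have m1 : σ a ∈ Fx := by show ρ' g (σ a) = σ a; rw [← hσ, g1]
  have m2 : σ b ∈ Fx := by show ρ' g (σ b) = σ b; rw [← hσ, g2]
  have m3 : σ (a * b) ∈ Fx := by show ρ' g (σ (a * b)) = σ (a * b); rw [← hσ, map_mul, g1, g2]
  by_contra hneq
  have hs : ({1, σ a, σ b, σ a * σ b, σ (a * b)} : Finset V) ⊆ (Fx : Set V).toFinset := by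
    intro x hx
    simp only [Finset.mem_insert, Finset.mem_singleton] at hx
    rw [Set.mem_toFinset]
    rcases hx with rfl | rfl | rfl | rfl | rfl
    exacts [one_mem _, m1, m2, mul_mem m1 m2, m3]
  have hab1 : a * b ≠ 1 := fun e => hab ((eq_inv_of_mul_eq_one_left e).trans
    (inv_eq_of_mul_eq_one_right (h2 b)))
  have n1 : σ a ≠ σ b := fun e => hab (hinj e)
  have n2 : σ a * σ b ≠ 1 := fun e => n1 ((eq_inv_of_mul_eq_one_left e).trans
    (inv_eq_of_mul_eq_one_right (h2' _)))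
  have n3 : σ (a * b) ≠ σ a := fun e => hb (mul_eq_left.1 (hinj e))
  have n4 : σ (a * b) ≠ σ b := fun e => ha (mul_eq_right.1 (hinj e))
  have n5 : σ (a * b) ≠ σ a * σ b := hneq
  have h5 : ({1, σ a, σ b, σ a * σ b, σ (a * b)} : Finset V).card = 5 := by
    have e1 : σ a * σ b ≠ σ a := fun e => hne b hb (mul_eq_left.1 e)
    have e2 : σ a * σ b ≠ σ b := fun e => hne a ha (mul_eq_right.1 e)
    rw [Finset.card_insert_of_notMem (by simp [Ne.symm (hne a ha), Ne.symm (hne b hb), Ne.symm n2, Ne.symm (hne _ hab1)]),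
      Finset.card_insert_of_notMem (by simp [n1, Ne.symm e1, Ne.symm n3]),
      Finset.card_insert_of_notMem (by simp [Ne.symm e2, Ne.symm n4]),
      Finset.card_pair (Ne.symm n5)]
  have h6 := Finset.card_le_card hs
  rw [h5, Set.toFinset_card, ← Nat.card_eq_fintype_card] at h6
  change 5 ≤ Nat.card Fx at h6
  omega

omit hL h2 h8 hρ

/-- Orders of faithful modules and their shapes in order 16. -/
theorem module_cases [IsSimpleGroup L] (hL : Nat.card L = 168) {V : Type w} [CommGroup V] [Finite V]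
    (h2 : ∀ v : V, v * v = 1) (h16 : Nat.card V ≤ 16) (ρ : L →* MulAut V) (hρ : Function.Injective ρ) :
    Nat.card V = 8 ∨ (Nat.card V = 16 ∧
      ((∃ W : Subgroup V, Nat.card W = 8 ∧ (∀ g, ∀ v ∈ W, ρ g v ∈ W) ∧
          ∃ z ∉ W, (∀ g, ρ g z = z) ∨ ∀ x ∉ W, ∃ g, ρ g z = x) ∨
        ∃ z : V, z ≠ 1 ∧ (∀ g, ρ g z = z) ∧ ∀ a b : V, a ≠ 1 → a ≠ z → b ≠ 1 → b ≠ z → ∃ g, ρ g a = b)) := by
  classical
  haveI : Fact (Nat.Prime 2) := ⟨Nat.prime_two⟩
  haveI : Fact (Nat.Prime 7) := ⟨by decide⟩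
  obtain ⟨y, hy⟩ := exists_prime_orderOf_dvd_card' (G := L) 7 (by rw [hL]; norm_num)
  have hy7 : y ^ 7 = 1 := hy ▸ pow_orderOf_eq_one y
  have hy1 : y ≠ 1 := fun e => by rw [e, orderOf_one] at hy; omega
  have hρy : ρ y ≠ 1 := fun e => hy1 (hρ (by rw [e, map_one]))
  have hpg : IsPGroup 2 V := fun v => ⟨1, by rw [pow_one, pow_two]; exact h2 v⟩
  obtain ⟨k, hk⟩ := IsPGroup.iff_card.1 hpg
  obtain ⟨j, hj⟩ := IsPGroup.iff_card.1 (hpg.to_subgroup (fixPts (ρ y)))
  have hmod : Nat.card V ≡ Nat.card (fixPts (ρ y)) [MOD 7] := by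
    letI : MulAction (zpowers y) V := MulAction.compHom V (ρ.comp (zpowers y).subtype)
    have hp : IsPGroup 7 (zpowers y) := IsPGroup.of_card (n := 1) (by rw [Nat.card_zpowers, hy, pow_one])
    have h := hp.card_modEq_card_fixedPoints V
    refine h.trans (congrArg (· % 7) (Nat.card_congr
      { toFun := fun v => ⟨v.1, v.2 ⟨y, mem_zpowers y⟩⟩
        invFun := fun v => ⟨v.1, fun g => ?_⟩
        left_inv := fun _ => rfl
        right_inv := fun _ => rfl }))
    show ρ (g : L) v.1 = v.1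
    have : zpowers y ≤ stabPt ρ v.1 := zpowers_le.2 v.2
    exact this g.2
  have hle := card_le_card_group (fixPts (ρ y))
  have hlt : j < k := by
    refine lt_of_le_of_ne ((Nat.pow_le_pow_iff_right Nat.one_lt_two).1 (hj ▸ hk ▸ hle)) fun e => hρy ?_
    refine MulEquiv.ext fun v => ?_
    exact (eq_top_of_card_eq (fixPts (ρ y)) (by rw [hj, hk, e]) ▸ mem_top v : v ∈ fixPts (ρ y))
  have hk4 : k ≤ 4 := (Nat.pow_le_pow_iff_right Nat.one_lt_two).1 (by rw [← hk]; exact h16)
  rw [hk, hj] at hmod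
  have hjk : (k = 3 ∧ j = 0) ∨ (k = 4 ∧ j = 1) := by
    interval_cases k <;> interval_cases j <;> simp_all [Nat.ModEq]
  rcases hjk with ⟨rfl, rfl⟩ | ⟨rfl, rfl⟩
  · exact Or.inl (by rw [hk]; rfl)
  right
  refine ⟨by rw [hk]; rfl, ?_⟩
  haveI : Nontrivial (fixPts (ρ y)) := Finite.one_lt_card_iff_nontrivial.1 (by rw [hj]; norm_num)
  obtain ⟨⟨z, hzF⟩, hz⟩ := exists_ne (1 : fixPts (ρ y))
  have hz1 : z ≠ 1 := fun e => hz (Subtype.ext e)
  have hFz : ∀ v, ρ y v = v → v = 1 ∨ v = z := by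
    intro v hv
    by_contra h
    push Not at h
    have hs : ({1, v, z} : Set V) ⊆ fixPts (ρ y) := by
      rintro x (rfl | rfl | rfl)
      exacts [one_mem _, hv, hzF]
    have := Set.ncard_le_ncard hs (Set.toFinite _)
    rw [Set.ncard_insert_of_notMem (by simp [Ne.symm h.1, Ne.symm hz1]), Set.ncard_pair h.2] at this
    change 3 ≤ _ at this
    rw [← Nat.card_coe_set_eq] at this
    change 3 ≤ Nat.card (fixPts (ρ y)) at this
    rw [hj] at this
    norm_num at this
  let δ : V →* V := MonoidHom.mk' (fun u => u * ρ y u) fun a b => by rw [map_mul, mul_mul_mul_comm]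
  have hcc : ∀ a b : V, a * (a * b) = b := fun a b => by rw [← mul_assoc, h2, one_mul]
  have hker : δ.ker = fixPts (ρ y) := by
    ext u
    rw [MonoidHom.mem_ker]
    show u * ρ y u = 1 ↔ ρ y u = u
    exact ⟨fun e => by rw [← hcc u (ρ y u), e, mul_one], fun e => by rw [e, h2]⟩
  set W := δ.range with hW
  have hW8 : Nat.card W = 8 := by
    have h1 := δ.ker.card_mul_index
    rw [index_ker, hker, hj, hk] at h1
    norm_num at h1
    change 2 * Nat.card W = 16 at h1
    omega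
  have hWy : ∀ v ∈ W, ρ y v ∈ W := by
    rintro _ ⟨u, rfl⟩
    exact ⟨ρ y u, (map_mul _ _ _).symm⟩
  have hpowy : ∀ n : ℕ, ∀ v ∈ W, ρ (y ^ n) v ∈ W := by
    intro n
    induction n with
    | zero => intro v hv; rw [pow_zero, map_one]; exact hv
    | succ n ih => intro v hv; rw [pow_succ', map_mul, MulAut.mul_apply]; exact hWy _ (ih v hv)
  have hzW : z ∉ W := by
    rintro ⟨u, hu⟩
    have hu' : ρ y u = u * z := by rw [← hu]; exact (hcc u _).symm
    have hn : ∀ n : ℕ, ρ (y ^ n) u = u * z ^ n := by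
      intro n
      induction n with
      | zero => simp
      | succ n ih => rw [pow_succ', map_mul, MulAut.mul_apply, ih, map_mul, hu', map_pow, show ρ y z = z from hzF,
          pow_succ', mul_assoc]
    have h7 := hn 7
    rw [hy7, map_one, MulAut.one_apply] at h7
    have hz7 : z ^ 7 = z := by
      have h22 : z ^ 2 = 1 := by rw [pow_two]; exact h2 z
      rw [show 7 = 2 * 3 + 1 by rfl, pow_succ, pow_mul, h22, one_pow, one_mul]
    rw [hz7] at h7
    exact hz1 (mul_eq_left.1 h7.symm)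
  -- orbits of the element of order seven
  have horb : ∀ v, ρ y v ≠ v → Set.ncard (Set.range fun n : Fin 7 => ρ (y ^ (n : ℕ)) v) = 7 := by
    intro v hv
    rw [Set.ncard_range_of_injective, Nat.card_fin]
    intro m n h
    by_contra hmn
    have key : ∀ m n : Fin 7, m ≠ n → ∃ k : Fin 7, ((k : ℕ) * ((m : ℕ) + 7 - (n : ℕ))) % 7 = 1 := by decide
    obtain ⟨i, hi⟩ := key m n hmn
    refine hv ?_
    have hd : y ^ ((m : ℕ) + 7 - (n : ℕ)) ∈ stabPt ρ v := by
      refine (ρ (y ^ (n : ℕ))).injective ?_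
      rw [← MulAut.mul_apply, ← map_mul, ← pow_add, Nat.add_sub_cancel' (by omega), pow_add, hy7, mul_one]
      exact h
    have hp := pow_mem hd (i : ℕ)
    rw [← pow_mul, mul_comm, pow_eq_pow_mod _ hy7, hi, pow_one] at hp
    exact hp
  have hWorb : ∀ a ∈ W, a ≠ 1 → ∀ b ∈ W, b ≠ 1 → ∃ n : ℕ, ρ (y ^ n) a = b := by
    intro a ha ha1 b hb hb1
    have hane : ρ y a ≠ a := fun e => (hFz a e).elim ha1 fun h => hzW (h ▸ ha)
    have hsub : Set.range (fun n : Fin 7 => ρ (y ^ (n : ℕ)) a) ⊆ (W : Set V) \ {1} := by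
      rintro _ ⟨n, rfl⟩
      exact ⟨hpowy _ a ha, fun e => ha1 ((map_eq_one_iff _ (ρ (y ^ (n : ℕ))).injective).1 e)⟩
    have heq := Set.eq_of_subset_of_ncard_le hsub (by
      rw [horb a hane, Set.ncard_sdiff (by simp), Set.ncard_singleton, ← Nat.card_coe_set_eq]
      show Nat.card W - 1 ≤ 7
      omega) (Set.toFinite _)
    obtain ⟨n, hn⟩ := heq.ge (show b ∈ (W : Set V) \ {1} from ⟨hb, hb1⟩)
    exact ⟨n, hn⟩
  have hidx : W.index = 2 := by
    have := W.card_mul_index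
    rw [hW8, hk] at this
    norm_num at this
    omega
  have hzmul : ∀ v, v ∉ W → z * v ∈ W := fun v hv =>
    (mul_mem_iff_of_index_two hidx).2 (iff_of_false hzW hv)
  have hzfix : ∀ n : ℕ, ρ (y ^ n) z = z := fun n =>
    (pow_mem (show y ∈ stabPt ρ z from hzF) n : y ^ n ∈ stabPt ρ z)
  have hCorb : ∀ a ∉ W, a ≠ z → ∀ b ∉ W, b ≠ z → ∃ n : ℕ, ρ (y ^ n) a = b := by
    intro a ha haz b hb hbz
    have h1 : ∀ v, v ≠ z → z * v ≠ 1 := fun v hv e => hv (by
      have := congrArg (z * ·) e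
      simp only [hcc, mul_one] at this
      exact this)
    obtain ⟨n, hn⟩ := hWorb _ (hzmul a ha) (h1 a haz) _ (hzmul b hb) (h1 b hbz)
    refine ⟨n, mul_left_cancel (a := z) ?_⟩
    rwa [map_mul, hzfix] at hn
  by_cases hinv : ∀ g, ∀ v ∈ W, ρ g v ∈ W
  · left
    refine ⟨W, hW8, hinv, z, hzW, ?_⟩
    by_cases hfix : ∀ g, ρ g z = z
    · exact Or.inl hfix
    push Not at hfix
    obtain ⟨g₀, hg₀⟩ := hfix
    refine Or.inr fun x hx => ?_
    have hg₀W : ρ g₀ z ∉ W := fun h => hzW (by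
      have := hinv g₀⁻¹ _ h
      rwa [← MulAut.mul_apply, ← map_mul, inv_mul_cancel, map_one, MulAut.one_apply] at this)
    rcases eq_or_ne x z with rfl | hxz
    · exact ⟨1, by rw [map_one]; rfl⟩
    obtain ⟨n, hn⟩ := hCorb _ hg₀W hg₀ x hx hxz
    exact ⟨y ^ n * g₀, by rw [map_mul, MulAut.mul_apply, hn]⟩
  right
  push Not at hinv
  obtain ⟨g₁, w₁, hw₁, hgw₁⟩ := hinv
  have hw11 : w₁ ≠ 1 := fun e => hgw₁ (by rw [e, map_one]; exact one_mem W)
  let Orb : V → Set V := fun a => Set.range fun g => ρ g a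
  have hOmem : ∀ a g x, x ∈ Orb a → ρ g x ∈ Orb a := by
    rintro a g _ ⟨k, rfl⟩
    exact ⟨g * k, by show ρ (g * k) a = _; rw [map_mul, MulAut.mul_apply]⟩
  -- the fixed point is fixed by everything
  have hzfixed : ∀ g, ρ g z = z := by
    by_contra hmov
    push Not at hmov
    obtain ⟨g₀, hg₀⟩ := hmov
    have hg1 : ρ g₀ z ≠ 1 := fun e => hz1 ((map_eq_one_iff _ (ρ g₀).injective).1 e)
    have hbig : (∀ v ∈ W, v ≠ 1 → v ∈ Orb z) ∨ (∀ v ∉ W, v ∈ Orb z) := by
      by_cases hm : ρ g₀ z ∈ W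
      · left
        intro v hv hv1
        obtain ⟨n, hn⟩ := hWorb _ hm hg1 v hv hv1
        rw [← hn]; exact hOmem z _ _ ⟨g₀, rfl⟩
      · right
        intro v hv
        rcases eq_or_ne v z with rfl | hvz
        · exact ⟨1, by show ρ 1 v = v; rw [map_one]; rfl⟩
        obtain ⟨n, hn⟩ := hCorb _ hm hg₀ v hv hvz
        rw [← hn]; exact hOmem z _ _ ⟨g₀, rfl⟩
    have hcardO : Nat.card (Orb z) ≠ 15 := fun e => by
      have := card_stabPt_mul ρ z
      change Nat.card (Orb z) * _ = _ at this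
      rw [e, hL] at this
      omega
    have hnotall : ¬ ∀ v, v ≠ 1 → v ∈ Orb z := fun h => hcardO (by
      have e : Orb z = {1}ᶜ := by
        ext x
        refine ⟨?_, fun hx => h x hx⟩
        rintro ⟨g, rfl⟩ e
        exact hz1 ((map_eq_one_iff _ (ρ g).injective).1 e)
      rw [e, Nat.card_coe_set_eq, Set.ncard_compl, Set.ncard_singleton, hk]
      rfl)
    rcases hbig with hsub | hsub
    · -- the orbit is `z` and the nontrivial elements of `W`
      have hout : ∀ v, v ∉ W → v ≠ z → v ∉ Orb z := fun v hv hvz hvO => hnotall fun x hx => by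
        by_cases hxW : x ∈ W
        · exact hsub x hxW hx
        rcases eq_or_ne x z with rfl | hxz
        · exact ⟨1, by show ρ 1 x = x; rw [map_one]; rfl⟩
        obtain ⟨n, hn⟩ := hCorb v hv hvz x hxW hxz
        rw [← hn]; exact hOmem z _ _ hvO
      have hgz : ρ g₁ w₁ = z := by
        by_contra h
        exact hout _ hgw₁ h (hOmem z g₁ w₁ (hsub w₁ hw₁ hw11))
      obtain ⟨w₂, hw₂, hw21, hw212⟩ : ∃ w₂ ∈ W, w₂ ≠ 1 ∧ w₂ ≠ w₁ := by
        obtain ⟨n, hn⟩ : ∃ n : ℕ, ρ (y ^ n) w₁ = ρ y w₁ := ⟨1, by rw [pow_one]⟩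
        refine ⟨ρ y w₁, hWy w₁ hw₁, fun e => hw11 ((map_eq_one_iff _ (ρ y).injective).1 e),
          fun e => (hFz w₁ e).elim hw11 fun h => hzW (h ▸ hw₁)⟩
      have h12 : w₁ * w₂ ≠ 1 := fun e => hw212 ((eq_inv_of_mul_eq_one_right e).trans
        (inv_eq_of_mul_eq_one_right (h2 _)))
      have hmem2 : ρ g₁ w₂ ∈ W := by
        by_contra h
        rcases eq_or_ne (ρ g₁ w₂) z with e | e
        · exact hw212 ((ρ g₁).injective (e.trans hgz.symm))
        · exact hout _ h e (hOmem z g₁ w₂ (hsub w₂ hw₂ hw21))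
      have hmem3 : ρ g₁ (w₁ * w₂) ∈ W := by
        by_contra h
        rcases eq_or_ne (ρ g₁ (w₁ * w₂)) z with e | e
        · exact hw21 (mul_eq_left.1 ((ρ g₁).injective (e.trans hgz.symm)))
        · exact hout _ h e (hOmem z g₁ _ (hsub _ (mul_mem hw₁ hw₂) h12))
      rw [map_mul, hgz] at hmem3
      exact hzW ((W.mul_mem_cancel_right hmem2).1 hmem3)
    · -- the orbit is the complement of `W`
      refine hgw₁ ?_
      by_contra h
      have h1 : w₁ ∈ Orb z := by
        have := hOmem z g₁⁻¹ _ (hsub _ h)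
        rwa [← MulAut.mul_apply, ← map_mul, inv_mul_cancel, map_one, MulAut.one_apply] at this
      refine hnotall fun x hx => ?_
      by_cases hxW : x ∈ W
      · obtain ⟨n, hn⟩ := hWorb w₁ hw₁ hw11 x hxW hx
        rw [← hn]; exact hOmem z _ _ h1
      · exact hsub x hxW
  refine ⟨z, hz1, hzfixed, fun a b ha haz hb hbz => ?_⟩
  have hgz : ρ g₁ w₁ ≠ z := fun e => hzW (by
    have := (ρ g₁).injective (e.trans (hzfixed g₁).symm)
    exact this ▸ hw₁)
  have hto : ∀ x : V, x ≠ 1 → x ≠ z → ∃ g, ρ g w₁ = x := by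
    intro x hx hxz
    by_cases hxW : x ∈ W
    · obtain ⟨n, hn⟩ := hWorb w₁ hw₁ hw11 x hxW hx
      exact ⟨_, hn⟩
    · obtain ⟨n, hn⟩ := hCorb _ hgw₁ hgz x hxW hxz
      exact ⟨y ^ n * g₁, by rw [map_mul, MulAut.mul_apply, hn]⟩
  obtain ⟨g, hg⟩ := hto a ha haz
  obtain ⟨g', hg'⟩ := hto b hb hbz
  refine ⟨g' * g⁻¹, ?_⟩
  rw [map_mul, MulAut.mul_apply, ← hg]
  show ρ g' ((ρ g⁻¹ * ρ g) w₁) = b
  rw [← map_mul, inv_mul_cancel, map_one, MulAut.one_apply, hg']

end CfsgLib.PGroup.RadicalSeven
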