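import Cfsg.Agent.Lib.Invol.Basic
import Mathlib.GroupTheory.Transfer
import Mathlib.GroupTheory.QuotientGroup.Basic
import Mathlib.GroupTheory.Subgroup.Simple
import Mathlib.GroupTheory.IndexNormal
import Mathlib.Data.ZMod.Basic

/-!
# A supplement meeting the kernel in a subgroup of index two

In a central extension of order two of the simple group of order 168 in which the lifts of involutions
are involutions, a dihedral subgroup of order eight lifts; transfer splits the extension.
-/

set_option autoImplicit false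
set_option linter.unusedSectionVars false
set_option linter.style.haveILetI false

open Subgroup

namespace CfsgLib.PGroup.RadicalSeven

universe u v

variable {Y : Type u} [Group Y] [Finite Y] {L : Type v} [Group L] [Finite L] [IsSimpleGroup L]

theorem exists_supplement (hL : Nat.card L = 168) (π : Y →* L) (hπ : Function.Surjective π)
    (P : Subgroup Y) [P.Normal] (hPk : P ≤ π.ker) (hidx : P.relIndex π.ker = 2)
    (hsq : ∀ a : Y, π a * π a = 1 → π a ≠ 1 → a * a ∈ P)
    (hdih : ∃ s t : L, s * s = 1 ∧ t * t = 1 ∧ s * t * (s * t) * (s * t * (s * t)) = 1 ∧ s * t * (s * t) ≠ 1) :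
    ∃ X₁ : Subgroup Y, P ≤ X₁ ∧ (∀ g : L, ∃ x ∈ X₁, π x = g) ∧ ∀ x ∈ X₁, π x = 1 → x ∈ P := by
  classical
  obtain ⟨s, t, hs, ht, hst4, hst2⟩ := hdih
  let πb : Y ⧸ P →* L := QuotientGroup.lift P π hPk
  have hπb : ∀ x : Y, πb (x : Y ⧸ P) = π x := fun x => rfl
  set Z := πb.ker with hZ
  have hZc : Nat.card Z = 2 := by
    have h1 : Z = π.ker.map (QuotientGroup.mk' P) := by rw [hZ, QuotientGroup.ker_lift]
    rw [h1, ← hidx, relIndex]
    let φ : π.ker →* Y ⧸ P := (QuotientGroup.mk' P).comp π.ker.subtype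
    have hr : φ.range = π.ker.map (QuotientGroup.mk' P) := by rw [MonoidHom.range_comp, Subgroup.range_subtype]
    have hk : φ.ker = P.subgroupOf π.ker := by
      ext x
      exact (QuotientGroup.eq_one_iff (x : Y)).trans mem_subgroupOf.symm
    rw [← hr, ← hk, ← index_ker]
  obtain ⟨⟨z, hz⟩, hz1⟩ := haveI : Nontrivial Z := Finite.one_lt_card_iff_nontrivial.1 (by omega)
    exists_ne (1 : Z)
  have hZel : ∀ x ∈ Z, x = 1 ∨ x = z := by
    intro x hx
    by_contra h
    push Not at h
    have hsub : ({1, x, z} : Set (Y ⧸ P)) ⊆ Z := by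
      rintro w (rfl | rfl | rfl)
      exacts [one_mem _, hx, hz]
    have := Set.ncard_le_ncard hsub (Set.toFinite _)
    rw [Set.ncard_insert_of_notMem (by simp [Ne.symm h.1, show (1 : Y ⧸ P) ≠ z from fun e => hz1 (Subtype.ext e.symm)]),
      Set.ncard_pair h.2, ← Nat.card_coe_set_eq] at this
    change 3 ≤ Nat.card Z at this
    omega
  have hzne : z ≠ 1 := fun e => hz1 (Subtype.ext e)
  have hzc : ∀ g : Y ⧸ P, g * z = z * g := fun g => by
    rcases hZel _ ((inferInstance : Z.Normal).conj_mem z hz g) with h | h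
    · exact absurd (conj_eq_one_iff.1 h) hzne
    · exact mul_inv_eq_iff_eq_mul.1 h
  have hsq' : ∀ a : Y ⧸ P, πb a * πb a = 1 → πb a ≠ 1 → a * a = 1 := fun a => by
    obtain ⟨a, rfl⟩ := QuotientGroup.mk_surjective a
    intro h1 h2
    rw [← QuotientGroup.mk_mul, QuotientGroup.eq_one_iff]
    exact hsq a h1 h2
  have hs1 : s ≠ 1 := fun e => hst2 (by rw [e, one_mul, ht])
  have ht1 : t ≠ 1 := fun e => hst2 (by rw [e, mul_one, hs])
  obtain ⟨a₀, ha₀⟩ := hπ s
  obtain ⟨b₀, hb₀⟩ := hπ t
  set a : Y ⧸ P := ↑a₀ with ha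
  set b : Y ⧸ P := ↑b₀ with hb
  have hπa : πb a = s := ha₀
  have hπb' : πb b = t := hb₀
  haveI : Fact (Nat.Prime 2) := ⟨Nat.prime_two⟩
  have oa : orderOf a = 2 := orderOf_eq_prime
    (by rw [pow_two]; exact hsq' a (by rw [hπa, hs]) (by rw [hπa]; exact hs1)) fun e => hs1 (by rw [← hπa, e, map_one])
  have ob : orderOf b = 2 := orderOf_eq_prime
    (by rw [pow_two]; exact hsq' b (by rw [hπb', ht]) (by rw [hπb']; exact ht1)) fun e => ht1 (by rw [← hπb', e, map_one])
  have os : orderOf s = 2 := orderOf_eq_prime (by rw [pow_two]; exact hs) hs1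
  have ot : orderOf t = 2 := orderOf_eq_prime (by rw [pow_two]; exact ht) ht1
  have ost : orderOf (s * t) = 4 := orderOf_eq_prime_pow (p := 2) (n := 1)
    (by rw [pow_one, pow_two]; exact hst2)
    (by rw [show (s * t) ^ 2 ^ (1 + 1) = s * t * (s * t) * (s * t * (s * t)) by simp [pow_succ, mul_assoc]]
        exact hst4)
  have oab : orderOf (a * b) = 4 := orderOf_eq_prime_pow (p := 2) (n := 1)
    (by rw [pow_one, pow_two]; intro e; exact hst2 (by rw [← hπa, ← hπb', ← map_mul, ← map_mul, e, map_one]))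
    (by
      rw [show (a * b) ^ 2 ^ (1 + 1) = a * b * (a * b) * (a * b * (a * b)) by simp [pow_succ, mul_assoc]]
      refine hsq' _ ?_ ?_
      · simp only [map_mul, hπa, hπb']; exact hst4
      · simp only [map_mul, hπa, hπb']; exact hst2)
  set D := closure ({a, b} : Set (Y ⧸ P)) with hD
  have hDcard : Nat.card D = 8 := by rw [hD, CfsgLib.Invol.card_closure_pair oa ob, oab]
  have hDmap : D.map πb = closure ({s, t} : Set L) := by
    rw [hD, MonoidHom.map_closure, Set.image_pair, hπa, hπb']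
  have hDZ : ∀ x ∈ D, x ∈ Z → x = 1 := by
    intro x hx hxZ
    let ψ : D →* L := πb.comp D.subtype
    have hr : ψ.range = closure ({s, t} : Set L) := by rw [MonoidHom.range_comp, Subgroup.range_subtype, hDmap]
    have h1 := ψ.ker.card_mul_index
    rw [index_ker, hr, CfsgLib.Invol.card_closure_pair os ot, ost, hDcard] at h1
    have h2 : ψ.ker = ⊥ := card_eq_one.1 (by omega)
    have : (⟨x, hx⟩ : D) ∈ ψ.ker := MonoidHom.mem_ker.2 (MonoidHom.mem_ker.1 hxZ)
    rw [h2, mem_bot] at this
    exact congrArg Subtype.val this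
  have hzD : z ∉ D := fun h => hzne (hDZ z h hz)
  set H := D ⊔ Z with hH
  have hmemH : ∀ x ∈ H, x ∈ D ∨ z * x ∈ D := by
    intro x hx
    obtain ⟨d, hd, w, hw, rfl⟩ := mem_sup_of_normal_right.1 hx
    rcases hZel w hw with e | e <;> rw [e]
    · exact Or.inl (by rwa [mul_one])
    · refine Or.inr ?_
      have : z * z = 1 := by
        rcases hZel _ (mul_mem hz hz) with h | h
        · exact h
        · exact absurd (mul_eq_left.1 h) hzne
      rwa [hzc d, ← mul_assoc, this, one_mul]
  have hHidx : D.relIndex H = 2 := by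
    rw [relIndex]
    refine (index_eq_two_iff).2 ⟨⟨z, mem_sup_right hz⟩, fun x => ?_⟩
    simp only [mem_subgroupOf, coe_mul]
    rcases hmemH x x.2 with h | h
    · refine Or.inr ⟨h, fun h' => hzD ?_⟩
      have := mul_mem h' (inv_mem h)
      rwa [hzc, mul_inv_cancel_right] at this
    · refine Or.inl ⟨by rw [hzc]; exact h, fun h' => hzD ?_⟩
      have := mul_mem h (inv_mem h')
      rwa [mul_inv_cancel_right] at this
  let φ : H →* Multiplicative (ZMod 2) :=
    MonoidHom.mk' (fun x => Multiplicative.ofAdd (if (x : Y ⧸ P) ∈ D then (0 : ZMod 2) else 1)) fun x w => by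
      have h := mul_mem_iff_of_index_two (H := D.subgroupOf H) hHidx (a := x) (b := w)
      simp only [mem_subgroupOf] at h
      rw [← ofAdd_add]
      by_cases h1 : (x : Y ⧸ P) ∈ D <;> by_cases h2 : (w : Y ⧸ P) ∈ D <;>
        simp [h1, h2, coe_mul] at h ⊢ <;> simp [h] <;> rfl
  have hindex : H.index = 21 := by
    have h1 := relIndex_mul_index (show D ≤ H from le_sup_left)
    have h2 := D.card_mul_index
    rw [hHidx] at h1
    rw [hDcard, ← h1] at h2
    have h3 : Nat.card (Y ⧸ P) = 336 := by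
      have h4' := Z.card_mul_index
      rw [index_ker, MonoidHom.range_eq_top.2 (fun g => by obtain ⟨x, hx⟩ := hπ g; exact ⟨(x : Y ⧸ P), hx⟩),
        card_top, hL, hZc] at h4'
      omega
    omega
  let T : Y ⧸ P →* Multiplicative (ZMod 2) := MonoidHom.transfer φ
  have hTz : T z ≠ 1 := by
    rw [MonoidHom.transfer_eq_pow φ z fun k g₀ _ => by
      have hc : Commute g₀ (z ^ k) := Commute.pow_right (hzc g₀) k
      rw [mul_assoc, ← hc.eq, inv_mul_cancel_left]]
    simp only [φ, MonoidHom.mk'_apply, hindex]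
    have hz21 : z ^ 21 = z := by
      rcases hZel _ (mul_mem hz hz) with h | h
      · rw [show 21 = 2 * 10 + 1 by rfl, pow_succ, pow_mul, pow_two, h, one_pow, one_mul]
      · exact absurd (mul_eq_left.1 h) hzne
    rw [if_neg (by rw [hz21]; exact hzD)]
    decide
  set K := T.ker with hK
  refine ⟨K.comap (QuotientGroup.mk' P), fun p hp => ?_, ?_, fun x hx hπx => ?_⟩
  · rw [mem_comap, show QuotientGroup.mk' P p = 1 from (QuotientGroup.eq_one_iff p).2 hp]; exact one_mem _
  · have hn : (K.map πb).Normal := Subgroup.Normal.map inferInstance _ (fun g => by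
      obtain ⟨x, hx⟩ := hπ g; exact ⟨(x : Y ⧸ P), hx⟩)
    have htop : K.map πb = ⊤ := hn.eq_bot_or_eq_top.resolve_left fun e => by
      have hKZ : K ≤ Z := fun x hx => MonoidHom.mem_ker.2 (mem_bot.1 (e ▸ mem_map_of_mem πb hx))
      have hKb : K = ⊥ := eq_bot_iff.2 fun x hx => by
        rcases hZel x (hKZ hx) with h | h
        · exact mem_bot.2 h
        · exact absurd (MonoidHom.mem_ker.1 (h ▸ hx)) hTz
      have h1 := Nat.card_le_card_of_injective T ((MonoidHom.ker_eq_bot_iff T).1 hKb)
      have h2 : Nat.card D ≤ Nat.card (Y ⧸ P) := card_le_card_group D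
      simp only [Nat.card_congr Multiplicative.toAdd, Nat.card_zmod] at h1
      omega
    intro g
    obtain ⟨w, hw, hwg⟩ := (htop ▸ mem_top g : g ∈ K.map πb)
    obtain ⟨x, rfl⟩ := QuotientGroup.mk_surjective w
    exact ⟨x, hw, hwg⟩
  · rcases hZel (x : Y ⧸ P) (MonoidHom.mem_ker.2 hπx) with h | h
    · exact (QuotientGroup.eq_one_iff x).1 h
    · exact absurd (MonoidHom.mem_ker.1 (h ▸ (hx : (x : Y ⧸ P) ∈ K))) hTz

end CfsgLib.PGroup.RadicalSeven
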