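import Cfsg.Agent.Lib.PGroup.RadicalSeven.Four
import Cfsg.Agent.Lib.PGroup.RadicalSeven.Indecomposable
import Cfsg.Agent.Lib.PGroup.RadicalSeven.Module
import Cfsg.Agent.Lib.PGroup.RadicalSeven.Supplement
import Cfsg.Agent.Lib.Fusion.System.RankThree.Fusion
import Cfsg.Agent.Lib.PGroup.RadicalFive.Main

/-!
# A faithful layer of order eight

No normal 2-subgroup with quotient the simple group of order 168 has a faithful layer of order eight
filled by the squares of an abelian subgroup of index at most two.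
-/

set_option autoImplicit false
set_option linter.unusedSectionVars false
set_option linter.style.haveILetI false

open Subgroup

namespace CfsgLib.PGroup.RadicalSeven

universe u v

variable {Y : Type u} [Group Y] [Finite Y] {L : Type v} [Group L] [Finite L] [IsSimpleGroup L]

/-- A map into a small group killing the kernel is trivial. -/
theorem hom_trivial {A : Type*} [Group A] [Finite A] (hL : Nat.card L = 168) (π : Y →* L)
    (hπ : Function.Surjective π) (φ : Y →* A) (hk : π.ker ≤ φ.ker) (hA : Nat.card A < 168) (g : Y) :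
    φ g = 1 := by
  let φ' := MonoidHom.liftOfSurjective π hπ ⟨φ, hk⟩
  have h : φ'.ker = ⊤ := (IsSimpleGroup.eq_bot_or_eq_top_of_normal φ'.ker inferInstance).resolve_left
    fun hb => by
      have := Nat.card_le_card_of_injective φ' ((MonoidHom.ker_eq_bot_iff φ').1 hb)
      omega
  rw [← show φ' (π g) = φ g from MonoidHom.liftOfRightInverse_comp_apply π _ _ ⟨φ, hk⟩ g]
  exact MonoidHom.mem_ker.1 (h ▸ mem_top _)

/-- A group of exponent two is commutative. -/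
theorem comm_of_exp_two {P : Subgroup Y} (h : ∀ m ∈ P, m * m = 1) : ∀ a ∈ P, ∀ b ∈ P, a * b = b * a :=
  fun a ha b hb => by
    have hi : ∀ x ∈ P, x⁻¹ = x := fun x hx => inv_eq_of_mul_eq_one_right (h x hx)
    calc a * b = (a * b)⁻¹ := (hi _ (mul_mem ha hb)).symm
      _ = b * a := by rw [mul_inv_rev, hi a ha, hi b hb]

/-- The layer of order 16 above a faithful layer of order eight. -/
theorem omega_cases (h4 : Cfsg.SectionalPRankLE 2 4 Y) (hL : Nat.card L = 168) (π : Y →* L)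
    (hπ : Function.Surjective π) (Ω Λ : Subgroup Y) [Ω.Normal] [Λ.Normal] (hΛΩ : Λ ≤ Ω)
    (hΩ16 : Nat.card Ω = 16) (hΛ8 : Nat.card Λ = 8) (hΩ2 : ∀ z ∈ Ω, z * z = 1)
    (hc : ∀ z ∈ Ω, ∀ q ∈ π.ker, z * q = q * z) (hne : ¬ Λ ≤ center Y) :
    (∃ w ∈ Ω, w ∉ Λ ∧ ∀ g, g * w = w * g) ∨
      ∀ w ∈ Ω, w ∉ Λ → ∀ g, π (g * g) ≠ 1 → π (g * g) * π (g * g) = 1 → g * w ≠ w * g := by
  have hΩc := comm_of_exp_two hΩ2
  letI : CommGroup Ω := { (inferInstance : Group Ω) with
    mul_comm := fun a b => Subtype.ext (hΩc a a.2 b b.2) }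
  letI : CommGroup Λ := { (inferInstance : Group Λ) with
    mul_comm := fun a b => Subtype.ext (hΩc a (hΛΩ a.2) b (hΛΩ b.2)) }
  obtain ⟨ρ, happ, hinj⟩ := exists_act π hπ Ω hc
  obtain ⟨ρΛ, happΛ, hinjΛ⟩ := exists_act π hπ Λ fun z hz => hc z (hΛΩ hz)
  have hρ := hinj fun h => hne (hΛΩ.trans h)
  have h2 : ∀ v : Ω, v * v = 1 := fun v => Subtype.ext (hΩ2 v v.2)
  have htrans : ∀ a ∈ Λ, a ≠ 1 → ∀ b ∈ Λ, b ≠ 1 → ∃ g, g * a * g⁻¹ = b := by
    intro a ha ha1 b hb hb1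
    obtain ⟨k, hk⟩ := exists_map_point hL (fun v : Λ => Subtype.ext (hΩ2 v (hΛΩ v.2))) hΛ8 ρΛ (hinjΛ hne)
      (a := ⟨a, ha⟩) (a' := ⟨b, hb⟩) (fun e => ha1 (congrArg Subtype.val e)) (fun e => hb1 (congrArg Subtype.val e))
    obtain ⟨g, rfl⟩ := hπ k
    exact ⟨g, by rw [← happΛ g ⟨a, ha⟩, hk]⟩
  have hgΩ : ∀ g (v : Ω) (x : Ω), ρ (π g) v = x ↔ g * v * g⁻¹ = (x : Y) := fun g v x => by
    rw [← happ g v, Subtype.ext_iff]
  rcases module_cases hL h2 hΩ16.le ρ hρ with h | ⟨-, ⟨W, hW8, hWinv, z, hzW, hz⟩ | ⟨z, hz1, hzfix, htr⟩⟩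
  · omega
  · have hWΛ : W.map Ω.subtype = Λ := by
      refine eq_of_le_of_card_ge ?_ (by rw [hΛ8, card_map_of_injective Ω.subtype_injective, hW8])
      obtain ⟨x, hxΛ, hxW, hx1⟩ : ∃ x : Ω, (x : Y) ∈ Λ ∧ x ∈ W ∧ x ≠ 1 := by
        by_contra h
        push Not at h
        have hinter : Disjoint W (Λ.subgroupOf Ω) := disjoint_def.2 fun {x} hx hx' => h x hx' hx
        have hinj2 : Function.Injective (fun p : W × Λ.subgroupOf Ω => (p.1 : Ω) * p.2) :=
          mul_injective_of_disjoint hinter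
        have := Nat.card_le_card_of_injective _ hinj2
        rw [Nat.card_prod, hW8, Nat.card_congr (Subgroup.subgroupOfEquivOfLe hΛΩ).toEquiv, hΛ8, hΩ16] at this
        omega
      have hsub : Λ ≤ W.map Ω.subtype := by
        intro b hb
        rcases eq_or_ne b 1 with rfl | hb1
        · exact one_mem _
        obtain ⟨g, rfl⟩ := htrans x hxΛ (fun e => hx1 (Subtype.ext e)) b hb hb1
        exact ⟨ρ (π g) x, hWinv _ x hxW, happ g x⟩
      exact (eq_of_le_of_card_ge hsub (by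
        rw [card_map_of_injective Ω.subtype_injective, hW8, hΛ8])).ge
    have hzΛ : (z : Y) ∉ Λ := fun h => hzW (by
      obtain ⟨x, hx, hxz⟩ := hWΛ.ge h
      rwa [← Subtype.ext hxz])
    rcases hz with hz | hz
    · left
      refine ⟨z, z.2, hzΛ, fun g => mul_inv_eq_iff_eq_mul.1 ?_⟩
      exact (hgΩ g z z).1 (hz _)
    · right
      intro w hw hwΛ g hg1 hg2 hgw
      set x : Ω := ⟨w, hw⟩
      have hxW : x ∉ W := fun h => hwΛ (hWΛ ▸ mem_map_of_mem Ω.subtype h)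
      have horb : Set.range (fun k => ρ k x) = (W : Set Ω)ᶜ := by
        ext v
        constructor
        · rintro ⟨k, rfl⟩ hv
          apply hxW
          have := hWinv k⁻¹ _ hv
          rwa [← MulAut.mul_apply, ← map_mul, inv_mul_cancel, map_one, MulAut.one_apply] at this
        · intro hv
          obtain ⟨k, hk⟩ := hz v hv
          obtain ⟨k', hk'⟩ := hz x hxW
          refine ⟨k * k'⁻¹, ?_⟩
          show ρ (k * k'⁻¹) x = v
          rw [map_mul, MulAut.mul_apply, ← hk']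
          show ρ k ((ρ k'⁻¹ * ρ k') z) = v
          rw [← map_mul, inv_mul_cancel, map_one, MulAut.one_apply, hk]
      have hst := card_stabPt_mul ρ x
      rw [horb, Nat.card_coe_set_eq, Set.ncard_compl, ← Nat.card_coe_set_eq, hΩ16, hL] at hst
      change (16 - Nat.card W) * _ = _ at hst
      rw [hW8] at hst
      have hmem : π g ∈ stabPt ρ x := (hgΩ g x x).2 (mul_inv_eq_iff_eq_mul.2 hgw)
      have hord := Subgroup.orderOf_dvd_natCard (stabPt ρ x) hmem
      have ho4 : orderOf (π g) = 4 := orderOf_eq_prime_pow (p := 2) (n := 1) (hp := ⟨Nat.prime_two⟩)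
        (by rw [pow_one, pow_two, ← map_mul]; exact hg1)
        (by rw [show (π g) ^ 2 ^ (1 + 1) = π g * π g * (π g * π g) by simp [pow_succ, mul_assoc], ← map_mul]
            exact hg2)
      rw [ho4, show Nat.card (stabPt ρ x) = 21 by omega] at hord
      norm_num at hord
  · exfalso
    haveI : Nontrivial Λ := Finite.one_lt_card_iff_nontrivial.1 (by omega)
    obtain ⟨a, ha, ha1, haz⟩ : ∃ a : Ω, (a : Y) ∈ Λ ∧ a ≠ 1 ∧ a ≠ z := by
      by_contra h
      push Not at h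
      have hs : (Λ : Set Y) ⊆ {1, (z : Y)} := fun b hb => by
        rcases eq_or_ne b 1 with e | e
        · exact Or.inl e
        · exact Or.inr (congrArg Subtype.val (h ⟨b, hΛΩ hb⟩ hb (fun e' => e (congrArg Subtype.val e'))))
      have := (Set.ncard_le_ncard hs (Set.toFinite _)).trans (Set.ncard_insert_le _ _)
      rw [Set.ncard_singleton, ← Nat.card_coe_set_eq] at this
      change Nat.card Λ ≤ 2 at this
      omega
    obtain ⟨b, hbΛ, hb1, hbz⟩ : ∃ b : Ω, (b : Y) ∉ Λ ∧ b ≠ 1 ∧ b ≠ z := by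
      by_contra h
      push Not at h
      have hs : (Ω : Set Y) ⊆ insert (z : Y) (Λ : Set Y) := fun b hb => by
        by_cases hbΛ : b ∈ Λ
        · exact Or.inr hbΛ
        · exact Or.inl (congrArg Subtype.val (h ⟨b, hb⟩ hbΛ fun e => hbΛ (by
            rw [show b = 1 from congrArg Subtype.val e]; exact one_mem _)))
      have h1 := (Set.ncard_le_ncard hs (Set.toFinite _)).trans (Set.ncard_insert_le _ _)
      rw [← Nat.card_coe_set_eq, ← Nat.card_coe_set_eq] at h1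
      change Nat.card Ω ≤ Nat.card Λ + 1 at h1
      omega
    obtain ⟨k, hk⟩ := htr a b ha1 haz hb1 hbz
    obtain ⟨g, rfl⟩ := hπ k
    exact hbΛ ((hgΩ g a b).1 hk ▸ (inferInstance : Λ.Normal).conj_mem _ ha g)

/-- An abelian kernel of order 128 with a faithful layer of squares. -/
theorem false_of_abelian (h4 : Cfsg.SectionalPRankLE 2 4 Y) (hL : Nat.card L = 168) (π : Y →* L)
    (hπ : Function.Surjective π) (hc : ∀ a b : Y, π a = 1 → π b = 1 → a * b = b * a)
    (h128 : Nat.card π.ker = 128) (Λ : Subgroup Y) [Λ.Normal] (hΛk : Λ ≤ π.ker)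
    (hΛ8 : Nat.card Λ = 8) (hΛ2 : ∀ z ∈ Λ, z * z = 1) (hsq : ∀ m ∈ π.ker, m * m ∈ Λ)
    (hne : ¬ Λ ≤ center Y) : False := by
  have hc' : ∀ a ∈ π.ker, ∀ b ∈ π.ker, a * b = b * a := fun a ha b hb =>
    hc a b (MonoidHom.mem_ker.1 ha) (MonoidHom.mem_ker.1 hb)
  let Ω : Subgroup Y :=
    { carrier := {m | m ∈ π.ker ∧ m * m = 1}
      one_mem' := ⟨one_mem _, one_mul 1⟩
      mul_mem' := fun {a b} ha hb => ⟨mul_mem ha.1 hb.1, by
        rw [mul_assoc, ← mul_assoc b, hc' b hb.1 a ha.1, mul_assoc, hb.2, mul_one, ha.2]⟩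
      inv_mem' := fun {a} ha => ⟨inv_mem ha.1, by rw [← mul_inv_rev, ha.2, inv_one]⟩ }
  haveI : Ω.Normal := ⟨fun z hz g => ⟨(inferInstance : π.ker.Normal).conj_mem z hz.1 g, by
    rw [show g * z * g⁻¹ * (g * z * g⁻¹) = g * (z * z) * g⁻¹ by group, hz.2]; group⟩⟩
  have hΛΩ : Λ ≤ Ω := fun z hz => ⟨hΛk hz, hΛ2 z hz⟩
  have hΩk : Ω ≤ π.ker := fun z hz => hz.1
  letI : CommGroup π.ker := { (inferInstance : Group π.ker) with
    mul_comm := fun a b => Subtype.ext (hc' a a.2 b b.2) }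
  have hΩ16 : Nat.card Ω = 16 := by
    have hle := CfsgLib.PGroup.RadicalFive.card_le_sixteen h4 (comm_of_exp_two fun z (hz : z ∈ Ω) => hz.2)
      (fun z (hz : z ∈ Ω) => hz.2)
    let sqh : π.ker →* π.ker := MonoidHom.mk' (fun m => m * m) fun a b => mul_mul_mul_comm a b a b
    have hk : sqh.ker = Ω.subgroupOf π.ker := by
      ext m
      rw [MonoidHom.mem_ker, mem_subgroupOf]
      show m * m = 1 ↔ _
      rw [← Subtype.coe_inj, coe_mul, coe_one]
      exact ⟨fun h => ⟨m.2, h⟩, fun h => h.2⟩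
    have hr : Nat.card sqh.range ≤ 8 := by
      rw [Nat.card_congr (sqh.range.equivMapOfInjective π.ker.subtype π.ker.subtype_injective).toEquiv, ← hΛ8]
      refine card_le_of_le ?_
      rintro _ ⟨_, ⟨n, rfl⟩, rfl⟩
      exact hsq n n.2
    have h1 := sqh.ker.card_mul_index
    rw [index_ker, h128, hk, Nat.card_congr (Subgroup.subgroupOfEquivOfLe hΩk).toEquiv] at h1
    have : Nat.card Ω * Nat.card sqh.range ≤ Nat.card Ω * 8 := Nat.mul_le_mul_left _ hr
    omega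
  have hneΩ : ∃ g, ∃ m ∈ π.ker, cm g m ∉ Ω := by
    by_contra h
    push Not at h
    refine hne fun z hz => mem_center_iff.2 fun g => ?_
    -- squares fill `Λ`
    let sqh : π.ker →* π.ker := MonoidHom.mk' (fun m => m * m) fun a b => mul_mul_mul_comm a b a b
    have hk : sqh.ker = Ω.subgroupOf π.ker := by
      ext m
      rw [MonoidHom.mem_ker, mem_subgroupOf]
      show m * m = 1 ↔ _
      rw [← Subtype.coe_inj, coe_mul, coe_one]
      exact ⟨fun h => ⟨m.2, h⟩, fun h => h.2⟩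
    have h1 := sqh.ker.card_mul_index
    rw [index_ker, h128, hk, Nat.card_congr (Subgroup.subgroupOfEquivOfLe hΩk).toEquiv, hΩ16] at h1
    have heq : sqh.range.map π.ker.subtype = Λ := eq_of_le_of_card_ge (by
      rintro _ ⟨_, ⟨n, rfl⟩, rfl⟩
      exact hsq n n.2) (by rw [card_map_of_injective π.ker.subtype_injective, hΛ8]; omega)
    obtain ⟨_, ⟨n, rfl⟩, rfl⟩ := heq.ge hz
    show g * ((n : Y) * n) = (n : Y) * n * g
    refine mul_inv_eq_iff_eq_mul.1 ?_
    have hw := h g n n.2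
    rw [show g * ((n : Y) * n) * g⁻¹ = (cm g n * n) * (cm g n * n) by unfold cm; group,
      (show Commute (cm g (n : Y)) n from hc' _ hw.1 _ n.2).symm.mul_mul_mul_comm, hw.2, one_mul]
  have h4k : ∀ m, π m = 1 → m ^ 4 = 1 := fun m hm => by
    rw [show m ^ 4 = m * m * (m * m) by simp [pow_succ, mul_assoc]]
    exact hΛ2 _ (hsq m (MonoidHom.mem_ker.2 hm))
  rcases omega_cases h4 hL π hπ Ω Λ hΛΩ hΩ16 hΛ8 (fun z hz => hz.2)
    (fun z hz q hq => hc' z (hΩk hz) q hq) hne with ⟨w, hw, hwΛ, hwc⟩ | hns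
  · -- quotient by the fixed element
    haveI : (zpowers w).Normal := ⟨fun n hn g => by
      obtain ⟨k, rfl⟩ := mem_zpowers_iff.1 hn
      rw [← ((show Commute w g from (hwc g).symm).zpow_left k).eq, mul_inv_cancel_right]
      exact zpow_mem (mem_zpowers w) k⟩
    have hwk : zpowers w ≤ π.ker := zpowers_le.2 hw.1
    let π' : Y ⧸ zpowers w →* L := QuotientGroup.lift (zpowers w) π hwk
    have hker' : π'.ker = π.ker.map (QuotientGroup.mk' (zpowers w)) := QuotientGroup.ker_lift _ _ _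
    have ho : Nat.card (zpowers w) = 2 := by
      rw [Nat.card_zpowers]
      exact orderOf_eq_prime (hp := ⟨Nat.prime_two⟩) (by rw [pow_two]; exact hw.2)
        fun e => hwΛ (e ▸ one_mem _)
    have hcard : ∀ S : Subgroup Y, zpowers w ≤ S →
        2 * Nat.card (S.map (QuotientGroup.mk' (zpowers w))) = Nat.card S := by
      intro S hS
      have h := CfsgLib.PGroup.RadicalFive.card_comap_mk (zpowers w) (S.map (QuotientGroup.mk' (zpowers w)))
      rw [comap_map_eq, QuotientGroup.ker_mk', sup_eq_left.2 hS, ho] at h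
      exact h.symm
    haveI : (Ω.map (QuotientGroup.mk' (zpowers w))).Normal :=
      Subgroup.Normal.map inferInstance _ (QuotientGroup.mk'_surjective _)
    obtain ⟨g, m, hm, hgm⟩ := hneΩ
    refine false_of_four (CfsgLib.Fusion.RankThree.sectional_quotient h4 (zpowers w)) hL π'
      (fun x => by obtain ⟨y, hy⟩ := hπ x; exact ⟨(y : Y ⧸ zpowers w), hy⟩) ?_ ?_ ?_
      (Ω.map (QuotientGroup.mk' (zpowers w))) ?_ ?_
      ⟨(g : Y ⧸ zpowers w), (m : Y ⧸ zpowers w), MonoidHom.mem_ker.1 hm, ?_⟩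
    · intro a b ha hb
      obtain ⟨a, rfl⟩ := QuotientGroup.mk_surjective a
      obtain ⟨b, rfl⟩ := QuotientGroup.mk_surjective b
      rw [← QuotientGroup.mk_mul, ← QuotientGroup.mk_mul, hc a b ha hb]
    · rw [hker']
      have := hcard π.ker hwk
      omega
    · intro a ha
      obtain ⟨a, rfl⟩ := QuotientGroup.mk_surjective a
      rw [← QuotientGroup.mk_pow, h4k a ha, QuotientGroup.mk_one]
    · intro x
      constructor
      · rintro ⟨z, hz, rfl⟩
        exact ⟨MonoidHom.mem_ker.1 hz.1, by rw [← map_mul, hz.2, map_one]⟩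
      · rintro ⟨h1, h2⟩
        obtain ⟨a, rfl⟩ := QuotientGroup.mk_surjective x
        rw [← QuotientGroup.mk_mul, QuotientGroup.eq_one_iff] at h2
        have ha : a ∈ π.ker := h1
        rcases CfsgLib.PGroup.RadicalFive.mem_zpowers_two hw.2 h2 with e | e
        · exact mem_map_of_mem _ ⟨ha, e⟩
        · exact absurd (e ▸ hsq a ha) hwΛ
    · have := hcard Ω (zpowers_le.2 hw)
      omega
    · intro h
      exact hgm ((CfsgLib.PGroup.RadicalFive.mk_mem_map (zpowers_le.2 hw)).1 h)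
  · exact false_of_indecomposable h4 hL π hπ
      (fun m hm => by rw [show (16 : ℕ) = 4 * 4 by rfl, pow_mul, h4k m hm, one_pow])
      π.ker Ω Λ le_rfl hc' h128 (fun z => Iff.rfl) hΩ16 hΛΩ hΛ8 hsq
      (fun q hq m hm => by
        rw [cm, hc' q (MonoidHom.mem_ker.2 hq) m hm, mul_inv_cancel_right, mul_inv_cancel]; exact one_mem _)
      hneΩ hns (fun q hq hn => absurd (MonoidHom.mem_ker.2 hq) hn)

/-- An abelian subgroup of index two in the kernel with squares filling the layer. -/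
theorem false_of_hyperplane (h4 : Cfsg.SectionalPRankLE 2 4 Y) (hL : Nat.card L = 168) (π : Y →* L)
    (hπ : Function.Surjective π) (P : Subgroup Y) [P.Normal] (hPk : P ≤ π.ker)
    (hidx : P.relIndex π.ker = 2) (hPc : ∀ a ∈ P, ∀ b ∈ P, a * b = b * a) (h64 : Nat.card P = 64)
    (Λ : Subgroup Y) [Λ.Normal] (hΛP : Λ ≤ P) (hΛ8 : Nat.card Λ = 8) (hΛ2 : ∀ z ∈ Λ, z * z = 1)
    (hΛc : ∀ z ∈ Λ, ∀ q ∈ π.ker, z * q = q * z) (hsq : ∀ q ∈ π.ker, q * q ∈ Λ)
    (hΩ : ∀ m ∈ P, m * m = 1 → m ∈ Λ) (hne : ¬ Λ ≤ center Y) : False := by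
  classical
  have h128 : Nat.card π.ker = 128 := by
    have h1 := relIndex_mul_relIndex ⊥ P π.ker bot_le hPk
    rw [relIndex_bot_left, relIndex_bot_left, h64, hidx] at h1
    omega
  letI : CommGroup P := { (inferInstance : Group P) with
    mul_comm := fun a b => Subtype.ext (hPc a a.2 b b.2) }
  letI : CommGroup Λ := { (inferInstance : Group Λ) with
    mul_comm := fun a b => Subtype.ext (hPc a (hΛP a.2) b (hΛP b.2)) }
  have hsqrt : ∀ z ∈ Λ, ∃ n ∈ P, n * n = z := by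
    let sqh : P →* P := MonoidHom.mk' (fun m => m * m) fun a b => mul_mul_mul_comm a b a b
    have hk : sqh.ker = Λ.subgroupOf P := by
      ext m
      rw [MonoidHom.mem_ker, mem_subgroupOf]
      show m * m = 1 ↔ _
      rw [← Subtype.coe_inj, coe_mul, coe_one]
      exact ⟨fun h => hΩ m m.2 h, fun h => hΛ2 m h⟩
    have h1 := sqh.ker.card_mul_index
    rw [index_ker, h64, hk, Nat.card_congr (Subgroup.subgroupOfEquivOfLe hΛP).toEquiv, hΛ8] at h1
    have heq : sqh.range.map P.subtype = Λ := eq_of_le_of_card_ge (by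
      rintro _ ⟨_, ⟨n, rfl⟩, rfl⟩
      exact hsq n (hPk n.2)) (by rw [card_map_of_injective P.subtype_injective, hΛ8]; omega)
    intro z hz
    obtain ⟨_, ⟨n, rfl⟩, rfl⟩ := heq.ge hz
    exact ⟨n, n.2, rfl⟩
  obtain ⟨z₀, hz₀k, hz₀P⟩ : ∃ z ∈ π.ker, z ∉ P := by
    by_contra h
    push Not at h
    have := card_le_of_le (show π.ker ≤ P from h)
    omega
  have hcase : ∀ q ∈ π.ker, q ∈ P ∨ z₀⁻¹ * q ∈ P := by
    intro q hq
    by_cases hqP : q ∈ P
    · exact Or.inl hqP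
    refine Or.inr ?_
    have h := (mul_mem_iff_of_index_two (H := P.subgroupOf π.ker) hidx
      (a := ⟨z₀⁻¹, inv_mem hz₀k⟩) (b := ⟨q, hq⟩)).2
    simp only [mem_subgroupOf, coe_mul] at h
    exact h (iff_of_false (fun e => hz₀P ((inv_mem_iff).1 e)) hqP)
  have hcmΛ : ∀ m ∈ P, cm z₀ m ∈ Λ := fun m hm =>
    CfsgLib.PGroup.RadicalFive.comm_mem_of_sq hsq hz₀k (hPk hm)
  have hcmeq : ∀ m ∈ P, ∀ m' ∈ P, m * m = m' * m' → cm z₀ m = cm z₀ m' := by
    intro m hm m' hm' h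
    have hd : m⁻¹ * m' ∈ Λ := hΩ _ (mul_mem (inv_mem hm) hm') (by
      rw [(show Commute m⁻¹ m' from hPc _ (inv_mem hm) _ hm').symm.mul_mul_mul_comm, ← h]; group)
    have h1 : cm z₀ (m⁻¹ * m') = 1 := by
      unfold cm; rw [← hΛc _ hd z₀ hz₀k, mul_inv_cancel_right, mul_inv_cancel]
    calc cm z₀ m = cm z₀ m * (m * cm z₀ (m⁻¹ * m') * m⁻¹) := by rw [h1]; group
      _ = cm z₀ (m * (m⁻¹ * m')) := by unfold cm; group
      _ = cm z₀ m' := by rw [mul_inv_cancel_left]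
  obtain ⟨ρ, happ, hinj⟩ := exists_act π hπ Λ hΛc
  have hρ := hinj hne
  have h2Λ : ∀ v : Λ, v * v = 1 := fun v => Subtype.ext (hΛ2 v v.2)
  -- `σ` is equivariant
  let σ : Λ → Λ := fun z => ⟨cm z₀ (hsqrt z z.2).choose, hcmΛ _ (hsqrt z z.2).choose_spec.1⟩
  have hσ : ∀ (z : Λ) (m : Y), m ∈ P → m * m = z → (σ z : Y) = cm z₀ m := fun z m hm h =>
    hcmeq _ (hsqrt z z.2).choose_spec.1 m hm ((hsqrt z z.2).choose_spec.2.trans h.symm)
  have hσg : ∀ k z, σ (ρ k z) = ρ k (σ z) := by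
    intro k z
    obtain ⟨g, rfl⟩ := hπ k
    obtain ⟨m, hm, hmz⟩ := hsqrt z z.2
    refine Subtype.ext ?_
    rw [happ, hσ z m hm hmz, hσ _ (g * m * g⁻¹) ((inferInstance : P.Normal).conj_mem m hm g)
      (by rw [happ, ← hmz]; group)]
    have hgz : z₀⁻¹ * (g * z₀ * g⁻¹) ∈ P := by
      refine (hcase _ ((inferInstance : π.ker.Normal).conj_mem z₀ hz₀k g)).resolve_left fun h => hz₀P ?_
      have := (inferInstance : P.Normal).conj_mem _ h g⁻¹
      rwa [show g⁻¹ * (g * z₀ * g⁻¹) * g⁻¹⁻¹ = z₀ by group] at this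
    set p₁ := z₀⁻¹ * (g * z₀ * g⁻¹) with hp₁
    have hgm := (inferInstance : P.Normal).conj_mem m hm g
    calc cm z₀ (g * m * g⁻¹) = z₀ * (p₁ * (g * m * g⁻¹) * p₁⁻¹) * z₀⁻¹ * (g * m * g⁻¹)⁻¹ := by
          rw [hPc p₁ hgz _ hgm, mul_inv_cancel_right]; rfl
      _ = g * cm z₀ m * g⁻¹ := by rw [hp₁]; unfold cm; group
  have hσfix : ∀ z : Λ, z ≠ 1 → σ z = 1 ∨ σ z = z := by
    intro z hz
    by_cases h : σ z = 1
    · exact Or.inl h
    refine Or.inr (eq_of_stab_fixed hL h2Λ hΛ8 ρ hρ hz h hz (S := stabPt ρ z)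
      (by rw [card_stabPt hL h2Λ hΛ8 ρ hρ hz]; omega) fun g hg => ⟨?_, hg⟩)
    rw [← hσg, show ρ g z = z from hg]
  by_cases hall : ∀ m ∈ P, cm z₀ m = 1
  · refine false_of_abelian h4 hL π hπ ?_ h128 Λ (hΛP.trans hPk) hΛ8 hΛ2 hsq hne
    have hzP : ∀ m ∈ P, z₀ * m = m * z₀ := fun m hm => mul_inv_eq_iff_eq_mul.1 (mul_inv_eq_one.1 (hall m hm))
    intro a b ha hb
    rcases hcase a (MonoidHom.mem_ker.2 ha) with h1 | h1 <;> rcases hcase b (MonoidHom.mem_ker.2 hb) with h2 | h2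
    · exact hPc a h1 b h2
    · calc a * b = a * z₀ * (z₀⁻¹ * b) := by group
        _ = z₀ * (a * (z₀⁻¹ * b)) := by rw [← hzP a h1, mul_assoc]
        _ = b * a := by rw [hPc a h1 _ h2]; group
    · calc a * b = z₀ * ((z₀⁻¹ * a) * b) := by group
        _ = z₀ * b * (z₀⁻¹ * a) := by rw [hPc _ h1 b h2, mul_assoc]
        _ = b * a := by rw [hzP b h2]; group
    · calc a * b = z₀ * ((z₀⁻¹ * a) * z₀) * (z₀⁻¹ * b) := by group
        _ = z₀ * z₀ * ((z₀⁻¹ * a) * (z₀⁻¹ * b)) := by rw [← hzP _ h1]; group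
        _ = z₀ * (z₀ * (z₀⁻¹ * b)) * (z₀⁻¹ * a) := by rw [hPc _ h1 _ h2]; group
        _ = b * a := by rw [hzP _ h2]; group
  -- inversion
  have hinv : ∀ m ∈ P, z₀ * m * z₀⁻¹ = m⁻¹ := by
    push Not at hall
    obtain ⟨m₁, hm₁, hne₁⟩ := hall
    set z₁ : Λ := ⟨m₁ * m₁, hsq m₁ (hPk hm₁)⟩ with hz₁
    have hz₁1 : z₁ ≠ 1 := fun e => hne₁ (by
      have h := hΩ m₁ hm₁ (congrArg Subtype.val e)
      unfold cm
      rw [← hΛc _ h z₀ hz₀k, mul_inv_cancel_right, mul_inv_cancel])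
    have hσ₁ : σ z₁ = z₁ := (hσfix z₁ hz₁1).resolve_left fun e => hne₁ (by
      rw [← hσ z₁ m₁ hm₁ rfl, e]; rfl)
    intro m hm
    set z : Λ := ⟨m * m, hsq m (hPk hm)⟩ with hzd
    have hσz : (σ z : Y) = m * m := by
      by_cases hz : z = 1
      · rw [hσ z m hm rfl]
        have h := hΩ m hm (congrArg Subtype.val hz)
        unfold cm
        rw [← hΛc _ h z₀ hz₀k, mul_inv_cancel_right, mul_inv_cancel, hΛ2 m h]
      · obtain ⟨k, hk⟩ := exists_map_point hL h2Λ hΛ8 ρ hρ hz₁1 hz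
        show (σ z : Y) = (z : Y)
        rw [← hk, hσg, hσ₁]
    rw [hσ z m hm rfl] at hσz
    have h4m : m * m * (m * m) = 1 := hΛ2 _ (hsq m (hPk hm))
    calc z₀ * m * z₀⁻¹ = cm z₀ m * m := by unfold cm; group
      _ = (m * m * (m * m)) * m⁻¹ := by rw [hσz]; group
      _ = m⁻¹ := by rw [h4m, one_mul]
  obtain ⟨c₁, q₁, p₁, r₁, y₁, s₁, F⟩ := exists_frame hL h2Λ hΛ8 ρ hρ
  obtain ⟨e1, -, e3, -, -, -, e7, e8⟩ := F.relations h2Λ hΛ8 hρ
  obtain ⟨X₁, hPX, hX₁, hX₁k⟩ := exists_supplement hL π hπ P hPk hidx (fun a ha ha1 => by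
    by_contra hn
    have haa : a * a ∈ π.ker := by rw [MonoidHom.mem_ker, map_mul]; exact ha
    have hinv' : ∀ m ∈ P, (a * a) * m * (a * a)⁻¹ = m⁻¹ := by
      intro m hm
      have h := (hcase _ haa).resolve_left hn
      calc a * a * m * (a * a)⁻¹ = z₀ * ((z₀⁻¹ * (a * a)) * m * (z₀⁻¹ * (a * a))⁻¹) * z₀⁻¹ := by group
        _ = m⁻¹ := by rw [hPc _ h m hm, mul_inv_cancel_right, hinv m hm]
    -- a fixed point that is no commutator
    set τ := ρ (π a) with hτ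
    have hττ : ∀ v, τ (τ v) = v := fun v => by
      rw [hτ, ← MulAut.mul_apply, ← map_mul, ha, map_one]; rfl
    let δ : Λ →* Λ := MonoidHom.mk' (fun u => u * τ u) fun u v => by rw [map_mul, mul_mul_mul_comm]
    have hfix : ∀ u, u ∈ δ.ker ↔ τ u = u := fun u => by
      rw [MonoidHom.mem_ker]
      show u * τ u = 1 ↔ _
      exact ⟨fun e => mul_left_cancel (a := u) (e.trans (h2Λ u).symm), fun e => by rw [e, h2Λ]⟩
    have hrk : δ.range ≤ δ.ker := by
      rintro _ ⟨u, rfl⟩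
      rw [hfix]
      show τ (u * τ u) = u * τ u
      rw [map_mul, hττ, mul_comm]
    obtain ⟨lam, hlk, hlr⟩ : ∃ lam ∈ δ.ker, lam ∉ δ.range := by
      by_contra h
      push Not at h
      have heq : δ.ker = δ.range := le_antisymm h hrk
      have h1 := δ.ker.card_mul_index
      rw [index_ker, ← heq, hΛ8] at h1
      have key : ∀ n : ℕ, n < 9 → n * n ≠ 8 := by decide
      exact key (Nat.card δ.ker) (by
        have := Nat.le_of_dvd (by norm_num) (Dvd.intro _ h1); omega) h1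
    obtain ⟨m, hm, hml⟩ := hsqrt lam lam.2
    have hl : a * (lam : Y) * a⁻¹ = lam := by rw [← happ]; exact congrArg Subtype.val ((hfix lam).1 hlk)
    have hwP : cm a m ∈ P := cm_mem a hm
    have hw : cm a m ∈ Λ := hΩ _ hwP (by
      have hamm := (inferInstance : P.Normal).conj_mem m hm a
      rw [show cm a m = (a * m * a⁻¹) * m⁻¹ by rfl,
        (show Commute (a * m * a⁻¹) m⁻¹ from hPc _ hamm _ (inv_mem hm)).symm.mul_mul_mul_comm,
        show a * m * a⁻¹ * (a * m * a⁻¹) = a * (m * m) * a⁻¹ by group, hml, hl, ← hml]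
      group)
    refine hlr ⟨⟨cm a m, hw⟩, Subtype.ext ?_⟩
    show cm a m * (τ ⟨cm a m, hw⟩ : Y) = (lam : Y)
    rw [happ]
    have h5 : (a * a) * m * (a * a)⁻¹ = (a * cm a m * a⁻¹) * cm a m * m := by unfold cm; group
    rw [hinv' m hm] at h5
    have hcm2 : Commute (cm a m) (a * cm a m * a⁻¹) :=
      hPc _ hwP _ ((inferInstance : P.Normal).conj_mem _ hwP a)
    have hl2 : (lam : Y)⁻¹ = lam := inv_eq_of_mul_eq_one_right (hΛ2 _ lam.2)
    rw [hcm2.eq, ← hl2, ← hml]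
    calc a * cm a m * a⁻¹ * cm a m = (a * cm a m * a⁻¹ * cm a m * m) * m⁻¹ := by group
      _ = (m * m)⁻¹ := by rw [← h5]; group)
    ⟨s₁, r₁ * r₁, e3, e1, e7, e8⟩
  let π₁ : X₁ →* L := π.comp X₁.subtype
  refine false_of_four (CfsgLib.Fusion.RankThree.sectional_of_injective h4 X₁.subtype X₁.subtype_injective)
    hL π₁ (fun g => by obtain ⟨x, hx, hxg⟩ := hX₁ g; exact ⟨⟨x, hx⟩, hxg⟩)
    (fun a b ha hb => Subtype.ext (hPc _ (hX₁k a a.2 ha) _ (hX₁k b b.2 hb))) ?_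
    (fun m hm => Subtype.ext (by
      rw [SubmonoidClass.coe_pow, show (m : Y) ^ 4 = (m : Y) * m * ((m : Y) * m) by simp [pow_succ, mul_assoc],
        hΛ2 _ (hsq m (hPk (hX₁k m m.2 hm))), coe_one]))
    (Λ.subgroupOf X₁) ?_ ((Nat.card_congr (Subgroup.subgroupOfEquivOfLe (hΛP.trans hPX)).toEquiv).trans hΛ8) ?_
  · have hk : π₁.ker = P.subgroupOf X₁ := by
      ext x
      simp only [MonoidHom.mem_ker, mem_subgroupOf, π₁, MonoidHom.comp_apply, Subgroup.coe_subtype]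
      exact ⟨fun h => hX₁k x x.2 h, fun h => MonoidHom.mem_ker.1 (hPk h)⟩
    rw [hk, Nat.card_congr (Subgroup.subgroupOfEquivOfLe hPX).toEquiv, h64]
  · intro z
    rw [mem_subgroupOf]
    exact ⟨fun h => ⟨MonoidHom.mem_ker.1 (hPk (hΛP h)), Subtype.ext (hΛ2 _ h)⟩,
      fun h => hΩ _ (hX₁k z z.2 h.1) (congrArg Subtype.val h.2)⟩
  · by_contra h
    push Not at h
    refine hne fun z hz => mem_center_iff.2 fun g => ?_
    obtain ⟨n, hn, rfl⟩ := hsqrt z hz
    obtain ⟨x, hx, hxg⟩ := hX₁ (π g)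
    have hq : x⁻¹ * g ∈ π.ker := by rw [MonoidHom.mem_ker, map_mul, map_inv, hxg, inv_mul_cancel]
    have hxn : cm x n ∈ Λ := h ⟨x, hx⟩ ⟨n, hPX hn⟩ (MonoidHom.mem_ker.1 (hPk hn))
    have hfix' : x * (n * n) * x⁻¹ = n * n := by
      rw [show x * (n * n) * x⁻¹ = (cm x n * n) * (cm x n * n) by unfold cm; group,
        (show Commute (cm x n) n from hΛc _ hxn _ (hPk hn)).symm.mul_mul_mul_comm, hΛ2 _ hxn, one_mul]
    refine mul_inv_eq_iff_eq_mul.1 ?_
    calc g * (n * n) * g⁻¹ = x * ((x⁻¹ * g) * (n * n) * (x⁻¹ * g)⁻¹) * x⁻¹ := by group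
      _ = n * n := by rw [← hΛc _ hz _ hq, mul_inv_cancel_right, hfix']

end CfsgLib.PGroup.RadicalSeven
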