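import Cfsg.Agent.Lib.PGroup.RadicalSeven.Act
import Cfsg.Agent.Lib.PGroup.RadicalSeven.Triangle
import Cfsg.Agent.Lib.PGroup.RadicalFive.Sit
import Mathlib.Algebra.Module.ZMod
import Mathlib.LinearAlgebra.Determinant
import Mathlib.LinearAlgebra.Matrix.ToLin

/-!
# No homocyclic kernel of exponent four below the simple group of order 168
-/

set_option autoImplicit false
set_option linter.unusedSectionVars false
set_option linter.style.haveILetI false

open Subgroup

namespace CfsgLib.PGroup.RadicalSeven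

universe u v

abbrev T4 := Fin 3 → ZMod 4

/-- The matrix of an element of order four on a homocyclic group of exponent four. -/
def rMat (a b d : Fin 2) : Matrix (Fin 3) (Fin 3) (ZMod 4) :=
  !![1, 0, 2 * (a : ℕ); 1, 1, 2 * (b : ℕ); 0, 1, 1 + 2 * (d : ℕ)]

/-- A doubled vector. -/
def dbl (a b d : Fin 2) : T4 := ![2 * ((a : ℕ) : ZMod 4), 2 * ((b : ℕ) : ZMod 4), 2 * ((d : ℕ) : ZMod 4)]

theorem exists_dbl : ∀ x : T4, ∃ a b d : Fin 2, x + x = dbl a b d := by decide +kernel

theorem rMat_cols : ∀ a b d : Fin 2, (rMat a b d).mulVec ![1, 0, 0] = ![1, 0, 0] + ![0, 1, 0] ∧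
    (rMat a b d).mulVec ![0, 1, 0] = ![0, 1, 0] + ![0, 0, 1] ∧
    (rMat a b d).mulVec ![0, 0, 1] = ![0, 0, 1] + dbl a b d := by
  decide +kernel

theorem rMat_unique : ∀ a b d : Fin 2, (rMat a b d).det = 1 →
    (∀ x : T4, (rMat a b d).mulVec ((rMat a b d).mulVec ((rMat a b d).mulVec ((rMat a b d).mulVec x))) = x) →
    a = 0 ∧ b = 1 ∧ d = 1 := by
  decide +kernel

theorem rMat_even : ∀ x : T4, ((x 0).val % 2 = 0 ∧ (x 1).val % 2 = 0) →
    (rMat 0 1 1).mulVec ((rMat 0 1 1).mulVec x) - x = 0 ∨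
      (rMat 0 1 1).mulVec ((rMat 0 1 1).mulVec x) - x = ![0, 0, 2] := by
  decide +kernel

theorem rMat_fixed : ∀ x : T4, (rMat 0 1 1).mulVec x = x →
    ∃ m : T4, x + (rMat 0 1 1).mulVec ((rMat 0 1 1).mulVec m) + m = 0 := by
  decide +kernel

theorem T4.decomp : ∀ x : T4, x = (x 0).val • ![1, 0, 0] + (x 1).val • ![0, 1, 0] + (x 2).val • ![0, 0, 1] := by
  decide +kernel

theorem T4.even_two : ∀ x : T4, x + x = 0 → ((x 0).val % 2 = 0 ∧ (x 1).val % 2 = 0) := by decide +kernel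

theorem T4.even_split : ∀ x : T4, ((x 0).val % 2 = 0 ∧ (x 1).val % 2 = 0) →
    ∃ (z : T4) (k : Fin 4), z + z = 0 ∧ x = z + (k : ℕ) • ![0, 0, 1] := by decide +kernel

/-- The even vectors. -/
def evenVec : Subgroup (Multiplicative T4) where
  carrier := {x | (x.toAdd 0).val % 2 = 0 ∧ (x.toAdd 1).val % 2 = 0}
  one_mem' := by decide
  mul_mem' := fun {x y} hx hy => by
    have h : ∀ a b : ZMod 4, a.val % 2 = 0 → b.val % 2 = 0 → (a + b).val % 2 = 0 := by decide
    exact ⟨h _ _ hx.1 hy.1, h _ _ hx.2 hy.2⟩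
  inv_mem' := fun {x} hx => by
    have h : ∀ a : ZMod 4, a.val % 2 = 0 → (-a).val % 2 = 0 := by decide
    exact ⟨h _ hx.1, h _ hx.2⟩

theorem card_evenVec : Nat.card evenVec = 16 := by
  have e : evenVec ≃ {x : T4 // (x 0).val % 2 = 0 ∧ (x 1).val % 2 = 0} :=
    { toFun := fun x => ⟨x.1.toAdd, x.2⟩
      invFun := fun x => ⟨Multiplicative.ofAdd x.1, x.2⟩
      left_inv := fun x => rfl
      right_inv := fun x => rfl }
  rw [Nat.card_congr e, Nat.card_eq_fintype_card]
  decide +kernel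

variable {Y : Type u} [Group Y] [Finite Y] {L : Type v} [Group L] [Finite L] [IsSimpleGroup L]

theorem false_of_four (h4 : Cfsg.SectionalPRankLE 2 4 Y) (hL : Nat.card L = 168) (π : Y →* L)
    (hπ : Function.Surjective π) (hc : ∀ a b : Y, π a = 1 → π b = 1 → a * b = b * a)
    (h64 : Nat.card π.ker = 64) (he : ∀ m : Y, π m = 1 → m ^ 4 = 1) (Λ : Subgroup Y) [Λ.Normal]
    (hΛ : ∀ z, z ∈ Λ ↔ π z = 1 ∧ z * z = 1) (hΛ8 : Nat.card Λ = 8)
    (hne : ∃ g m, π m = 1 ∧ cm g m ∉ Λ) : False := by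
  classical
  set M := π.ker with hM
  have hΛM : Λ ≤ M := fun z hz => MonoidHom.mem_ker.2 ((hΛ z).1 hz).1
  have hM4 : ∀ m : M, m ^ 4 = 1 := fun m => Subtype.ext (by
    rw [SubmonoidClass.coe_pow]; exact he m (MonoidHom.mem_ker.1 m.2))
  letI : CommGroup M := { (inferInstance : Group M) with
    mul_comm := fun a b => Subtype.ext (hc a b (MonoidHom.mem_ker.1 a.2) (MonoidHom.mem_ker.1 b.2)) }
  -- every element of `Λ` is a square
  have hsqrt : ∀ z ∈ Λ, ∃ n : M, ((n * n : M) : Y) = z := by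
    let sqh : M →* M := MonoidHom.mk' (fun m => m * m) fun a b => mul_mul_mul_comm a b a b
    have hker : sqh.ker = Λ.subgroupOf M := by
      ext m
      rw [MonoidHom.mem_ker, mem_subgroupOf, hΛ]
      show m * m = 1 ↔ _
      rw [← Subtype.coe_inj, coe_mul, coe_one]
      exact ⟨fun h => ⟨MonoidHom.mem_ker.1 m.2, h⟩, fun h => h.2⟩
    have hcard : Nat.card sqh.range = 8 := by
      have h1 := sqh.ker.card_mul_index
      rw [index_ker, h64, hker, Nat.card_congr (Subgroup.subgroupOfEquivOfLe hΛM).toEquiv, hΛ8] at h1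
      omega
    have hle : sqh.range.map M.subtype ≤ Λ := by
      rintro _ ⟨_, ⟨n, rfl⟩, rfl⟩
      refine (hΛ _).2 ⟨MonoidHom.mem_ker.1 (sqh n).2, ?_⟩
      show ((n * n : M) : Y) * ((n * n : M) : Y) = 1
      rw [← coe_mul, show n * n * (n * n) = n ^ 4 by simp [pow_succ, mul_assoc], hM4, coe_one]
    have heq : sqh.range.map M.subtype = Λ := eq_of_le_of_card_ge hle (by
      rw [hΛ8, card_map_of_injective M.subtype_injective, hcard])
    intro z hz
    obtain ⟨_, ⟨n, rfl⟩, hn⟩ := heq.ge hz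
    exact ⟨n, hn⟩
  have hsqΛ : ∀ m ∈ M, m * m ∈ Λ := fun m hm => by
    refine (hΛ _).2 ⟨by rw [map_mul, MonoidHom.mem_ker.1 hm, one_mul], ?_⟩
    rw [show m * m * (m * m) = m ^ 4 by simp [pow_succ, mul_assoc]]
    exact he m (MonoidHom.mem_ker.1 hm)
  have hmap8 : Nat.card (M.map (QuotientGroup.mk' Λ)) = 8 := by
    have h := CfsgLib.PGroup.RadicalFive.card_comap_mk Λ (M.map (QuotientGroup.mk' Λ))
    rw [comap_map_eq, QuotientGroup.ker_mk', sup_eq_left.2 hΛM, h64, hΛ8] at h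
    omega
  obtain ⟨c, r, y, S⟩ := exists_std hL π hπ (fun m hm => by
      rw [show (16 : ℕ) = 4 * 4 by rfl, pow_mul, he m hm, one_pow]) Λ M hΛM hsqΛ hmap8
    (fun q hq m hm => by
      rw [cm, hc q m hq (MonoidHom.mem_ker.1 hm), mul_inv_cancel_right, mul_inv_cancel]; exact one_mem Λ)
    (by obtain ⟨g, m, hm, h⟩ := hne; exact ⟨g, m, MonoidHom.mem_ker.2 hm, h⟩)
  set q := cm r c with hq
  set p := cm r q with hp
  have hqM : q ∈ M := cm_mem r S.cP
  have hpM : p ∈ M := cm_mem r hqM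
  let cM : M := ⟨c, S.cP⟩
  let qM : M := ⟨q, hqM⟩
  let pM : M := ⟨p, hpM⟩
  let F : Multiplicative T4 →* M :=
    MonoidHom.mk' (fun e => cM ^ (e.toAdd 0).val * qM ^ (e.toAdd 1).val * pM ^ (e.toAdd 2).val) fun a b => by
      have hx : ∀ (x : M) (i j : ZMod 4), x ^ (i + j).val = x ^ i.val * x ^ j.val := fun x i j => by
        rw [← pow_add, ZMod.val_add, ← pow_eq_pow_mod _ (hM4 x)]
      simp only [toAdd_mul, Pi.add_apply, hx]
      simp only [mul_assoc, mul_comm, mul_left_comm]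
  have hFc : F (Multiplicative.ofAdd ![1, 0, 0]) = cM := by simp [F, show ZMod.val (1 : ZMod 4) = 1 from rfl]
  have hFq : F (Multiplicative.ofAdd ![0, 1, 0]) = qM := by simp [F, show ZMod.val (1 : ZMod 4) = 1 from rfl]
  have hFp : F (Multiplicative.ofAdd ![0, 0, 1]) = pM := by simp [F, show ZMod.val (1 : ZMod 4) = 1 from rfl]
  have hsurj : Function.Surjective F := by
    have hmod : ∀ m : M, ∃ x ∈ F.range, ((x : Y))⁻¹ * (m : Y) ∈ Λ := by
      intro m
      obtain ⟨i, j, k, h⟩ := S.span m m.2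
      refine ⟨cM ^ (i : ℕ) * qM ^ (j : ℕ) * pM ^ (k : ℕ),
        mul_mem (mul_mem (pow_mem (show cM ∈ F.range from ⟨_, hFc⟩) _) (pow_mem (show qM ∈ F.range from ⟨_, hFq⟩) _))
          (pow_mem (show pM ∈ F.range from ⟨_, hFp⟩) _), ?_⟩
      simp only [coe_mul, SubmonoidClass.coe_pow]
      exact h
    intro m
    show m ∈ F.range
    obtain ⟨x, hx, hxm⟩ := hmod m
    obtain ⟨n, hn⟩ := hsqrt _ hxm
    obtain ⟨x', hx', hxn⟩ := hmod n
    set l : M := x'⁻¹ * n with hl
    have hl2 : l * l = 1 := Subtype.ext ((hΛ _).1 hxn).2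
    have hm : m = x * (x' * x') := by
      have h1 : n * n = x⁻¹ * m := Subtype.ext hn
      calc m = x * (n * n) := by rw [h1, mul_inv_cancel_left]
        _ = x * (x' * x') := by
          rw [show n = x' * l by rw [hl, mul_inv_cancel_left], mul_mul_mul_comm, hl2, mul_one]
    rw [hm]
    exact mul_mem hx (mul_mem hx' hx')
  haveI : Fintype M := Fintype.ofFinite M
  have hbij : Function.Bijective F := (Fintype.bijective_iff_surjective_and_card F).2 ⟨hsurj, by
    rw [← Nat.card_eq_fintype_card (α := M), h64]; rfl⟩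
  let e : Multiplicative T4 ≃* M := MulEquiv.ofBijective F hbij
  -- the matrix of `r`
  set z := cm r p with hz
  obtain ⟨n, hn⟩ := hsqrt z S.rp
  obtain ⟨xn, hxn⟩ := hsurj n
  obtain ⟨a, b, d, habd⟩ : ∃ a b d : Fin 2, xn.toAdd + xn.toAdd = dbl a b d := by
    exact exists_dbl _
  have hzF : ((F (Multiplicative.ofAdd (dbl a b d)) : M) : Y) = z := by
    rw [← habd, ofAdd_add, ofAdd_toAdd, map_mul, hxn, hn]
  set R := rMat a b d with hR
  obtain ⟨hcol0, hcol1, hcol2⟩ := rMat_cols a b d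
  rw [← hR] at hcol0 hcol1 hcol2
  have hconj : ∀ x : T4, MulAut.conjNormal r (F (Multiplicative.ofAdd x)) =
      F (Multiplicative.ofAdd (R.mulVec x)) := by
    have g0 : MulAut.conjNormal r cM = cM * qM := Subtype.ext (by
      rw [MulAut.conjNormal_apply, mul_comm, coe_mul]; show r * c * r⁻¹ = cm r c * c
      unfold cm; group)
    have g1 : MulAut.conjNormal r qM = qM * pM := Subtype.ext (by
      rw [MulAut.conjNormal_apply, mul_comm, coe_mul]; show r * q * r⁻¹ = cm r q * q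
      unfold cm; group)
    have g2 : MulAut.conjNormal r pM = pM * F (Multiplicative.ofAdd (dbl a b d)) :=
      Subtype.ext (by
        rw [MulAut.conjNormal_apply, mul_comm, coe_mul, hzF]; show r * p * r⁻¹ = cm r p * p
        unfold cm; group)
    intro x
    rw [T4.decomp x]
    simp only [Matrix.mulVec_add, Matrix.mulVec_smul, ofAdd_add, ofAdd_nsmul, map_mul, map_pow, hFc, hFq, hFp,
      hcol0, hcol1, hcol2, g0, g1, g2]
  -- determinant
  let Ψ : MulAut M →* Module.End (ZMod 4) T4 :=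
    { toFun := fun σ => AddMonoidHom.toZModLinearMap 4
        (AddMonoidHom.mk' (fun x => (e.symm (σ (e (Multiplicative.ofAdd x)))).toAdd) fun x y => by
          simp only [ofAdd_add, map_mul, toAdd_mul])
      map_one' := LinearMap.ext fun x => by
        show (e.symm (e (Multiplicative.ofAdd x))).toAdd = x
        rw [MulEquiv.symm_apply_apply, toAdd_ofAdd]
      map_mul' := fun σ τ => LinearMap.ext fun x => by
        show _ = (e.symm (σ (e (Multiplicative.ofAdd (e.symm (τ (e (Multiplicative.ofAdd x)))).toAdd)))).toAdd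
        rw [ofAdd_toAdd, MulEquiv.apply_symm_apply]
        rfl }
  let δ : Y →* (ZMod 4)ˣ :=
    ((LinearMap.det).comp (Ψ.comp (MulAut.conjNormal (H := M)))).toHomUnits
  have hδM : π.ker ≤ δ.ker := fun m hm => by
    have h1 : MulAut.conjNormal (H := M) m = 1 := MulEquiv.ext fun x => Subtype.ext (by
      rw [MulAut.conjNormal_apply, hc m x (MonoidHom.mem_ker.1 hm) (MonoidHom.mem_ker.1 x.2),
        mul_inv_cancel_right]; rfl)
    refine MonoidHom.mem_ker.2 (Units.ext ?_)
    show LinearMap.det (Ψ (MulAut.conjNormal (H := M) m)) = 1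
    rw [h1, map_one, map_one]
  have hδ1 : ∀ g, δ g = 1 := by
    let δ' := MonoidHom.liftOfSurjective π hπ ⟨δ, hδM⟩
    have hk : δ'.ker = ⊤ := (IsSimpleGroup.eq_bot_or_eq_top_of_normal δ'.ker inferInstance).resolve_left
      fun hb => by
        have := Nat.card_le_card_of_injective δ' ((MonoidHom.ker_eq_bot_iff δ').1 hb)
        have h2 : Nat.card (ZMod 4)ˣ ≤ 4 :=
          (Nat.card_le_card_of_injective _ Units.val_injective).trans_eq (Nat.card_zmod 4)
        omega
    intro g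
    rw [← show δ' (π g) = δ g from MonoidHom.liftOfRightInverse_comp_apply π _ _ ⟨δ, hδM⟩ g]
    exact MonoidHom.mem_ker.1 (hk ▸ mem_top _)
  have hdet : R.det = 1 := by
    have h1 : Ψ (MulAut.conjNormal r) = Matrix.toLin' R := by
      refine LinearMap.ext fun x => ?_
      rw [Matrix.toLin'_apply]
      apply Multiplicative.ofAdd.injective
      apply e.injective
      show e (e.symm (MulAut.conjNormal r (F (Multiplicative.ofAdd x)))) = _
      rw [MulEquiv.apply_symm_apply, hconj]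
      rfl
    have h2 : LinearMap.det (Ψ (MulAut.conjNormal r)) = 1 := congrArg Units.val (hδ1 r)
    rwa [h1, LinearMap.det_toLin'] at h2
  have hr4 : π (r * r * (r * r)) = 1 := by rw [map_mul]; exact S.t2
  have hR4 : ∀ x : T4, R.mulVec (R.mulVec (R.mulVec (R.mulVec x))) = x := fun x => by
    apply Multiplicative.ofAdd.injective
    apply hbij.1
    rw [← hconj, ← hconj, ← hconj, ← hconj, ← MulAut.mul_apply, ← MulAut.mul_apply, ← MulAut.mul_apply,
      ← map_mul, ← map_mul, ← map_mul]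
    refine Subtype.ext ?_
    rw [MulAut.conjNormal_apply, hc _ _ (by simpa [mul_assoc] using hr4)
      (MonoidHom.mem_ker.1 (F (Multiplicative.ofAdd x)).2), mul_inv_cancel_right]
  obtain ⟨rfl, rfl, rfl⟩ := rMat_unique a b d hdet hR4
  -- the element over the transvection
  obtain ⟨x₀, hx0⟩ := hsurj ⟨r * r * (r * r), MonoidHom.mem_ker.2 hr4⟩
  obtain ⟨m, hm⟩ := rMat_fixed x₀.toAdd (by
    apply Multiplicative.ofAdd.injective
    apply hbij.1
    rw [← hR, ← hconj, ofAdd_toAdd, hx0]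
    refine Subtype.ext ?_
    rw [MulAut.conjNormal_apply]
    show r * (r * r * (r * r)) * r⁻¹ = r * r * (r * r)
    group)
  set mM : M := F (Multiplicative.ofAdd m) with hmM
  set s := r * r * (mM : Y) with hs
  have hrrr : ∀ x : M, (r * r)⁻¹ * (x : Y) * (r * r) = (r * r) * (x : Y) * (r * r)⁻¹ := fun x => by
    calc (r * r)⁻¹ * (x : Y) * (r * r) = (r * r) * ((r * r * (r * r))⁻¹ * x * (r * r * (r * r))) * (r * r)⁻¹ :=
          (fun t w : Y => show t⁻¹ * w * t = t * ((t * t)⁻¹ * w * (t * t)) * t⁻¹ by group) (r * r) x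
      _ = r * r * (x : Y) * (r * r)⁻¹ := by
        rw [mul_assoc _ (x : Y), hc _ _ (MonoidHom.mem_ker.1 x.2) hr4, inv_mul_cancel_left]
  have hss : s * s = 1 := by
    have e1 : s * s = (r * r * (r * r)) * ((r * r)⁻¹ * (mM : Y) * (r * r)) * mM := by simp [hs, mul_assoc]
    rw [e1, hrrr]
    have e2 : F (Multiplicative.ofAdd (x₀.toAdd + R.mulVec (R.mulVec m) + m)) = 1 := by
      rw [hR, hm]; exact map_one F
    rw [ofAdd_add, ofAdd_add, map_mul, map_mul, ofAdd_toAdd, hx0, ← hconj, ← hconj] at e2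
    have e3 := congrArg Subtype.val e2
    simp only [coe_mul, coe_one, MulAut.conjNormal_apply] at e3
    rw [← e3, ← hmM]
    group
  set B := evenVec.map (M.subtype.comp F) with hB
  set N := zpowers (p * p) with hN
  have hpp : F (Multiplicative.ofAdd ![0, 0, 2]) = pM * pM := by
    rw [← hFp, ← map_mul, ← ofAdd_add]
    congr 2
    decide +kernel
  have hinjMF : Function.Injective (M.subtype.comp F) := M.subtype_injective.comp hbij.1
  have hBM : B ≤ π.ker := by rintro _ ⟨x, -, rfl⟩; exact (F x).2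
  have hBc : ∀ u ∈ B, ∀ w ∈ B, u * w = w * u := fun u hu w hw =>
    hc u w (MonoidHom.mem_ker.1 (hBM hu)) (MonoidHom.mem_ker.1 (hBM hw))
  have hpB : p ∈ B := ⟨Multiplicative.ofAdd ![0, 0, 1], by constructor <;> decide, congrArg Subtype.val hFp⟩
  have hΛB : Λ ≤ B := fun w hw => by
    obtain ⟨x, hx⟩ := hsurj ⟨w, hΛM hw⟩
    refine ⟨x, T4.even_two x.toAdd ?_, congrArg Subtype.val hx⟩
    apply Multiplicative.ofAdd.injective
    apply hbij.1
    rw [ofAdd_add, ofAdd_toAdd, map_mul, hx, ofAdd_zero, map_one]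
    exact Subtype.ext ((hΛ w).1 hw).2
  have hNB : N ≤ B := zpowers_le.2 (mul_mem hpB hpB)
  have hcases : ∀ u ∈ B, ∃ l ∈ Λ, ∃ k : ℕ, u = l * p ^ k := by
    rintro _ ⟨x, hx, rfl⟩
    obtain ⟨w, k, hw, hxk⟩ := T4.even_split x.toAdd hx
    refine ⟨F (Multiplicative.ofAdd w), (hΛ _).2 ⟨MonoidHom.mem_ker.1 (F _).2, ?_⟩, k, ?_⟩
    · have e1 : F (Multiplicative.ofAdd w) * F (Multiplicative.ofAdd w) = 1 := by
        rw [← map_mul, ← ofAdd_add, hw]; exact map_one F
      exact congrArg Subtype.val e1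
    · show ((F x : M) : Y) = _
      rw [← ofAdd_toAdd x, hxk, ofAdd_add, ofAdd_nsmul, map_mul, map_pow, hFp, coe_mul, SubmonoidClass.coe_pow]
  refine false_of_triangle h4 π B N hBM hNB ?_ hBc ?_ s y (hss ▸ one_mem N) ?_ S.y3 ?_ ?_ ?_ ?_ ?_ ?_
  · intro u hu
    obtain ⟨l, hl, k, rfl⟩ := hcases u hu
    have hlp : Commute l (p ^ k) := hc l _ ((hΛ l).1 hl).1 (by rw [map_pow, MonoidHom.mem_ker.1 hpM, one_pow])
    rw [hlp.symm.mul_mul_mul_comm, ((hΛ l).1 hl).2, one_mul, ← pow_two, ← pow_mul, mul_comm, pow_mul, pow_two]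
    exact pow_mem (mem_zpowers _) _
  · rw [hB, card_map_of_injective hinjMF, card_evenVec, hN, Nat.card_zpowers]
    have : orderOf (p * p) ∣ 2 := orderOf_dvd_of_pow_eq_one (by
      rw [pow_two, show p * p * (p * p) = p ^ 4 by simp [pow_succ, mul_assoc]]
      exact he p (MonoidHom.mem_ker.1 hpM))
    have := Nat.le_of_dvd (by norm_num) this
    omega
  · rw [hs, map_mul, MonoidHom.mem_ker.1 mM.2, mul_one]; exact S.t1
  · rw [hs, map_mul, MonoidHom.mem_ker.1 mM.2, mul_one]; exact S.ne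
  · rw [hs, map_mul, MonoidHom.mem_ker.1 mM.2, mul_one]; exact S.tri
  · rintro _ ⟨x, hx, rfl⟩
    show s * (F x : Y) * s⁻¹ * (F x : Y)⁻¹ ∈ N
    have e1 : s * (F x : Y) * s⁻¹ * (F x : Y)⁻¹ =
        ((MulAut.conjNormal r (MulAut.conjNormal r (F x)) * (F x)⁻¹ : M) : Y) := by
      rw [coe_mul, coe_inv, MulAut.conjNormal_apply, MulAut.conjNormal_apply, hs,
        show r * r * (mM : Y) * (F x : Y) * (r * r * (mM : Y))⁻¹ =
          r * r * ((mM : Y) * (F x : Y) * (mM : Y)⁻¹) * (r * r)⁻¹ by group,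
        hc _ _ (MonoidHom.mem_ker.1 mM.2) (MonoidHom.mem_ker.1 (F x).2), mul_inv_cancel_right]
      group
    rw [e1]
    have e2 : MulAut.conjNormal r (MulAut.conjNormal r (F x)) * (F x)⁻¹ =
        F (Multiplicative.ofAdd (R.mulVec (R.mulVec x.toAdd) - x.toAdd)) := by
      conv_lhs => rw [← ofAdd_toAdd x, hconj, hconj]
      rw [ofAdd_sub, map_div, ofAdd_toAdd, div_eq_mul_inv]
    rw [e2, hR]
    rcases rMat_even x.toAdd hx with h | h <;> rw [h]
    · rw [ofAdd_zero, map_one, coe_one]; exact one_mem N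
    · rw [hpp, coe_mul]; exact mem_zpowers _
  · intro u hu
    obtain ⟨l, hl, k, rfl⟩ := hcases u hu
    rw [show y * (l * p ^ k) * y⁻¹ = (y * l * y⁻¹) * (y * p ^ k * y⁻¹) by group, ← conj_pow,
      show y * p * y⁻¹ = cm y p * p by unfold cm; group]
    exact mul_mem (hΛB ((inferInstance : Λ.Normal).conj_mem l hl y))
      (pow_mem (mul_mem (hΛB S.yp) hpB) k)
  · intro w hw
    have h1 : y * (p * p) * y⁻¹ = p * p := by
      have hl : cm y p ∈ Λ := S.yp
      have hpl : Commute (cm y p) p := hc _ _ ((hΛ _).1 hl).1 (MonoidHom.mem_ker.1 hpM)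
      rw [show y * (p * p) * y⁻¹ = cm y p * p * (cm y p * p) by unfold cm; group,
        hpl.symm.mul_mul_mul_comm, ((hΛ _).1 hl).2, one_mul]
    obtain ⟨k, rfl⟩ := mem_zpowers_iff.1 hw
    rw [← conj_zpow, h1]; exact zpow_mem (mem_zpowers _) k
  · intro w hw hwc
    have hwM : w ∈ M := MonoidHom.mem_ker.2 hw
    have h1 : cm (r * r * y) w ∈ Λ := by
      have h2 : cm (s * y) w = 1 := by unfold cm; rw [hwc, mul_inv_cancel_right, mul_inv_cancel]
      have h3 : r * r * y * w * (r * r * y)⁻¹ = s * y * w * (s * y)⁻¹ := by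
        have hcomm := hc (mM : Y) (y * w * y⁻¹) (MonoidHom.mem_ker.1 mM.2)
          (by rw [map_mul, map_mul, hw, mul_one, map_inv, mul_inv_cancel])
        calc r * r * y * w * (r * r * y)⁻¹ = r * r * (y * w * y⁻¹) * (r * r)⁻¹ := by group
          _ = r * r * ((mM : Y) * (y * w * y⁻¹) * (mM : Y)⁻¹) * (r * r)⁻¹ := by
            rw [hcomm, mul_inv_cancel_right]
          _ = s * y * w * (s * y)⁻¹ := by rw [hs]; group
      unfold cm at h2 ⊢
      rw [h3, h2]
      exact one_mem Λ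
    rcases S.fix w hwM h1 with h | h
    · exact hΛB h
    · have := mul_mem hpB (hΛB h)
      rwa [mul_inv_cancel_left] at this

end CfsgLib.PGroup.RadicalSeven
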