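import Cfsg.Agent.Lib.PGroup.RadicalSeven.Eight

/-!
# The first layer below the simple group of order 168
-/

set_option autoImplicit false
set_option linter.unusedSectionVars false
set_option linter.style.haveILetI false

open Subgroup

namespace CfsgLib.PGroup.RadicalSeven

universe u v

variable {Y : Type u} [Group Y] [Finite Y] {L : Type v} [Group L] [Finite L] [IsSimpleGroup L]

theorem card_of_map {K P : Subgroup Y} [K.Normal] (h : K ≤ P) :
    Nat.card P = Nat.card K * Nat.card (P.map (QuotientGroup.mk' K)) := by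
  have h' := CfsgLib.PGroup.RadicalFive.card_comap_mk K (P.map (QuotientGroup.mk' K))
  rwa [comap_map_eq, QuotientGroup.ker_mk', sup_eq_left.2 h] at h'

/-- A minimal layer is central of order two or faithful of order eight. -/
theorem layer_dichotomy (h4 : Cfsg.SectionalPRankLE 2 4 Y) (hL : Nat.card L = 168) (π : Y →* L)
    (hπ : Function.Surjective π) (Λ : Subgroup Y) [Λ.Normal] (hΛ : Λ ≠ ⊥)
    (hc : ∀ z ∈ Λ, ∀ q ∈ π.ker, z * q = q * z) (h2 : ∀ z ∈ Λ, z * z = 1)
    (hmin : ∀ M : Subgroup Y, M.Normal → M ≤ Λ → M ≠ ⊥ → M = Λ) :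
    (Λ ≤ center Y ∧ Nat.card Λ = 2) ∨ (¬ Λ ≤ center Y ∧ Nat.card Λ = 8) := by
  have hΛc := comm_of_exp_two h2
  by_cases hcen : Λ ≤ center Y
  · left
    refine ⟨hcen, ?_⟩
    haveI : Nontrivial Λ := (nontrivial_iff_ne_bot _).2 hΛ
    obtain ⟨⟨w, hw⟩, hw1⟩ := exists_ne (1 : Λ)
    have hw1' : w ≠ 1 := fun e => hw1 (Subtype.ext e)
    have hn : (zpowers w).Normal := ⟨fun n hn g => by
      rw [mem_center_iff.1 (zpowers_le.2 (hcen hw) hn) g, mul_inv_cancel_right]
      exact hn⟩
    rw [← hmin _ hn (zpowers_le.2 hw) (zpowers_ne_bot.2 hw1'), Nat.card_zpowers]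
    exact orderOf_eq_prime (hp := ⟨Nat.prime_two⟩) (by rw [pow_two]; exact h2 w hw) hw1'
  right
  refine ⟨hcen, ?_⟩
  letI : CommGroup Λ := { (inferInstance : Group Λ) with
    mul_comm := fun a b => Subtype.ext (hΛc a a.2 b b.2) }
  obtain ⟨ρ, happ, hinj⟩ := exists_act π hπ Λ hc
  have hV := CfsgLib.PGroup.RadicalFive.card_le_sixteen h4 hΛc h2
  rcases module_cases hL (fun v : Λ => Subtype.ext (h2 v v.2)) hV ρ (hinj hcen) with
    h | ⟨h16, ⟨W, hW8, hWinv, -⟩ | ⟨z, hz1, hzfix, -⟩⟩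
  · exact h
  · exfalso
    have hn : (W.map Λ.subtype).Normal := ⟨fun m hm g => by
      obtain ⟨w, hw, rfl⟩ := hm
      exact ⟨ρ (π g) w, hWinv _ w hw, happ g w⟩⟩
    have hne : W.map Λ.subtype ≠ ⊥ := fun e => by
      have := card_map_of_injective (K := W) Λ.subtype_injective
      rw [e, card_bot, hW8] at this
      omega
    have h' := hmin _ hn (map_subtype_le W) hne
    have := card_map_of_injective (K := W) Λ.subtype_injective
    rw [h', hW8] at this
    omega
  · exfalso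
    have hzc : ∀ g, g * (z : Y) * g⁻¹ = z := fun g => by rw [← happ g z, hzfix]
    have hn : (zpowers (z : Y)).Normal := ⟨fun n hn g => by
      obtain ⟨k, rfl⟩ := mem_zpowers_iff.1 hn
      rw [← conj_zpow, hzc]
      exact zpow_mem (mem_zpowers _) k⟩
    have hz1' : (z : Y) ≠ 1 := fun e => hz1 (Subtype.ext e)
    have h' := hmin _ hn (zpowers_le.2 z.2) (zpowers_ne_bot.2 hz1')
    have ho : Nat.card (zpowers (z : Y)) = 2 := by
      rw [Nat.card_zpowers]
      exact orderOf_eq_prime (hp := ⟨Nat.prime_two⟩) (by rw [pow_two]; exact h2 z z.2) hz1'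
    rw [h'] at ho
    omega

/-- The data of a section `P/K` of order eight with nontrivial action. -/
structure Octad (π : Y →* L) (K P : Subgroup Y) [K.Normal] : Prop where
  le : K ≤ P
  leK : P ≤ π.ker
  sq : ∀ m ∈ P, m * m ∈ K
  card : Nat.card (P.map (QuotientGroup.mk' K)) = 8
  ker : ∀ q, π q = 1 → ∀ m ∈ P, cm q m ∈ K
  ne : ∃ g, ∃ m ∈ P, cm g m ∉ K

/-- A group of exponent two is a commutative group. -/
@[reducible] def commGroupTwo {G : Type u} [Group G] (W : Subgroup G) (h : ∀ w ∈ W, w * w = 1) :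
    CommGroup W :=
  { (inferInstance : Group W) with
    mul_comm := fun a b => by
      have hi : ∀ x : W, x⁻¹ = x := fun x => inv_eq_of_mul_eq_one_right (Subtype.ext (h x x.2))
      calc a * b = (a * b)⁻¹ := (hi _).symm
        _ = b * a := by rw [mul_inv_rev, hi, hi] }

theorem Octad.exp_two {π : Y →* L} {K P : Subgroup Y} [K.Normal] (O : Octad π K P) :
    ∀ w ∈ P.map (QuotientGroup.mk' K), w * w = 1 := by
  rintro _ ⟨m, hm, rfl⟩
  rw [← map_mul]
  exact (QuotientGroup.eq_one_iff _).2 (O.sq m hm)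

/-- The module of an octad. -/
theorem Octad.exists_module {π : Y →* L} (hπ : Function.Surjective π) {K P : Subgroup Y} [K.Normal]
    [P.Normal] (O : Octad π K P) :
    ∃ ρ : L →* MulAut (P.map (QuotientGroup.mk' K)), Function.Injective ρ ∧
      ∀ g m (hm : m ∈ P), (ρ (π g) ⟨QuotientGroup.mk' K m, mem_map_of_mem _ hm⟩ : Y ⧸ K) =
        QuotientGroup.mk' K (g * m * g⁻¹) := by
  set mk := QuotientGroup.mk' K with hmk
  haveI : (P.map mk).Normal := Subgroup.Normal.map inferInstance _ (QuotientGroup.mk'_surjective K)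
  let π' : Y ⧸ K →* L := QuotientGroup.lift K π (O.le.trans O.leK)
  obtain ⟨ρ, happ, hinj⟩ := exists_act π' (fun g => by
    obtain ⟨x, hx⟩ := hπ g
    exact ⟨mk x, hx⟩) (P.map mk) (by
    rintro _ ⟨m, hm, rfl⟩ z hz
    obtain ⟨q, rfl⟩ := QuotientGroup.mk'_surjective K z
    have h1 : mk (cm q m) = 1 := (QuotientGroup.eq_one_iff _).2 (O.ker q (MonoidHom.mem_ker.1 hz) m hm)
    simp only [cm, map_mul, map_inv, mul_inv_eq_one] at h1
    exact (mul_inv_eq_iff_eq_mul.1 h1).symm)
  refine ⟨ρ, hinj fun hle => ?_, fun g m hm => ?_⟩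
  · obtain ⟨g, m, hm, hgm⟩ := O.ne
    refine hgm ((QuotientGroup.eq_one_iff _).1 ?_)
    show mk (cm g m) = 1
    simp only [cm, map_mul, map_inv]
    rw [mem_center_iff.1 (hle (mem_map_of_mem mk hm)) (mk g), mul_inv_cancel_right, mul_inv_cancel]
  · rw [map_mul, map_mul, map_inv]
    exact happ (mk g) ⟨mk m, mem_map_of_mem mk hm⟩

/-- An invariant alternating map to a central group of exponent two vanishes. -/
theorem Octad.comm {π : Y →* L} (hπ : Function.Surjective π) (hL : Nat.card L = 168) {K P : Subgroup Y}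
    [K.Normal] [P.Normal] (O : Octad π K P) (hKc : ∀ k ∈ K, ∀ m ∈ P, k * m = m * k)
    (hR : ∀ a ∈ P, ∀ b ∈ P, cm a b ∈ center Y ∧ cm a b * cm a b = 1) :
    ∀ a ∈ P, ∀ b ∈ P, a * b = b * a := by
  set mk := QuotientGroup.mk' K with hmk
  letI := commGroupTwo _ O.exp_two
  obtain ⟨ρ, hρ, happ⟩ := O.exists_module hπ
  have h2 : ∀ w : P.map mk, w * w = 1 := fun w => Subtype.ext (O.exp_two w w.2)
  let el : ∀ m, m ∈ P → P.map mk := fun m hm => ⟨mk m, mem_map_of_mem _ hm⟩
  have hcmK : ∀ a ∈ P, ∀ b ∈ P, ∀ k ∈ K, cm (a * k) b = cm a b ∧ cm a (b * k) = cm a b := by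
    intro a ha b hb k hk
    have h1 : Commute k b := hKc k hk b hb
    have h2 : Commute k a := hKc k hk a ha
    refine ⟨?_, ?_⟩
    · unfold cm
      rw [show a * k * b * (a * k)⁻¹ = a * (k * b * k⁻¹) * a⁻¹ by group, h1.eq, mul_inv_cancel_right]
    · unfold cm
      rw [show a * (b * k) * a⁻¹ * (b * k)⁻¹ = a * b * (k * a⁻¹ * k⁻¹) * b⁻¹ by group,
        h2.inv_right.eq, mul_inv_cancel_right]
  have hpair : ∀ a (ha : a ∈ P) b (hb : b ∈ P) a' (ha' : a' ∈ P) b' (hb' : b' ∈ P),
      el a ha ≠ 1 → el b hb ≠ 1 → el a ha ≠ el b hb → el a' ha' ≠ 1 → el b' hb' ≠ 1 → el a' ha' ≠ el b' hb' →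
      cm a b = cm a' b' := by
    intro a ha b hb a' ha' b' hb' n1 n2 n3 n4 n5 n6
    obtain ⟨k, hk1, hk2⟩ := exists_map_pair hL h2 O.card ρ hρ n1 n2 n3 n4 n5 n6
    obtain ⟨g, rfl⟩ := hπ k
    have e1 : (a'⁻¹ * (g * a * g⁻¹)) ∈ K := QuotientGroup.eq.1
      (((happ g a ha).symm.trans (congrArg Subtype.val hk1)).symm : mk a' = mk (g * a * g⁻¹))
    have e2 : (b'⁻¹ * (g * b * g⁻¹)) ∈ K := QuotientGroup.eq.1
      (((happ g b hb).symm.trans (congrArg Subtype.val hk2)).symm : mk b' = mk (g * b * g⁻¹))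
    have hga := (inferInstance : P.Normal).conj_mem a ha g
    calc cm a b = g * cm a b * g⁻¹ := by rw [mem_center_iff.1 (hR a ha b hb).1 g, mul_inv_cancel_right]
      _ = cm (g * a * g⁻¹) (g * b * g⁻¹) := by unfold cm; group
      _ = cm (a' * (a'⁻¹ * (g * a * g⁻¹))) (b' * (b'⁻¹ * (g * b * g⁻¹))) := by
        rw [mul_inv_cancel_left, mul_inv_cancel_left]
      _ = cm a' b' := by
        rw [(hcmK a' ha' _ (mul_mem hb' (O.le e2)) _ e1).1, (hcmK a' ha' b' hb' _ e2).2]
  obtain ⟨c₁, q₁, p₁, hi⟩ := exists_indep h2 O.card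
  obtain ⟨a₀, ha₀, ha₀'⟩ := mem_map.1 c₁.2
  obtain ⟨b₀, hb₀, hb₀'⟩ := mem_map.1 q₁.2
  obtain ⟨d₀, hd₀, hd₀'⟩ := mem_map.1 p₁.2
  have ea : el a₀ ha₀ = c₁ := Subtype.ext ha₀'
  have eb : el b₀ hb₀ = q₁ := Subtype.ext hb₀'
  have ed : el d₀ hd₀ = p₁ := Subtype.ext hd₀'
  have ebd : el (b₀ * d₀) (mul_mem hb₀ hd₀) = q₁ * p₁ := by rw [← eb, ← ed]; exact Subtype.ext (map_mul _ _ _)
  obtain ⟨hc1, hq1, hqc, hp1, hpc, hpq, hpcq⟩ := hi
  have hbd1 : q₁ * p₁ ≠ 1 := fun e => hpq ((eq_inv_of_mul_eq_one_right e).trans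
    (inv_eq_of_mul_eq_one_right (h2 _)))
  have hbdc : c₁ ≠ q₁ * p₁ := fun e => hpcq (by
    rw [e, mul_comm q₁ p₁, mul_assoc, h2, mul_one])
  have hκ : cm a₀ b₀ = 1 := by
    have h1 : cm a₀ (b₀ * d₀) = cm a₀ b₀ := hpair _ ha₀ _ (mul_mem hb₀ hd₀) _ ha₀ _ hb₀
      (by rw [ea]; exact hc1) (by rw [ebd]; exact hbd1) (by rw [ea, ebd]; exact hbdc)
      (by rw [ea]; exact hc1) (by rw [eb]; exact hq1) (by rw [ea, eb]; exact hqc.symm)
    have h2' : cm a₀ d₀ = cm a₀ b₀ := hpair _ ha₀ _ hd₀ _ ha₀ _ hb₀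
      (by rw [ea]; exact hc1) (by rw [ed]; exact hp1) (by rw [ea, ed]; exact hpc.symm)
      (by rw [ea]; exact hc1) (by rw [eb]; exact hq1) (by rw [ea, eb]; exact hqc.symm)
    have h3 : cm a₀ (b₀ * d₀) = cm a₀ b₀ * (b₀ * cm a₀ d₀ * b₀⁻¹) := by unfold cm; group
    rw [h1, mem_center_iff.1 (hR a₀ ha₀ d₀ hd₀).1 b₀, mul_inv_cancel_right, h2', (hR a₀ ha₀ b₀ hb₀).2] at h3
    exact h3
  intro a ha b hb
  by_cases n1 : el a ha = 1
  · exact hKc a ((QuotientGroup.eq_one_iff a).1 (congrArg Subtype.val n1)) b hb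
  by_cases n2 : el b hb = 1
  · exact (hKc b ((QuotientGroup.eq_one_iff b).1 (congrArg Subtype.val n2)) a ha).symm
  by_cases n3 : el a ha = el b hb
  · have hk : a⁻¹ * b ∈ K := QuotientGroup.eq.1 (congrArg Subtype.val n3)
    calc a * b = a * (a * (a⁻¹ * b)) := by group
      _ = a * ((a⁻¹ * b) * a) := by rw [hKc _ hk a ha]
      _ = b * a := by group
  refine mul_inv_eq_iff_eq_mul.1 (mul_inv_eq_one.1 ?_)
  show cm a b = 1
  rw [hpair a ha b hb a₀ ha₀ b₀ hb₀ n1 n2 n3 (by rw [ea]; exact hc1) (by rw [eb]; exact hq1)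
    (by rw [ea, eb]; exact hqc.symm), hκ]

/-- With central squares all squares vanish. -/
theorem Octad.elementary {π : Y →* L} (hπ : Function.Surjective π) (hL : Nat.card L = 168) {K P : Subgroup Y}
    [K.Normal] [P.Normal] (O : Octad π K P) (hKc : K ≤ center Y) (hK2 : ∀ k ∈ K, k * k = 1) :
    ∀ m ∈ P, m * m = 1 := by
  set mk := QuotientGroup.mk' K with hmk
  have hcomm := O.comm hπ hL (fun k hk m _ => (mem_center_iff.1 (hKc hk) m).symm) fun a ha b hb => by
    have h := CfsgLib.PGroup.RadicalFive.comm_mem_of_sq O.sq ha hb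
    exact ⟨hKc h, hK2 _ h⟩
  letI := commGroupTwo _ O.exp_two
  obtain ⟨ρ, hρ, happ⟩ := O.exists_module hπ
  have h2 : ∀ w : P.map mk, w * w = 1 := fun w => Subtype.ext (O.exp_two w w.2)
  let el : ∀ m, m ∈ P → P.map mk := fun m hm => ⟨mk m, mem_map_of_mem _ hm⟩
  have hsqK : ∀ m ∈ P, ∀ k ∈ K, m * k * (m * k) = m * m := fun m hm k hk => by
    rw [(show Commute k m from (mem_center_iff.1 (hKc hk) m).symm).mul_mul_mul_comm, hK2 k hk, mul_one]
  have hall : ∀ a (ha : a ∈ P) b (hb : b ∈ P), el a ha ≠ 1 → el b hb ≠ 1 → a * a = b * b := by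
    intro a ha b hb n1 n2
    obtain ⟨k, hk⟩ := exists_map_point hL h2 O.card ρ hρ n1 n2
    obtain ⟨g, rfl⟩ := hπ k
    have e1 : b⁻¹ * (g * a * g⁻¹) ∈ K := QuotientGroup.eq.1
      (((happ g a ha).symm.trans (congrArg Subtype.val hk)).symm : mk b = mk (g * a * g⁻¹))
    calc a * a = g * (a * a) * g⁻¹ := by rw [mem_center_iff.1 (hKc (O.sq a ha)) g, mul_inv_cancel_right]
      _ = b * (b⁻¹ * (g * a * g⁻¹)) * (b * (b⁻¹ * (g * a * g⁻¹))) := by group
      _ = b * b := hsqK b hb _ e1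
  obtain ⟨c₁, q₁, p₁, hc1, hq1, hqc, -⟩ := exists_indep h2 O.card
  obtain ⟨a₀, ha₀, ha₀'⟩ := mem_map.1 c₁.2
  obtain ⟨b₀, hb₀, hb₀'⟩ := mem_map.1 q₁.2
  have ea : el a₀ ha₀ = c₁ := Subtype.ext ha₀'
  have eb : el b₀ hb₀ = q₁ := Subtype.ext hb₀'
  have hab : el (a₀ * b₀) (mul_mem ha₀ hb₀) ≠ 1 := fun e => hqc (by
    have e' : c₁ * q₁ = 1 := by rw [← ea, ← eb, ← e]; exact Subtype.ext (map_mul _ _ _).symm
    exact (eq_inv_of_mul_eq_one_right e').trans (inv_eq_of_mul_eq_one_right (h2 _)))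
  have hκ : a₀ * a₀ = 1 := by
    have h1 := hall _ (mul_mem ha₀ hb₀) _ ha₀ hab (by rw [ea]; exact hc1)
    rw [(show Commute b₀ a₀ from hcomm b₀ hb₀ a₀ ha₀).mul_mul_mul_comm] at h1
    rw [← hall _ ha₀ _ hb₀ (by rw [ea]; exact hc1) (by rw [eb]; exact hq1)] at h1
    exact mul_eq_left.1 h1
  intro m hm
  by_cases n1 : el m hm = 1
  · exact hK2 m ((QuotientGroup.eq_one_iff m).1 (congrArg Subtype.val n1))
  rw [hall m hm a₀ ha₀ n1 (by rw [ea]; exact hc1), hκ]

/-- Squares into a faithful layer vanish or are a bijection. -/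
theorem Octad.square_dichotomy {π : Y →* L} (hπ : Function.Surjective π) (hL : Nat.card L = 168)
    {K P : Subgroup Y} [K.Normal] [P.Normal] (O : Octad π K P) (Λ : Subgroup Y) [Λ.Normal] (hΛK : Λ ≤ K)
    (hΛ8 : Nat.card Λ = 8) (hΛne : ¬ Λ ≤ center Y) (hK2 : ∀ k ∈ K, k * k = 1)
    (hKc : ∀ k ∈ K, ∀ q ∈ π.ker, k * q = q * k) (hsq : ∀ m ∈ P, m * m ∈ Λ) :
    (∀ m ∈ P, m * m = 1) ∨ ((∀ a ∈ P, ∀ b ∈ P, a * b = b * a) ∧ ∀ m ∈ P, m * m = 1 → m ∈ K) := by
  classical
  set mk := QuotientGroup.mk' K with hmk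
  letI := commGroupTwo _ O.exp_two
  letI := commGroupTwo Λ fun z hz => hK2 z (hΛK hz)
  obtain ⟨ρ, hρ, happ⟩ := O.exists_module hπ
  obtain ⟨ρ', happ', hinj'⟩ := exists_act π hπ Λ fun z hz => hKc z (hΛK hz)
  have h2 : ∀ w : P.map mk, w * w = 1 := fun w => Subtype.ext (O.exp_two w w.2)
  have h2' : ∀ v : Λ, v * v = 1 := fun v => Subtype.ext (hK2 v (hΛK v.2))
  have hl : ∀ w : P.map mk, ∃ m ∈ P, mk m = (w : Y ⧸ K) := fun w => mem_map.1 w.2
  choose l hlP hlm using hl
  let σ : P.map mk → Λ := fun w => ⟨l w * l w, hsq _ (hlP w)⟩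
  have hσ : ∀ (w : P.map mk) m, m ∈ P → mk m = (w : Y ⧸ K) → (σ w : Y) = m * m := by
    intro w m hm e
    have hk : (l w)⁻¹ * m ∈ K := QuotientGroup.eq.1 ((hlm w).trans e.symm)
    set k := (l w)⁻¹ * m with hkd
    have hk' : Commute k (l w) := hKc k hk _ (O.leK (hlP w))
    show l w * l w = m * m
    rw [show m = l w * k by rw [hkd, mul_inv_cancel_left], hk'.mul_mul_mul_comm, hK2 k hk, mul_one]
  rcases setmap_linear hL h2 O.card ρ hρ h2' hΛ8 ρ' (hinj' hΛne) σ
      (Subtype.ext ((hσ 1 1 (one_mem P) (map_one mk)).trans (one_mul 1))) (fun k w => by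
        obtain ⟨g, rfl⟩ := hπ k
        refine Subtype.ext ?_
        rw [happ', hσ _ (g * l w * g⁻¹) ((inferInstance : P.Normal).conj_mem _ (hlP w) g) (by
          rw [← happ g (l w) (hlP w)]
          congr 2
          exact Subtype.ext (hlm w)), hσ w (l w) (hlP w) (hlm w)]
        group) with h | ⟨hhom, hbij⟩
  · left
    intro m hm
    rw [← hσ ⟨mk m, mem_map_of_mem _ hm⟩ m hm rfl, h]; rfl
  right
  refine ⟨fun a ha b hb => ?_, fun m hm hm1 => ?_⟩
  · have h := congrArg Subtype.val (hhom ⟨mk a, mem_map_of_mem _ ha⟩ ⟨mk b, mem_map_of_mem _ hb⟩)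
    rw [coe_mul, hσ ⟨mk a, mem_map_of_mem _ ha⟩ a ha rfl, hσ ⟨mk b, mem_map_of_mem _ hb⟩ b hb rfl,
      hσ _ (a * b) (mul_mem ha hb) (map_mul mk a b)] at h
    have h' : b * a = a * b := mul_left_cancel (a := a) (mul_right_cancel (b := b) (by
      simpa [mul_assoc] using h))
    exact h'.symm
  · have h : σ ⟨mk m, mem_map_of_mem _ hm⟩ = σ 1 := Subtype.ext (by
      rw [hσ _ m hm rfl, hσ 1 1 (one_mem P) (map_one mk), hm1, one_mul])
    exact (QuotientGroup.eq_one_iff m).1 (congrArg Subtype.val (hbij.1 h))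

/-- A normal subgroup of index two in the kernel is normal. -/
theorem normal_of_invariant {Φ : Subgroup Y} [Φ.Normal] {Q : Subgroup Y} [Q.Normal]
    (W : Subgroup (Q.map (QuotientGroup.mk' Φ)))
    (h : ∀ g : Y, ∀ v ∈ W, ∀ w : Q.map (QuotientGroup.mk' Φ),
      (w : Y ⧸ Φ) = (g : Y ⧸ Φ) * v * (g : Y ⧸ Φ)⁻¹ → w ∈ W) :
    ((W.map (Q.map (QuotientGroup.mk' Φ)).subtype).comap (QuotientGroup.mk' Φ)).Normal := by
  refine ⟨fun m hm g => ?_⟩
  obtain ⟨v, hv, hvm⟩ := hm
  haveI : (Q.map (QuotientGroup.mk' Φ)).Normal :=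
    Subgroup.Normal.map inferInstance _ (QuotientGroup.mk'_surjective Φ)
  refine ⟨⟨(g : Y ⧸ Φ) * v * (g : Y ⧸ Φ)⁻¹, (inferInstance : (Q.map (QuotientGroup.mk' Φ)).Normal).conj_mem _ v.2 _⟩,
    h g v hv _ rfl, ?_⟩
  show (g : Y ⧸ Φ) * v * (g : Y ⧸ Φ)⁻¹ = QuotientGroup.mk' Φ (g * m * g⁻¹)
  rw [map_mul, map_mul, map_inv, ← hvm]
  rfl

/-- The first layer is one central involution with an elementary subgroup of index two in an abelian
kernel. -/
theorem stage_one (h4 : Cfsg.SectionalPRankLE 2 4 Y) (hL : Nat.card L = 168) (π : Y →* L)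
    (hπ : Function.Surjective π) (Q : Subgroup Y) [Q.Normal] (hker : π.ker = Q) (hQp : IsPGroup 2 Q)
    (Φ : Subgroup Y) [Φ.Normal] (hΦQ : Φ ≤ Q) (hsq : ∀ q ∈ Q, q * q ∈ Φ)
    (hgen : ∀ M : Subgroup Y, (∀ q ∈ Q, q * q ∈ M) → Φ ≤ M)
    (hfaith : ∃ g, ∃ q ∈ Q, cm g q ∉ Φ) (hΦ : Φ ≠ ⊥)
    (hmin : ∀ M : Subgroup Y, M.Normal → M ≤ Φ → M ≠ ⊥ → M = Φ) :
    ∃ (P : Subgroup Y) (z : Y), P.Normal ∧ P.relIndex π.ker = 2 ∧ z ∈ π.ker ∧ z ∉ P ∧ z * z ≠ 1 ∧
      Nat.card Φ = 2 ∧ Φ ≤ center Y ∧ (∀ m ∈ P, m * m = 1) ∧ Nat.card π.ker = 32 ∧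
      (∀ a ∈ π.ker, ∀ b ∈ π.ker, a * b = b * a) ∧ Octad π Φ P := by
  classical
  obtain ⟨hcQ, hΦ2⟩ := CfsgLib.PGroup.RadicalFive.minimal_layer hQp hΦQ hΦ hmin
  subst hker
  have hdich := layer_dichotomy h4 hL π hπ Φ hΦ hcQ hΦ2 hmin
  set mk := QuotientGroup.mk' Φ with hmk
  have hnot : ¬ ∀ q ∈ π.ker, q * q = 1 := fun h =>
    hΦ (eq_bot_iff.2 (hgen ⊥ fun q hq => mem_bot.2 (h q hq)))
  set V := π.ker.map mk with hVd
  haveI : V.Normal := Subgroup.Normal.map inferInstance _ (QuotientGroup.mk'_surjective Φ)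
  have h2V : ∀ v ∈ V, v * v = 1 := by
    rintro _ ⟨m, hm, rfl⟩
    rw [← map_mul]
    exact (QuotientGroup.eq_one_iff _).2 (hsq m hm)
  letI := commGroupTwo V h2V
  have hVc := comm_of_exp_two h2V
  let π' : Y ⧸ Φ →* L := QuotientGroup.lift Φ π hΦQ
  obtain ⟨ρ, happ, hinj⟩ := exists_act π' (fun g => by
    obtain ⟨x, hx⟩ := hπ g
    exact ⟨mk x, hx⟩) V (fun z hz q hq => hVc z hz q (by
      have hk : π'.ker = V := QuotientGroup.ker_lift _ _ _
      rwa [← hk]))
  have happ' : ∀ g (v : V), (ρ (π g) v : Y ⧸ Φ) = (g : Y ⧸ Φ) * v * (g : Y ⧸ Φ)⁻¹ := fun g v =>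
    happ (g : Y ⧸ Φ) v
  have hρ : Function.Injective ρ := hinj fun hle => by
    obtain ⟨g, m, hm, hgm⟩ := hfaith
    refine hgm ((QuotientGroup.eq_one_iff _).1 ?_)
    show mk (cm g m) = 1
    simp only [cm, map_mul, map_inv]
    rw [mem_center_iff.1 (hle (mem_map_of_mem mk hm)) (mk g), mul_inv_cancel_right, mul_inv_cancel]
  have hkerO : ∀ q, π q = 1 → ∀ m ∈ π.ker, cm q m ∈ Φ := fun q hq m hm =>
    CfsgLib.PGroup.RadicalFive.comm_mem_of_sq hsq (MonoidHom.mem_ker.2 hq) hm
  have hVle := CfsgLib.PGroup.RadicalFive.card_le_sixteen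
    (CfsgLib.Fusion.RankThree.sectional_quotient h4 Φ) hVc h2V
  have hQcard := card_of_map (P := π.ker) hΦQ
  rcases module_cases hL (fun v : V => Subtype.ext (h2V v v.2)) hVle ρ hρ with
    hV8 | ⟨hV16, ⟨W, hW8, hWinv, z₁, hz₁W, -⟩ | ⟨z₁, hz₁1, hz₁fix, htr⟩⟩
  · -- three dimensions
    exfalso
    have O : Octad π Φ π.ker := ⟨hΦQ, le_rfl, hsq, hV8, hkerO, hfaith⟩
    rcases hdich with ⟨hcen, -⟩ | ⟨hne, h8⟩
    · exact hnot (O.elementary hπ hL hcen hΦ2)
    rcases O.square_dichotomy hπ hL Φ le_rfl h8 hne hΦ2 hcQ hsq with h | ⟨hc, hΩ⟩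
    · exact hnot h
    obtain ⟨g, m, hm, hgm⟩ := hfaith
    refine false_of_four h4 hL π hπ
      (fun a b ha hb => hc a (MonoidHom.mem_ker.2 ha) b (MonoidHom.mem_ker.2 hb))
      (by rw [hQcard, h8, show Nat.card (π.ker.map (QuotientGroup.mk' Φ)) = 8 from hV8]) (fun m hm => ?_) Φ
      (fun z => ⟨fun hz => ⟨MonoidHom.mem_ker.1 (hΦQ hz), hΦ2 z hz⟩,
        fun hz => hΩ z (MonoidHom.mem_ker.2 hz.1) hz.2⟩) h8 ⟨g, m, MonoidHom.mem_ker.1 hm, hgm⟩
    rw [show m ^ 4 = m * m * (m * m) by simp [pow_succ, mul_assoc]]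
    exact hΦ2 _ (hsq m (MonoidHom.mem_ker.2 hm))
  · -- an invariant hyperplane
    set P := (W.map V.subtype).comap mk with hP
    haveI hPn : P.Normal := normal_of_invariant W fun g v hv w hw => by
      have : w = ρ (π g) v := Subtype.ext (hw.trans (happ' g v).symm)
      rw [this]; exact hWinv _ v hv
    have hΦP : Φ ≤ P := fun x hx => by
      show mk x ∈ W.map V.subtype
      rw [show mk x = 1 from (QuotientGroup.eq_one_iff x).2 hx]
      exact one_mem _
    have hPk : P ≤ π.ker := fun x hx => by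
      obtain ⟨q, hq, e⟩ := mem_map.1 (map_subtype_le W hx)
      have h : mk x ∈ π.ker.map mk := by rw [← e]; exact mem_map_of_mem mk hq
      exact (CfsgLib.PGroup.RadicalFive.mk_mem_map hΦQ).1 h
    have hPmap : P.map mk = W.map V.subtype := map_comap_eq_self_of_surjective (QuotientGroup.mk'_surjective Φ) _
    have hW8' : Nat.card (P.map mk) = 8 := by rw [hPmap, card_map_of_injective V.subtype_injective, hW8]
    have hidx : P.relIndex π.ker = 2 := by
      have h1 := relIndex_mul_relIndex ⊥ P π.ker bot_le hPk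
      rw [relIndex_bot_left, relIndex_bot_left, hQcard, card_of_map hΦP, hW8', hV16] at h1
      have hpos : 0 < Nat.card Φ := Nat.card_pos
      exact Nat.eq_of_mul_eq_mul_left (show 0 < Nat.card Φ * 8 by omega) (by rw [h1]; ring)
    obtain ⟨z, hz, hzv⟩ := mem_map.1 z₁.2
    have hzP : z ∉ P := fun h => hz₁W (by
      obtain ⟨v, hv, e⟩ := mem_map.1 (h : mk z ∈ W.map V.subtype)
      rwa [show v = z₁ from Subtype.ext (e.trans hzv)] at hv)
    have hcase : ∀ q ∈ π.ker, q ∈ P ∨ z⁻¹ * q ∈ P := by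
      intro q hq
      by_cases hqP : q ∈ P
      · exact Or.inl hqP
      refine Or.inr ?_
      have h := (mul_mem_iff_of_index_two (H := P.subgroupOf π.ker) hidx
        (a := ⟨z⁻¹, inv_mem hz⟩) (b := ⟨q, hq⟩)).2
      simp only [mem_subgroupOf, coe_mul] at h
      exact h (iff_of_false (fun e => hzP ((inv_mem_iff).1 e)) hqP)
    have O : Octad π Φ P := by
      refine ⟨hΦP, hPk, fun m hm => hsq m (hPk hm), hW8', fun q hq m hm => hkerO q hq m (hPk hm), ?_⟩
      by_contra hall
      push Not at hall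
      -- trivial action on the hyperplane makes the action trivial
      let φ : Y →* V := MonoidHom.mk' (fun g => ⟨mk (cm g z), mem_map_of_mem mk (cm_mem g hz)⟩) fun g g' => by
        have hg'P : cm g' z ∈ P := by
          refine (hcase _ (cm_mem g' hz)).resolve_right fun h => hzP ?_
          have h2 : z⁻¹ * (g' * z * g'⁻¹) ∈ P := (hcase _ ((inferInstance : π.ker.Normal).conj_mem z hz g')).resolve_left
            fun h => hzP (by
              have := hPn.conj_mem _ h g'⁻¹
              rwa [show g'⁻¹ * (g' * z * g'⁻¹) * g'⁻¹⁻¹ = z by group] at this)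
          have := mul_mem (inv_mem h) h2
          rwa [show (z⁻¹ * cm g' z)⁻¹ * (z⁻¹ * (g' * z * g'⁻¹)) = z by unfold cm; group] at this
        refine Subtype.ext ?_
        rw [coe_mul]
        show mk (cm (g * g') z) = mk (cm g z) * mk (cm g' z)
        have e : cm (g * g') z = cm g (cm g' z) * cm g' z * cm g z := by unfold cm; group
        rw [e, map_mul, map_mul, show mk (cm g (cm g' z)) = 1 from (QuotientGroup.eq_one_iff _).2 (hall g _ hg'P), one_mul]
        exact hVc _ (mem_map_of_mem mk (cm_mem g' hz)) _ (mem_map_of_mem mk (cm_mem g hz))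
      have hφ := hom_trivial hL π hπ φ (fun q hq => MonoidHom.mem_ker.2 (Subtype.ext
        ((QuotientGroup.eq_one_iff _).2 (hkerO q hq z hz)))) (by omega)
      obtain ⟨g, m, hm, hgm⟩ := hfaith
      have hzc : cm g z ∈ Φ := (QuotientGroup.eq_one_iff _).1 (congrArg Subtype.val (hφ g))
      rcases hcase m hm with h | h
      · exact hgm (hall g m h)
      · refine hgm ?_
        rw [show cm g m = cm g z * (z * cm g (z⁻¹ * m) * z⁻¹) by unfold cm; group]
        exact mul_mem hzc ((inferInstance : Φ.Normal).conj_mem _ (hall g _ h) z)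
    rcases hdich with ⟨hcen, h2⟩ | ⟨hne, h8⟩
    · have hP2 := O.elementary hπ hL hcen hΦ2
      have hPc := comm_of_exp_two hP2
      -- the outer element centralises
      have hβ : ∀ m ∈ P, cm z m = 1 := by
        letI := commGroupTwo _ O.exp_two
        obtain ⟨ρW, hρW, happW⟩ := O.exists_module hπ
        have h2W : ∀ w : P.map mk, w * w = 1 := fun w => Subtype.ext (O.exp_two w w.2)
        let el : ∀ m, m ∈ P → P.map mk := fun m hm => ⟨mk m, mem_map_of_mem _ hm⟩
        have hcmk : ∀ m ∈ P, ∀ k ∈ Φ, cm z (m * k) = cm z m := fun m hm k hk => by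
          unfold cm
          rw [show z * (m * k) * z⁻¹ * (m * k)⁻¹ = z * m * (k * z⁻¹ * k⁻¹) * m⁻¹ by group,
            hcQ k hk _ (inv_mem hz), mul_inv_cancel_right]
        have hall : ∀ a (ha : a ∈ P) b (hb : b ∈ P), el a ha ≠ 1 → el b hb ≠ 1 → cm z a = cm z b := by
          intro a ha b hb n1 n2
          obtain ⟨k, hk⟩ := exists_map_point hL h2W O.card ρW hρW n1 n2
          obtain ⟨g, rfl⟩ := hπ k
          have e1 : b⁻¹ * (g * a * g⁻¹) ∈ Φ := QuotientGroup.eq.1
            (((happW g a ha).symm.trans (congrArg Subtype.val hk)).symm : mk b = mk (g * a * g⁻¹))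
          have hgz : z⁻¹ * (g * z * g⁻¹) ∈ P :=
            (hcase _ ((inferInstance : π.ker.Normal).conj_mem z hz g)).resolve_left fun h => hzP (by
              have := hPn.conj_mem _ h g⁻¹
              rwa [show g⁻¹ * (g * z * g⁻¹) * g⁻¹⁻¹ = z by group] at this)
          set p' := z⁻¹ * (g * z * g⁻¹) with hp'
          have hga := hPn.conj_mem a ha g
          calc cm z a = g * cm z a * g⁻¹ := by
                rw [mem_center_iff.1 (hcen (hkerO z (MonoidHom.mem_ker.1 hz) a (hPk ha))) g, mul_inv_cancel_right]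
            _ = z * (p' * (g * a * g⁻¹) * p'⁻¹) * z⁻¹ * (g * a * g⁻¹)⁻¹ := by rw [hp']; unfold cm; group
            _ = cm z (g * a * g⁻¹) := by rw [hPc p' hgz _ hga, mul_inv_cancel_right]; rfl
            _ = cm z (b * (b⁻¹ * (g * a * g⁻¹))) := by rw [mul_inv_cancel_left]
            _ = cm z b := hcmk b hb _ e1
        obtain ⟨c₁, q₁, p₁, hc1, hq1, hqc, -⟩ := exists_indep h2W O.card
        obtain ⟨a₀, ha₀, ha₀'⟩ := mem_map.1 c₁.2
        obtain ⟨b₀, hb₀, hb₀'⟩ := mem_map.1 q₁.2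
        have ea : el a₀ ha₀ = c₁ := Subtype.ext ha₀'
        have eb : el b₀ hb₀ = q₁ := Subtype.ext hb₀'
        have hab : el (a₀ * b₀) (mul_mem ha₀ hb₀) ≠ 1 := fun e => hqc (by
          have e' : c₁ * q₁ = 1 := by rw [← ea, ← eb, ← e]; exact Subtype.ext (map_mul _ _ _).symm
          exact (eq_inv_of_mul_eq_one_right e').trans (inv_eq_of_mul_eq_one_right (h2W _)))
        have hκ : cm z a₀ = 1 := by
          have h1 := hall _ (mul_mem ha₀ hb₀) _ ha₀ hab (by rw [ea]; exact hc1)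
          have h3 : cm z (a₀ * b₀) = cm z a₀ * (a₀ * cm z b₀ * a₀⁻¹) := by unfold cm; group
          have hcb := hkerO z (MonoidHom.mem_ker.1 hz) b₀ (hPk hb₀)
          rw [h1, mem_center_iff.1 (hcen hcb) a₀, mul_inv_cancel_right,
            ← hall _ ha₀ _ hb₀ (by rw [ea]; exact hc1) (by rw [eb]; exact hq1)] at h3
          exact mul_eq_left.1 h3.symm
        intro m hm
        by_cases n1 : el m hm = 1
        · have hk := (QuotientGroup.eq_one_iff m).1 (congrArg Subtype.val n1)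
          unfold cm; rw [← hcQ m hk z hz, mul_inv_cancel_right, mul_inv_cancel]
        · rw [hall m hm a₀ ha₀ n1 (by rw [ea]; exact hc1), hκ]
      have hzc : ∀ m ∈ P, z * m = m * z := fun m hm => mul_inv_eq_iff_eq_mul.1 (mul_inv_eq_one.1 (hβ m hm))
      have hab : ∀ a ∈ π.ker, ∀ b ∈ π.ker, a * b = b * a := by
        intro a ha b hb
        rcases hcase a ha with h1 | h1 <;> rcases hcase b hb with h3 | h3
        · exact hPc a h1 b h3
        · calc a * b = a * z * (z⁻¹ * b) := by group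
            _ = z * (a * (z⁻¹ * b)) := by rw [← hzc a h1, mul_assoc]
            _ = b * a := by rw [hPc a h1 _ h3]; group
        · calc a * b = z * ((z⁻¹ * a) * b) := by group
            _ = z * b * (z⁻¹ * a) := by rw [hPc _ h1 b h3, mul_assoc]
            _ = b * a := by rw [hzc b h3]; group
        · calc a * b = z * ((z⁻¹ * a) * z) * (z⁻¹ * b) := by group
            _ = z * z * ((z⁻¹ * a) * (z⁻¹ * b)) := by rw [← hzc _ h1]; group
            _ = z * (z * (z⁻¹ * b)) * (z⁻¹ * a) := by rw [hPc _ h1 _ h3]; group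
            _ = b * a := by rw [hzc _ h3]; group
      refine ⟨P, z, hPn, hidx, hz, hzP, fun e => hnot fun q hq => ?_, h2, hcen, hP2,
        by rw [hQcard, h2, hV16], hab, O⟩
      rcases hcase q hq with h | h
      · exact hP2 q h
      · rw [show q = z * (z⁻¹ * q) by group,
          (show Commute (z⁻¹ * q) z from (hzc _ h).symm).mul_mul_mul_comm, e, hP2 _ h, one_mul]
    exfalso
    rcases O.square_dichotomy hπ hL Φ le_rfl h8 hne hΦ2 hcQ (fun m hm => hsq m (hPk hm)) with h | ⟨hc, hΩ⟩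
    · have := CfsgLib.PGroup.RadicalFive.card_le_sixteen h4 (comm_of_exp_two h) h
      rw [card_of_map hΦP, h8, hW8'] at this
      omega
    exact false_of_hyperplane h4 hL π hπ P hPk hidx hc (by rw [card_of_map hΦP, h8, hW8']) Φ hΦP h8 hΦ2
      hcQ hsq hΩ hne
  · -- a fixed point and fourteen others
    exfalso
    haveI : Fintype V := Fintype.ofFinite V
    obtain ⟨z, hz, hzv⟩ := mem_map.1 z₁.2
    have hzfix : ∀ g, cm g z ∈ Φ := fun g => (QuotientGroup.eq_one_iff _).1 (by
      show mk (cm g z) = 1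
      simp only [cm, map_mul, map_inv, mul_inv_eq_one]
      have h := happ' g z₁
      rw [hz₁fix] at h
      rw [hzv]
      exact h.symm)
    let el : ∀ q, q ∈ π.ker → V := fun q hq => ⟨mk q, mem_map_of_mem _ hq⟩
    have htr' : ∀ a (ha : a ∈ π.ker) b (hb : b ∈ π.ker), el a ha ≠ 1 → el a ha ≠ z₁ → el b hb ≠ 1 →
        el b hb ≠ z₁ → ∃ g, b⁻¹ * (g * a * g⁻¹) ∈ Φ := by
      intro a ha b hb n1 n2 n3 n4
      obtain ⟨k, hk⟩ := htr _ _ n1 n2 n3 n4
      obtain ⟨g, rfl⟩ := hπ k
      refine ⟨g, QuotientGroup.eq.1 ?_⟩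
      have h := happ' g (el a ha)
      rw [hk] at h
      exact h
    have hsqk : ∀ a ∈ π.ker, ∀ k ∈ Φ, a * k * (a * k) = a * a := fun a ha k hk => by
      rw [(show Commute k a from hcQ k hk a ha).mul_mul_mul_comm, hΦ2 k hk, mul_one]
    have hzz : cm z z = 1 := by unfold cm; group
    have hzg : ∀ g, g * (z * z) * g⁻¹ = z * z := fun g => by
      rw [show g * (z * z) * g⁻¹ = (g * z * g⁻¹) * (g * z * g⁻¹) by group,
        show g * z * g⁻¹ = cm g z * z by unfold cm; group,
        (show Commute z (cm g z) from (hcQ _ (hzfix g) z hz).symm).mul_mul_mul_comm,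
        hΦ2 _ (hzfix g), one_mul]
    have hcl : ∀ a ∈ π.ker, cm a z ∈ Φ := fun a ha => hkerO a (MonoidHom.mem_ker.1 ha) z hz
    have hazsq : ∀ a ∈ π.ker, a * z * (a * z) = cm z a * (a * a) * (z * z) := by
      intro a ha
      have hk := hkerO z (MonoidHom.mem_ker.1 hz) a ha
      calc a * z * (a * z) = a * cm z a * a * (z * z) := by unfold cm; group
        _ = cm z a * (a * a) * (z * z) := by rw [← hcQ _ hk a ha]; group
    rcases hdich with ⟨hcen, -⟩ | ⟨hne, h8⟩
    · -- central layer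
      have hzΦ : ∀ k ∈ Φ, ∀ g, g * k * g⁻¹ = k := fun k hk g => by
        rw [mem_center_iff.1 (hcen hk) g, mul_inv_cancel_right]
      have hall : ∀ a (ha : a ∈ π.ker) b (hb : b ∈ π.ker), el a ha ≠ 1 → el a ha ≠ z₁ → el b hb ≠ 1 →
          el b hb ≠ z₁ → a * a = b * b := by
        intro a ha b hb n1 n2 n3 n4
        obtain ⟨g, hg⟩ := htr' a ha b hb n1 n2 n3 n4
        calc a * a = g * (a * a) * g⁻¹ := (hzΦ _ (hsq a ha) g).symm
          _ = b * (b⁻¹ * (g * a * g⁻¹)) * (b * (b⁻¹ * (g * a * g⁻¹))) := by group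
          _ = b * b := hsqk b hb _ hg
      -- three independent elements modulo the fixed point
      have h16' : Fintype.card V = 16 := by rw [← Nat.card_eq_fintype_card]; exact hV16
      have pick : ∀ s : Finset V, s.card < 16 → ∃ x, x ∉ s := fun s hs => by
        by_contra h
        push Not at h
        rw [Finset.eq_univ_of_forall h, Finset.card_univ] at hs
        omega
      have h2v : ∀ v : V, v * v = 1 := fun v => Subtype.ext (h2V v v.2)
      have hcc : ∀ a b : V, a * (a * b) = b := fun a b => by rw [← mul_assoc, h2v, one_mul]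
      have hmo : ∀ a b c : V, a * b = c → b = a * c := fun a b c e => by rw [← e, hcc]
      obtain ⟨va, hva⟩ := pick {1, z₁} (by
        have := Finset.card_le_two (a := (1 : V)) (b := z₁); omega)
      simp only [Finset.mem_insert, Finset.mem_singleton, not_or] at hva
      obtain ⟨vb, hvb⟩ := pick {1, z₁, va, va * z₁} (by
        have := Finset.card_le_four (a := (1 : V)) (b := z₁) (c := va) (d := va * z₁); omega)
      simp only [Finset.mem_insert, Finset.mem_singleton, not_or] at hvb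
      obtain ⟨vd, hvd⟩ := pick ({1, z₁, va, va * z₁} ∪ {vb, vb * z₁, va * vb, va * vb * z₁}) (by
        have h1 := Finset.card_le_four (a := (1 : V)) (b := z₁) (c := va) (d := va * z₁)
        have h2 := Finset.card_le_four (a := vb) (b := vb * z₁) (c := va * vb) (d := va * vb * z₁)
        have h3 := Finset.card_union_le ({1, z₁, va, va * z₁} : Finset V) {vb, vb * z₁, va * vb, va * vb * z₁}
        omega)
      simp only [Finset.mem_union, Finset.mem_insert, Finset.mem_singleton, not_or] at hvd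
      obtain ⟨a, ha, hav⟩ := mem_map.1 va.2
      obtain ⟨b, hb, hbv⟩ := mem_map.1 vb.2
      obtain ⟨d, hd, hdv⟩ := mem_map.1 vd.2
      have ea : el a ha = va := Subtype.ext hav
      have eb : el b hb = vb := Subtype.ext hbv
      have ed : el d hd = vd := Subtype.ext hdv
      have emul : ∀ p (hp : p ∈ π.ker) q (hq : q ∈ π.ker), el (p * q) (π.ker.mul_mem hp hq) = el p hp * el q hq :=
        fun p hp q hq => Subtype.ext (map_mul _ _ _)
      obtain ⟨⟨a1, az⟩, ⟨b1, bz, ba, baz⟩, ⟨d1, dz, da, daz⟩, db, dbz, dab, dabz⟩ :=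
        And.intro hva (And.intro hvb hvd)
      set κ := a * a with hκ
      have hκ2 : κ * κ = 1 := hΦ2 _ (hsq a ha)
      have hκc : ∀ g, g * κ = κ * g := fun g => mem_center_iff.1 (hcen (hsq a ha)) g
      have hgood : ∀ p (hp : p ∈ π.ker), el p hp ≠ 1 → el p hp ≠ z₁ → p * p = κ :=
        fun p hp n1 n2 => hall p hp a ha n1 n2 (by rw [ea]; exact a1) (by rw [ea]; exact az)
      have hcomm : ∀ p (hp : p ∈ π.ker) q (hq : q ∈ π.ker), el p hp ≠ 1 → el p hp ≠ z₁ → el q hq ≠ 1 →
          el q hq ≠ z₁ → el (p * q) (π.ker.mul_mem hp hq) ≠ 1 → el (p * q) (π.ker.mul_mem hp hq) ≠ z₁ → cm p q = κ := by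
        intro p hp q hq n1 n2 n3 n4 n5 n6
        have e1 : cm p q * (q * (p * p) * q) = p * q * (p * q) := by unfold cm; group
        rw [hgood p hp n1 n2, hgood (p * q) (π.ker.mul_mem hp hq) n5 n6,
          show q * κ * q = κ * (q * q) by rw [hκc q, mul_assoc], hgood q hq n3 n4, hκ2, mul_one] at e1
        exact e1
      have hκ1 : κ = 1 := by
        have h1 : cm a b = κ := hcomm a ha b hb (by rw [ea]; exact a1) (by rw [ea]; exact az)
          (by rw [eb]; exact b1) (by rw [eb]; exact bz)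
          (by rw [emul a ha b hb, ea, eb]; exact fun e => ba (by rw [hmo _ _ _ e, mul_one]))
          (by rw [emul a ha b hb, ea, eb]; exact fun e => baz (hmo _ _ _ e))
        have h2 : cm a d = κ := hcomm a ha d hd (by rw [ea]; exact a1) (by rw [ea]; exact az)
          (by rw [ed]; exact d1) (by rw [ed]; exact dz)
          (by rw [emul a ha d hd, ea, ed]; exact fun e => da (by rw [hmo _ _ _ e, mul_one]))
          (by rw [emul a ha d hd, ea, ed]; exact fun e => daz (hmo _ _ _ e))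
        have h3 : cm a (b * d) = κ := hcomm a ha (b * d) (mul_mem hb hd) (by rw [ea]; exact a1)
          (by rw [ea]; exact az)
          (by rw [emul b hb d hd, eb, ed]; exact fun e => db (by rw [hmo _ _ _ e, mul_one]))
          (by rw [emul b hb d hd, eb, ed]; exact fun e => dbz (hmo _ _ _ e))
          (by
            rw [emul a ha (b * d) (mul_mem hb hd), emul b hb d hd, ea, eb, ed, ← mul_assoc]
            exact fun e => dab (by rw [hmo _ _ _ e, mul_one]))
          (by
            rw [emul a ha (b * d) (mul_mem hb hd), emul b hb d hd, ea, eb, ed, ← mul_assoc]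
            exact fun e => dabz (hmo _ _ _ e))
        have h4' : cm a (b * d) = cm a b * (b * cm a d * b⁻¹) := by unfold cm; group
        rw [h1, h2, h3, hzΦ κ (hsq a ha) b, hκ2] at h4'
        exact h4'
      have hz0 : ∀ p (hp : p ∈ π.ker), el p hp ≠ 1 → el p hp ≠ z₁ → cm z p = (z * z)⁻¹ := by
        intro p hp n1 n2
        have hpz := mul_mem hp hz
        have hez : el z hz = z₁ := Subtype.ext hzv
        have e1 : el (p * z) hpz ≠ 1 := by
          rw [emul p hp z hz, hez]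
          exact fun e => n2 ((eq_inv_of_mul_eq_one_left e).trans (inv_eq_of_mul_eq_one_right (h2v _)))
        have e2 : el (p * z) hpz ≠ z₁ := by
          rw [emul p hp z hz, hez]
          exact fun e => n1 (mul_eq_right.1 e)
        have := hgood _ hpz e1 e2
        rw [hazsq p hp, hgood p hp n1 n2, hκ1, mul_one] at this
        exact eq_inv_of_mul_eq_one_left this
      have hzsq : z * z = 1 := by
        have h1 := hz0 a ha (by rw [ea]; exact a1) (by rw [ea]; exact az)
        have h2 := hz0 b hb (by rw [eb]; exact b1) (by rw [eb]; exact bz)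
        have h3 := hz0 (a * b) (mul_mem ha hb)
          (by rw [emul a ha b hb, ea, eb]; exact fun e => ba (by rw [hmo _ _ _ e, mul_one]))
          (by rw [emul a ha b hb, ea, eb]; exact fun e => baz (hmo _ _ _ e))
        have h4' : cm z (a * b) = cm z a * (a * cm z b * a⁻¹) := by unfold cm; group
        rw [h1, h2, h3, hzΦ _ (inv_mem (hsq z hz)) a] at h4'
        exact inv_eq_one.1 (mul_eq_left.1 h4'.symm)
      refine hnot fun q hq => ?_
      by_cases n1 : el q hq = 1
      · exact hΦ2 q ((QuotientGroup.eq_one_iff q).1 (congrArg Subtype.val n1))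
      by_cases n2 : el q hq = z₁
      · have hk : z⁻¹ * q ∈ Φ := QuotientGroup.eq.1 (hzv.trans (congrArg Subtype.val n2).symm)
        rw [show q = z * (z⁻¹ * q) by group, hsqk z hz _ hk, hzsq]
      · rw [hgood q hq n1 n2, hκ1]
    -- faithful layer
    letI := commGroupTwo Φ hΦ2
    obtain ⟨ρΦ, happΦ, hinjΦ⟩ := exists_act π hπ Φ hcQ
    have hρΦ := hinjΦ hne
    have h2Φ : ∀ v : Φ, v * v = 1 := fun v => Subtype.ext (hΦ2 v v.2)
    have hnofix : ∀ k ∈ Φ, (∀ g, g * k * g⁻¹ = k) → k = 1 := by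
      intro k hk hfix
      by_contra hk1
      have hS := card_stabPt hL h2Φ h8 ρΦ hρΦ (a := ⟨k, hk⟩) fun e => hk1 (congrArg Subtype.val e)
      have htop : stabPt ρΦ ⟨k, hk⟩ = ⊤ := eq_top_iff.2 fun l _ => by
        obtain ⟨g, rfl⟩ := hπ l
        exact Subtype.ext ((happΦ g _).trans (hfix g))
      rw [htop, card_top, hL] at hS
      omega
    have hzsq : z * z = 1 := hnofix _ (hsq z hz) hzg
    have hez : el z hz = z₁ := Subtype.ext hzv
    have h2v : ∀ v : V, v * v = 1 := fun v => Subtype.ext (h2V v v.2)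
    have hδ : ∀ a (ha : a ∈ π.ker), el a ha ≠ 1 → el a ha ≠ z₁ → cm z a = 1 := by
      intro a ha n1 n2
      by_contra hd
      have haz := mul_mem ha hz
      have e1 : el (a * z) haz ≠ 1 := fun e => n2 (by
        have h : el a ha * z₁ = 1 := by rw [← hez, ← e]; exact Subtype.ext (map_mul _ _ _).symm
        exact (eq_inv_of_mul_eq_one_left h).trans (inv_eq_of_mul_eq_one_right (h2v _)))
      have e2 : el (a * z) haz ≠ z₁ := fun e => n1 (by
        have h : el a ha * z₁ = z₁ := by rw [← hez]; exact Eq.trans (Subtype.ext (map_mul _ _ _).symm) (e.trans hez.symm)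
        exact mul_eq_right.1 h)
      have hsqaz := hazsq a ha
      rw [hzsq, mul_one] at hsqaz
      have hmove : ∀ b (hb : b ∈ π.ker), el b hb ≠ 1 → el b hb ≠ z₁ → a * a = 1 → b * b = 1 := by
        intro b hb m1 m2 e
        obtain ⟨g, hg⟩ := htr' a ha b hb n1 n2 m1 m2
        rw [← hsqk b hb _ hg, mul_inv_cancel_left,
          show g * a * g⁻¹ * (g * a * g⁻¹) = g * (a * a) * g⁻¹ by group, e, mul_one, mul_inv_cancel]
      have ha1 : a * a ≠ 1 := fun e => hd (by
        have h := hmove _ haz e1 e2 e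
        rwa [hsqaz, e, mul_one] at h)
      -- the stabiliser of `a` fixes both values
      set S := stabPt ρ (el a ha) with hS
      have hS4 : 4 < Nat.card S := by
        have hst := card_stabPt_mul ρ (el a ha)
        have hr : Nat.card (Set.range fun l => ρ l (el a ha)) ≤ 14 := by
          have hsub : Set.range (fun l => ρ l (el a ha)) ⊆ ({1, z₁} : Set V)ᶜ := by
            rintro _ ⟨l, rfl⟩ (e | e)
            · exact n1 ((map_eq_one_iff _ (ρ l).injective).1 e)
            · exact n2 ((ρ l).injective ((e : ρ l (el a ha) = z₁).trans (hz₁fix l).symm))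
          have := Set.ncard_le_ncard hsub (Set.toFinite _)
          rw [Set.ncard_compl, Set.ncard_pair (Ne.symm hz₁1), hV16, ← Nat.card_coe_set_eq] at this
          exact this
        rw [hL, ← hS] at hst
        have := Nat.mul_le_mul_right (Nat.card S) hr
        omega
      have heq := eq_of_stab_fixed hL h2Φ h8 ρΦ hρΦ
        (x := ⟨a * a, hsq a ha⟩) (y := ⟨cm z a, hkerO z (MonoidHom.mem_ker.1 hz) a ha⟩)
        (a := ⟨a * a, hsq a ha⟩) (fun e => ha1 (congrArg Subtype.val e)) (fun e => ha1 (congrArg Subtype.val e))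
        (fun e => hd (congrArg Subtype.val e)) hS4 fun l hl => by
          obtain ⟨g, rfl⟩ := hπ l
          have hga : a⁻¹ * (g * a * g⁻¹) ∈ Φ := by
            refine QuotientGroup.eq.1 ?_
            have h := happ' g (el a ha)
            rw [show ρ (π g) (el a ha) = el a ha from hl] at h
            exact h
          set k := a⁻¹ * (g * a * g⁻¹) with hk
          refine ⟨Subtype.ext ((happΦ g _).trans ?_), Subtype.ext ((happΦ g _).trans ?_)⟩
          · show g * (a * a) * g⁻¹ = a * a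
            calc g * (a * a) * g⁻¹ = a * k * (a * k) := by rw [hk]; group
              _ = a * a := hsqk a ha k hga
          · show g * cm z a * g⁻¹ = cm z a
            set j := z⁻¹ * (g * z * g⁻¹) with hj
            have hjΦ : j ∈ Φ := by
              have := (inferInstance : Φ.Normal).conj_mem _ (hzfix g) z⁻¹
              rwa [show z⁻¹ * cm g z * z⁻¹⁻¹ = j by rw [hj]; unfold cm; group] at this
            have e3 : g * cm z a * g⁻¹ = z * (j * (a * k) * j⁻¹) * z⁻¹ * (a * k)⁻¹ := by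
              rw [hj, hk]; unfold cm; group
            rw [e3, hcQ j hjΦ _ (mul_mem ha (hΦQ hga)), mul_inv_cancel_right,
              show z * (a * k) * z⁻¹ * (a * k)⁻¹ = z * a * (k * z⁻¹ * k⁻¹) * a⁻¹ by group,
              hcQ k hga _ (inv_mem hz), mul_inv_cancel_right]
            rfl
      have heq' : a * a = cm z a := congrArg Subtype.val heq
      have h1 : a * z * (a * z) = 1 := by rw [hsqaz, heq', hΦ2 _ (hkerO z (MonoidHom.mem_ker.1 hz) a ha)]
      refine ha1 ?_
      obtain ⟨g, hg⟩ := htr' (a * z) haz a ha e1 e2 n1 n2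
      rw [← hsqk a ha _ hg, mul_inv_cancel_left,
        show g * (a * z) * g⁻¹ * (g * (a * z) * g⁻¹) = g * (a * z * (a * z)) * g⁻¹ by group, h1, mul_one,
        mul_inv_cancel]
    have hzc : ∀ q ∈ π.ker, z * q = q * z := by
      intro q hq
      by_cases n1 : el q hq = 1
      · exact (hcQ q ((QuotientGroup.eq_one_iff q).1 (congrArg Subtype.val n1)) z hz).symm
      by_cases n2 : el q hq = z₁
      · have hk : z⁻¹ * q ∈ Φ := QuotientGroup.eq.1 (hzv.trans (congrArg Subtype.val n2).symm)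
        calc z * q = z * (z * (z⁻¹ * q)) := by group
          _ = z * ((z⁻¹ * q) * z) := by rw [hcQ _ hk z hz]
          _ = q * z := by group
      · exact mul_inv_eq_iff_eq_mul.1 (mul_inv_eq_one.1 (hδ q hq n1 n2))
    -- the layer `⟨z⟩Φ`
    have hzn : ∀ g, g * z * g⁻¹ ∈ zpowers z ⊔ Φ := fun g => by
      rw [show g * z * g⁻¹ = cm g z * z by unfold cm; group]
      exact mul_mem (mem_sup_right (hzfix g)) (mem_sup_left (mem_zpowers z))
    set K := zpowers z ⊔ Φ with hK
    haveI : K.Normal := ⟨fun x hx g => by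
      obtain ⟨p, hp, k, hk, rfl⟩ := mem_sup_of_normal_right.1 hx
      obtain ⟨n, rfl⟩ := mem_zpowers_iff.1 hp
      rw [show g * (z ^ n * k) * g⁻¹ = (g * z ^ n * g⁻¹) * (g * k * g⁻¹) by group, ← conj_zpow]
      exact mul_mem (zpow_mem (hzn g) n) (mem_sup_right ((inferInstance : Φ.Normal).conj_mem k hk g))⟩
    have hΦK : Φ ≤ K := le_sup_right
    have hKk : K ≤ π.ker := sup_le (zpowers_le.2 hz) hΦQ
    have hKel : ∀ x ∈ K, x ∈ Φ ∨ z⁻¹ * x ∈ Φ := by
      intro x hx
      obtain ⟨p, hp, k, hk, rfl⟩ := mem_sup_of_normal_right.1 hx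
      rcases CfsgLib.PGroup.RadicalFive.mem_zpowers_two hzsq hp with e | e <;> rw [e]
      · exact Or.inl (by rwa [one_mul])
      · exact Or.inr (by rwa [inv_mul_cancel_left])
    have hK2 : ∀ x ∈ K, x * x = 1 := fun x hx => by
      rcases hKel x hx with h | h
      · exact hΦ2 x h
      · rw [show x = z * (z⁻¹ * x) by group, hsqk z hz _ h, hzsq]
    have hKc : ∀ x ∈ K, ∀ q ∈ π.ker, x * q = q * x := fun x hx q hq => by
      rcases hKel x hx with h | h
      · exact hcQ x h q hq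
      · calc x * q = z * ((z⁻¹ * x) * q) := by group
          _ = z * q * (z⁻¹ * x) := by rw [hcQ _ h q hq, mul_assoc]
          _ = q * x := by rw [hzc q hq]; group
    have hzΦ : z ∉ Φ := fun h => hz₁1 (Subtype.ext (by
      rw [← hzv]; exact (QuotientGroup.eq_one_iff z).2 h))
    have hK16 : Nat.card K = 16 := by
      have hmapK : Nat.card (K.map mk) = 2 := by
        have e : K.map mk = zpowers (mk z) := by
          rw [hK, Subgroup.map_sup, MonoidHom.map_zpowers, (map_eq_bot_iff Φ).2 (QuotientGroup.ker_mk' Φ).ge,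
            sup_bot_eq]
        rw [e, Nat.card_zpowers]
        exact orderOf_eq_prime (hp := ⟨Nat.prime_two⟩) (by rw [pow_two, ← map_mul, hzsq, map_one])
          fun e => hzΦ ((QuotientGroup.eq_one_iff z).1 e)
      rw [card_of_map hΦK, h8, hmapK]
    have O : Octad π K π.ker := by
      refine ⟨hKk, le_rfl, fun m hm => hΦK (hsq m hm), ?_, fun q hq m hm => hΦK (hkerO q hq m hm), ?_⟩
      · have h1 := card_of_map (P := π.ker) hKk
        rw [hQcard, h8, hV16, hK16] at h1
        omega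
      · by_contra hall
        push Not at hall
        obtain ⟨va, hva1, hvaz⟩ : ∃ va : V, va ≠ 1 ∧ va ≠ z₁ := by
          by_contra h
          push Not at h
          have hs : (Finset.univ : Finset V) ⊆ {1, z₁} := fun x _ => by
            rcases eq_or_ne x 1 with e | e
            · simp [e]
            · simp [h x e]
          have := (Finset.card_le_card hs).trans Finset.card_le_two
          rw [Finset.card_univ, ← Nat.card_eq_fintype_card, hV16] at this
          omega
        obtain ⟨a, ha, hav⟩ := mem_map.1 va.2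
        have ea : el a ha = va := Subtype.ext hav
        -- every conjugate of `a` is in two cosets
        have hsub : Set.range (fun l => ρ l va) ⊆ ({va, z₁ * va} : Set V) := by
          rintro _ ⟨l, rfl⟩
          obtain ⟨g, rfl⟩ := hπ l
          have h1 := hKel _ (hall g a ha)
          have h2 : ρ (π g) va = el (cm g a) (cm_mem g ha) * va := by
            refine Subtype.ext ((happ' g va).trans ?_)
            rw [coe_mul, ← hav]
            show mk g * mk a * (mk g)⁻¹ = mk (cm g a) * mk a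
            rw [← map_inv, ← map_mul, ← map_mul, ← map_mul]
            congr 1
            unfold cm; group
          rcases h1 with h | h
          · left
            show ρ (π g) va = va
            rw [h2, show el (cm g a) (cm_mem g ha) = 1 from Subtype.ext ((QuotientGroup.eq_one_iff _).2 h), one_mul]
          · right
            show ρ (π g) va = z₁ * va
            rw [h2, show el (cm g a) (cm_mem g ha) = z₁ from Subtype.ext
              ((QuotientGroup.eq.2 h).symm.trans hzv)]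
        have hcard := Set.ncard_le_ncard hsub (Set.toFinite _)
        have h14 : ({1, z₁} : Set V)ᶜ ⊆ Set.range (fun l => ρ l va) := by
          intro b hb
          simp only [Set.mem_compl_iff, Set.mem_insert_iff, Set.mem_singleton_iff, not_or] at hb
          exact htr va b hva1 hvaz hb.1 hb.2
        have h14' := Set.ncard_le_ncard h14 (Set.toFinite _)
        rw [Set.ncard_compl, Set.ncard_pair (Ne.symm hz₁1), hV16] at h14'
        have := Set.ncard_insert_le va ({z₁ * va} : Set V)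
        rw [Set.ncard_singleton] at this
        omega
    rcases O.square_dichotomy hπ hL Φ hΦK h8 hne hK2 hKc hsq with h | ⟨hc, -⟩
    · exact hnot h
    exact false_of_abelian h4 hL π hπ
      (fun a b ha hb => hc a (MonoidHom.mem_ker.2 ha) b (MonoidHom.mem_ker.2 hb))
      (by rw [hQcard, h8, hV16]) Φ hΦQ h8 hΦ2 hsq hne

end CfsgLib.PGroup.RadicalSeven
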