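import Cfsg.Agent.Lib.PGroup.RadicalSeven.Second

/-!
# The 2-radical under the simple group of order 168
-/

set_option autoImplicit false
set_option linter.unusedSectionVars false
set_option linter.style.haveILetI false

open Subgroup

namespace CfsgLib.PGroup.RadicalSeven

universe u v

variable {X : Type u} [Group X] [Finite X] {L : Type v} [Group L] [Finite L] [IsSimpleGroup L]

/-- Powers of an element of bounded order. -/
def powHom {G : Type*} [Group G] (n : ℕ) [NeZero n] (x : G) (hx : x ^ n = 1) :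
    Multiplicative (ZMod n) →* G where
  toFun k := x ^ k.toAdd.val
  map_one' := by rw [toAdd_one, ZMod.val_zero, pow_zero]
  map_mul' a b := by rw [toAdd_mul, ZMod.val_add, ← pow_add, ← pow_eq_pow_mod _ hx]

theorem powHom_apply {G : Type*} [Group G] (n : ℕ) [NeZero n] (x : G) (hx : x ^ n = 1)
    (k : Multiplicative (ZMod n)) : powHom n x hx k = x ^ k.toAdd.val := rfl

/-- The structure in the indecomposable first layer. -/
theorem split_iso (hL : Nat.card L = 168) (π : X →* L) (hπ : Function.Surjective π) (P Φ : Subgroup X)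
    [P.Normal] [Φ.Normal] {z : X} (hz : π z = 1) (hzP : z ∉ P) (hzz : z * z ∈ Φ) (hzz1 : z * z ≠ 1)
    (hΦ2 : ∀ x ∈ Φ, x * x = 1) (hP2 : ∀ m ∈ P, m * m = 1) (h32 : Nat.card π.ker = 32)
    (hab : ∀ a ∈ π.ker, ∀ b ∈ π.ker, a * b = b * a) (hsq : ∀ m ∈ π.ker, m * m ∈ Φ) (O : Octad π Φ P) :
    Nonempty (π.ker ≃* Multiplicative (ZMod 4) × (Fin 3 → Multiplicative (ZMod 2))) := by
  obtain ⟨c, r, y, st⟩ := exists_std hL π hπ (fun m hm => by
    rw [show (16 : ℕ) = 2 * 2 * 4 from rfl, pow_mul, pow_mul, pow_two m, pow_two,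
      hΦ2 _ (hsq m (MonoidHom.mem_ker.2 hm)), one_pow]) Φ P O.le O.sq O.card O.ker O.ne
  have hc : c ∈ π.ker := O.leK st.cP
  letI : CommGroup π.ker := { (inferInstance : Group π.ker) with
    mul_comm := fun a b => Subtype.ext (hab a a.2 b b.2) }
  have hqP : cm r c ∈ P := cm_mem r st.cP
  have hpP : cm r (cm r c) ∈ P := cm_mem r hqP
  let u : Fin 3 → π.ker := ![⟨c, hc⟩, ⟨cm r c, O.leK hqP⟩, ⟨cm r (cm r c), O.leK hpP⟩]
  have hu : ∀ i, u i ^ 2 = 1 := by
    intro i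
    fin_cases i <;> refine Subtype.ext ?_ <;> rw [pow_two]
    · exact hP2 c st.cP
    · exact hP2 _ hqP
    · exact hP2 _ hpP
  have hz4 : (⟨z, MonoidHom.mem_ker.2 hz⟩ : π.ker) ^ 4 = 1 := Subtype.ext (by
    show z ^ 4 = 1
    rw [show (4 : ℕ) = 2 * 2 from rfl, pow_mul, pow_two z, pow_two, hΦ2 _ hzz])
  let f : Multiplicative (ZMod 4) × (Fin 3 → Multiplicative (ZMod 2)) →* π.ker :=
    MonoidHom.coprod (powHom 4 _ hz4)
      ((powHom 2 (u 0) (hu 0)).comp (Pi.evalMonoidHom (fun _ => Multiplicative (ZMod 2)) 0) *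
        (powHom 2 (u 1) (hu 1)).comp (Pi.evalMonoidHom (fun _ => Multiplicative (ZMod 2)) 1) *
        (powHom 2 (u 2) (hu 2)).comp (Pi.evalMonoidHom (fun _ => Multiplicative (ZMod 2)) 2))
  have hinj : Function.Injective f := by
    refine (injective_iff_map_eq_one f).2 fun ⟨k, v⟩ h => ?_
    set e := c ^ ((v 0).toAdd.val) * cm r c ^ ((v 1).toAdd.val) * cm r (cm r c) ^ ((v 2).toAdd.val) with he
    have h' : z ^ k.toAdd.val * e = 1 := by
      have := congrArg Subtype.val h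
      simpa [f, powHom_apply, u, he, mul_assoc] using this
    have heP : e ∈ P := mul_mem (mul_mem (pow_mem st.cP _) (pow_mem hqP _)) (pow_mem hpP _)
    have hzk : z ^ k.toAdd.val ∈ P := eq_inv_of_mul_eq_one_left h' ▸ inv_mem heP
    obtain ⟨n, hn | hn⟩ := Nat.even_or_odd' k.toAdd.val
    · have hzn : z ^ k.toAdd.val = (z * z) ^ n := by rw [hn, pow_mul, pow_two]
      have heΦ : e ∈ Φ := eq_inv_of_mul_eq_one_right h' ▸ inv_mem (hzn ▸ pow_mem hzz n)
      obtain ⟨e0, e1, e2⟩ := st.indep (v 0).toAdd (v 1).toAdd (v 2).toAdd heΦ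
      have hv : v = 1 := by
        funext i
        refine Multiplicative.toAdd.injective ?_
        fin_cases i
        · exact e0
        · exact e1
        · exact e2
      have he1 : e = 1 := by rw [he, hv]; simp
      rw [he1, mul_one, hzn] at h'
      have hk4 := ZMod.val_lt k.toAdd
      have hn0 : n = 0 := by
        rcases Nat.lt_or_ge n 1 with h | h
        · omega
        · have : n = 1 := by omega
          subst this
          exact absurd (by simpa using h') hzz1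
      have hk0 : k.toAdd.val = 0 := by omega
      refine Prod.ext ?_ hv
      exact Multiplicative.toAdd.injective ((ZMod.val_eq_zero _).1 hk0)
    · refine absurd ?_ hzP
      rw [hn, pow_succ, pow_mul, pow_two] at hzk
      exact (P.mul_mem_cancel_left (pow_mem (O.le hzz) n)).1 hzk
  refine ⟨(MulEquiv.ofBijective f ((Nat.bijective_iff_injective_and_card f).2 ⟨hinj, ?_⟩)).symm⟩
  rw [h32, Nat.card_prod, Nat.card_pi, Finset.prod_const, Finset.card_univ, Fintype.card_fin]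
  simp [Nat.card_congr Multiplicative.toAdd]

/-- A group acting trivially on the Frattini quotient of a self-centralizing 2-radical is a 2-group. -/
theorem faith_frattini (hL : Nat.card L = 168) (π : X →* L) (hπ : Function.Surjective π) (Q : Subgroup X)
    [Q.Normal] (hQ : IsPGroup 2 Q) (hC : centralizer (Q : Set X) ≤ Q) (hker : π.ker = Q) :
    ∃ g, ∃ q ∈ Q, cm g q ∉ (frattini Q).map Q.subtype := by
  haveI : Fact (Nat.Prime 2) := ⟨Nat.prime_two⟩
  haveI : Fact (Nat.Prime 7) := ⟨by norm_num⟩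
  by_contra h
  push Not at h
  obtain ⟨l, hl⟩ := exists_prime_orderOf_dvd_card' (G := L) 7 (by rw [hL]; norm_num)
  obtain ⟨y, hy⟩ := hπ l
  obtain ⟨s, r, hr, hsr⟩ := Nat.exists_eq_two_pow_mul_odd (orderOf_pos y).ne'
  have hrpow : (y ^ 2 ^ s) ^ r = 1 := by rw [← pow_mul, ← hsr, pow_orderOf_eq_one]
  have hyQ : y ^ 2 ^ s ∈ Q := by
    refine hC (CfsgLib.Coprime.le_centralizer_of_trivial_on_frattini_quotient
      (A := zpowers (y ^ 2 ^ s)) (K := Q) ?_ ?_ (fun a _ k hk => h a k hk) (mem_zpowers _))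
    · rw [Subgroup.normalizer_eq_top]; exact le_top
    · rw [Nat.card_zpowers]
      obtain ⟨n, hn⟩ := IsPGroup.iff_card.1 (hQ.to_subgroup (frattini ↥Q))
      rw [hn]
      exact Nat.Coprime.coprime_dvd_left (orderOf_dvd_of_pow_eq_one hrpow)
        ((Nat.coprime_two_right.2 hr).pow_right n)
  have h1 : l ^ 2 ^ s = 1 := by
    rw [← hy, ← map_pow]
    exact MonoidHom.mem_ker.1 (hker.ge hyQ)
  have h7 := orderOf_dvd_of_pow_eq_one h1
  rw [hl] at h7
  exact absurd ((show Nat.Prime 7 by norm_num).dvd_of_dvd_pow h7) (by norm_num)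

theorem map_cm {G H : Type*} [Group G] [Group H] (f : G →* H) (a b : G) : f (cm a b) = cm (f a) (f b) := by
  simp [cm, map_mul, map_inv]

/-- The layers below a maximal one vanish. -/
theorem bot_of_maximal (h4 : Cfsg.SectionalPRankLE 2 4 X) (hL : Nat.card L = 168) (π : X →* L)
    (hπ : Function.Surjective π) (hQp : IsPGroup 2 π.ker) (Φ : Subgroup X) [Φ.Normal] (hΦk : Φ ≤ π.ker)
    (hsq : ∀ q ∈ π.ker, q * q ∈ Φ) (hgen : ∀ M : Subgroup X, (∀ q ∈ π.ker, q * q ∈ M) → Φ ≤ M)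
    (hfaith : ∃ g, ∃ q ∈ π.ker, cm g q ∉ Φ) {R : Subgroup X} [R.Normal] (hlt : R < Φ)
    (hmax : ∀ M : Subgroup X, M.Normal → R ≤ M → M < Φ → M ≤ R) : R = ⊥ := by
  set mk := QuotientGroup.mk' R with hmk
  have hRk : R ≤ π.ker := hlt.le.trans hΦk
  haveI : (π.ker.map mk).Normal := Subgroup.Normal.map inferInstance _ (QuotientGroup.mk'_surjective R)
  haveI : (Φ.map mk).Normal := Subgroup.Normal.map inferInstance _ (QuotientGroup.mk'_surjective R)
  let π' : X ⧸ R →* L := QuotientGroup.lift R π hRk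
  have hk' : π'.ker = π.ker.map mk := QuotientGroup.ker_lift _ _ _
  have hπ' : Function.Surjective π' := fun g => by
    obtain ⟨x, hx⟩ := hπ g
    exact ⟨mk x, hx⟩
  obtain ⟨hne, hmin⟩ := CfsgLib.PGroup.RadicalFive.minimal_of_maximal hlt hmax
  obtain ⟨P', z', hP'n, hidx', hz', hzP', hzz', hΦ2', hΦcen', hP2', hQ32, hab', O'⟩ :=
    stage_one (CfsgLib.Fusion.RankThree.sectional_quotient h4 R) hL π' hπ' (π.ker.map mk) hk' (hQp.map mk)
      (Φ.map mk) (map_mono hΦk) (by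
        rintro _ ⟨q, hq, rfl⟩
        rw [← map_mul]
        exact mem_map_of_mem mk (hsq q hq))
      (fun M hM => map_le_iff_le_comap.2 (hgen _ fun q hq => by
        show mk (q * q) ∈ M
        rw [map_mul]
        exact hM _ (mem_map_of_mem mk hq)))
      (by
        obtain ⟨g, q, hq, hgq⟩ := hfaith
        refine ⟨mk g, mk q, mem_map_of_mem mk hq, fun h => hgq ?_⟩
        refine (CfsgLib.PGroup.RadicalFive.mk_mem_map hlt.le).1 ?_
        show mk (cm g q) ∈ Φ.map mk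
        rwa [map_cm])
      hne hmin
  haveI := hP'n
  set P := P'.comap mk with hP
  have hmemk : ∀ {x}, mk x ∈ π'.ker ↔ x ∈ π.ker := fun {x} => Iff.rfl
  obtain ⟨z, rfl⟩ := QuotientGroup.mk'_surjective R z'
  have hsqP : ∀ m ∈ P, m * m ∈ R := fun m hm => (QuotientGroup.eq_one_iff _).1 (by
    have := hP2' (mk m) hm
    rwa [← map_mul] at this)
  have hcm : ∀ a ∈ π.ker, ∀ b ∈ π.ker, cm a b ∈ R := fun a ha b hb => (QuotientGroup.eq_one_iff _).1 (by
    show mk (cm a b) = 1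
    simp only [cm, map_mul, map_inv]
    rw [hab' _ (hmemk.2 ha) _ (hmemk.2 hb), mul_inv_cancel_right, mul_inv_cancel])
  have hwΦ : z * z ∈ Φ := hsq z (hmemk.1 hz')
  have hzR : z * z ∉ R := fun h => hzz' (by
    rw [← map_mul]
    exact (QuotientGroup.eq_one_iff _).2 h)
  have hΦcm : ∀ g, ∀ x ∈ Φ, cm g x ∈ R := fun g x hx => (QuotientGroup.eq_one_iff _).1 (by
    show mk (cm g x) = 1
    simp only [cm, map_mul, map_inv]
    rw [mem_center_iff.1 (hΦcen' (mem_map_of_mem mk hx)) (mk g), mul_inv_cancel_right, mul_inv_cancel])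
  have hΦR : ∀ x ∈ Φ, x ∈ R ∨ (z * z)⁻¹ * x ∈ R := by
    intro x hx
    have hmem := mem_map_of_mem mk hwΦ
    have ho : orderOf (mk (z * z)) = 2 := by
      refine orderOf_eq_prime (hp := ⟨Nat.prime_two⟩) ?_ fun e => hzR ((QuotientGroup.eq_one_iff _).1 e)
      have := pow_card_eq_one' (G := Φ.map mk) (x := ⟨_, hmem⟩)
      rw [hΦ2'] at this
      exact congrArg Subtype.val this
    have heq : zpowers (mk (z * z)) = Φ.map mk :=
      eq_of_le_of_card_ge (zpowers_le.2 hmem) (by rw [hΦ2', Nat.card_zpowers, ho])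
    rcases CfsgLib.PGroup.RadicalFive.mem_zpowers_two (by
      rw [← pow_two, ← ho]; exact pow_orderOf_eq_one _) (heq ▸ mem_map_of_mem mk hx) with e | e
    · exact Or.inl ((QuotientGroup.eq_one_iff x).1 e)
    · exact Or.inr (QuotientGroup.eq.1 e.symm)
  have hPk : P ≤ π.ker := fun x hx => hmemk.1 (O'.leK hx)
  have hΦP : Φ ≤ P := fun x hx => O'.le (mem_map_of_mem mk hx)
  have hidx : P.relIndex π.ker = 2 := by rw [hP, relIndex_comap, ← hk']; exact hidx'
  have O : Octad π Φ P := by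
    refine ⟨hΦP, hPk, fun m hm => hlt.le (hsqP m hm), ?_,
      fun q hq m hm => hlt.le (hcm q (MonoidHom.mem_ker.2 hq) m (hPk hm)), ?_⟩
    · have h1 := card_of_map (P := P) hΦP
      rw [hP, CfsgLib.PGroup.RadicalFive.card_comap_mk, card_of_map (P := P') O'.le, O'.card,
        card_of_map hlt.le, ← hmk, hΦ2', mul_assoc (Nat.card R)] at h1
      have hR0 : 0 < Nat.card R := Nat.card_pos
      have h2 := Nat.eq_of_mul_eq_mul_left hR0 h1
      rw [← hP] at h2
      omega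
    · obtain ⟨g', m', hm', hgm'⟩ := O'.ne
      obtain ⟨g, rfl⟩ := QuotientGroup.mk'_surjective R g'
      obtain ⟨m, rfl⟩ := QuotientGroup.mk'_surjective R m'
      refine ⟨g, m, hm', fun h => hgm' ?_⟩
      have := mem_map_of_mem mk h
      rwa [map_cm] at this
  -- the next layer
  by_contra hR
  obtain ⟨R', ⟨hR'n, hR'lt⟩, hR'max⟩ := (Set.toFinite {M : Subgroup X | M.Normal ∧ M < R}).exists_maximal
    ⟨⊥, inferInstance, bot_lt_iff_ne_bot.2 hR⟩
  haveI := hR'n
  set mk₂ := QuotientGroup.mk' R' with hmk₂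
  haveI : (P.map mk₂).Normal := Subgroup.Normal.map inferInstance _ (QuotientGroup.mk'_surjective R')
  haveI : (Φ.map mk₂).Normal := Subgroup.Normal.map inferInstance _ (QuotientGroup.mk'_surjective R')
  haveI : (R.map mk₂).Normal := Subgroup.Normal.map inferInstance _ (QuotientGroup.mk'_surjective R')
  obtain ⟨hRne, hRmin⟩ := CfsgLib.PGroup.RadicalFive.minimal_of_maximal hR'lt
    fun M hM h1 h2 => hR'max ⟨hM, h2⟩ h1
  have hR'k : R' ≤ π.ker := hR'lt.le.trans hRk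
  have hR'Φ : R' ≤ Φ := hR'lt.le.trans hlt.le
  let π₂ : X ⧸ R' →* L := QuotientGroup.lift R' π hR'k
  have hk₂ : π₂.ker = π.ker.map mk₂ := QuotientGroup.ker_lift _ _ _
  refine false_of_second_layer (CfsgLib.Fusion.RankThree.sectional_quotient h4 R') hL π₂ (fun g => ?_)
    (hk₂ ▸ hQp.map mk₂) (P.map mk₂) ?_ (z := mk₂ z) (hmemk.1 hz') ?_ (R.map mk₂) (Φ.map mk₂) hRne hRmin
    (map_mono hlt.le) ?_ ?_ ?_ ?_ ?_ ?_ ?_
  · obtain ⟨x, hx⟩ := hπ g
    exact ⟨mk₂ x, hx⟩
  · rw [hk₂, ← relIndex_comap, comap_map_eq, QuotientGroup.ker_mk', sup_eq_left.2 (hR'Φ.trans hΦP)]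
    exact hidx
  · exact fun h => hzP' ((CfsgLib.PGroup.RadicalFive.mk_mem_map (hR'Φ.trans hΦP)).1 h)
  · rw [← map_mul]
    exact mem_map_of_mem mk₂ hwΦ
  · rw [← map_mul]
    exact fun h => hzR ((CfsgLib.PGroup.RadicalFive.mk_mem_map hR'lt.le).1 h)
  · rintro _ ⟨x, hx, rfl⟩
    rcases hΦR x hx with h | h
    · exact Or.inl (mem_map_of_mem mk₂ h)
    · right
      rw [← map_mul, ← map_inv, ← map_mul]
      exact mem_map_of_mem mk₂ h
  · rintro g _ ⟨x, hx, rfl⟩
    obtain ⟨g, rfl⟩ := QuotientGroup.mk'_surjective R' g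
    have := mem_map_of_mem mk₂ (hΦcm g x hx)
    rwa [map_cm] at this
  · intro a ha b hb
    rw [hk₂] at ha hb
    obtain ⟨a', ha', rfl⟩ := mem_map.1 ha
    obtain ⟨b', hb', rfl⟩ := mem_map.1 hb
    have := mem_map_of_mem mk₂ (hcm a' ha' b' hb')
    rwa [map_cm] at this
  · rintro _ ⟨m, hm, rfl⟩
    rw [← map_mul]
    exact mem_map_of_mem mk₂ (hsqP m hm)
  · refine ⟨map_mono hΦP, hk₂ ▸ map_mono hPk, ?_, ?_, ?_, ?_⟩
    · rintro _ ⟨m, hm, rfl⟩
      rw [← map_mul]
      exact mem_map_of_mem mk₂ (O.sq m hm)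
    · have h1 := card_of_map (P := P) (hR'Φ.trans hΦP)
      have h2 := card_of_map (P := Φ) hR'Φ
      have h3 := card_of_map (P := P.map mk₂) (map_mono (f := mk₂) hΦP)
      have h4' := card_of_map (P := P) hΦP
      rw [O.card, h1, h2, ← hmk₂, h3, mul_assoc] at h4'
      have hR0 : 0 < Nat.card R' := Nat.card_pos
      have hΦ0 : 0 < Nat.card (Φ.map mk₂) := Nat.card_pos
      exact Nat.eq_of_mul_eq_mul_left hΦ0 (Nat.eq_of_mul_eq_mul_left hR0 h4')
    · intro q hq m hm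
      obtain ⟨q', rfl⟩ := QuotientGroup.mk'_surjective R' q
      obtain ⟨m', hm', rfl⟩ := mem_map.1 hm
      have := mem_map_of_mem mk₂ (O.ker q' hq m' hm')
      rwa [map_cm] at this
    · obtain ⟨g, m, hm, hgm⟩ := O.ne
      refine ⟨mk₂ g, mk₂ m, mem_map_of_mem mk₂ hm, fun h => hgm ?_⟩
      refine (CfsgLib.PGroup.RadicalFive.mk_mem_map hR'Φ).1 ?_
      show mk₂ (cm g m) ∈ Φ.map mk₂
      rwa [map_cm]

/-- The 2-radical of a 2-constrained group over the simple group of order 168. -/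
theorem radical_structure (hL : Nat.card L = 168) (Q : Subgroup X) [Q.Normal] (hQ : IsPGroup 2 Q)
    (hC : centralizer (Q : Set X) ≤ Q) (h4 : Cfsg.SectionalPRankLE 2 4 X) (π : X →* L)
    (hπ : Function.Surjective π) (hker : π.ker = Q) :
    (Cfsg.IsElementaryAbelian 2 Q ∧ (Nat.card Q = 8 ∨ Nat.card Q = 16)) ∨
      Nonempty (Q ≃* Multiplicative (ZMod 4) × (Fin 3 → Multiplicative (ZMod 2))) := by
  haveI : Fact (Nat.Prime 2) := ⟨Nat.prime_two⟩
  set Φ := (frattini Q).map Q.subtype with hΦdef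
  haveI : Φ.Normal := ConjAct.normal_of_characteristic_of_normal
  have hΦQ : Φ ≤ Q := map_subtype_le _
  have hsq : ∀ q ∈ Q, q * q ∈ Φ := fun q hq => ⟨⟨q, hq⟩ ^ 2, CfsgLib.Coprime.pow_mem_frattini hQ _, by
    show ((⟨q, hq⟩ ^ 2 : Q) : X) = q * q
    rw [SubgroupClass.coe_pow, pow_two]⟩
  have hgen : ∀ M : Subgroup X, (∀ q ∈ Q, q * q ∈ M) → Φ ≤ M := fun M hM => by
    refine map_le_iff_le_comap.2 (CfsgLib.FrattiniLe.frattini_le_of_pow_of_commutator
      (p := 2) (fun x => ?_) ?_)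
    · show ((x ^ 2 : Q) : X) ∈ M
      rw [SubgroupClass.coe_pow, pow_two]
      exact hM x x.2
    · rw [_root_.commutator_def, commutator_le]
      intro g _ k _
      show ((g * k * g⁻¹ * k⁻¹ : Q) : X) ∈ M
      exact CfsgLib.PGroup.RadicalFive.comm_mem_of_sq hM g.2 k.2
  have hfaith := faith_frattini hL π hπ Q hQ hC hker
  by_cases hΦ : Φ = ⊥
  · left
    have h1 : ∀ q ∈ Q, q * q = 1 := fun q hq => mem_bot.1 (hΦ ▸ hsq q hq)
    have hc := comm_of_exp_two h1
    refine ⟨⟨⟨⟨fun a b => Subtype.ext (hc a a.2 b b.2)⟩⟩, fun q hq => by rw [pow_two]; exact h1 q hq⟩, ?_⟩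
    letI := commGroupTwo Q h1
    obtain ⟨ρ, -, hinj⟩ := exists_act π hπ Q (hker ▸ hc)
    rcases module_cases hL (fun v : Q => Subtype.ext (h1 v v.2))
      (CfsgLib.PGroup.RadicalFive.card_le_sixteen h4 hc h1) ρ (hinj fun hle => by
        obtain ⟨g, q, hq, hn⟩ := hfaith
        refine hn ?_
        unfold cm
        rw [mem_center_iff.1 (hle hq) g, mul_inv_cancel_right, mul_inv_cancel]
        exact one_mem _) with h | ⟨h, -⟩
    · exact Or.inl h
    · exact Or.inr h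
  right
  obtain ⟨R, ⟨hRn, hRlt⟩, hRmax⟩ := (Set.toFinite {M : Subgroup X | M.Normal ∧ M < Φ}).exists_maximal
    ⟨⊥, inferInstance, bot_lt_iff_ne_bot.2 hΦ⟩
  haveI := hRn
  have hR : R = ⊥ := bot_of_maximal h4 hL π hπ (hker ▸ hQ) Φ (hker ▸ hΦQ) (hker ▸ hsq) (hker ▸ hgen)
    (hker ▸ hfaith) hRlt fun M hM h1 h2 => hRmax ⟨hM, h2⟩ h1
  subst hR
  have hmin : ∀ M : Subgroup X, M.Normal → M ≤ Φ → M ≠ ⊥ → M = Φ := fun M hM hle hne =>
    (eq_or_lt_of_le hle).resolve_right fun hlt => hne (eq_bot_iff.2 (hRmax ⟨hM, hlt⟩ bot_le))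
  obtain ⟨P, z, hPn, -, hz, hzP, hzz, hΦ2, -, hP2, h32, hab, O⟩ :=
    stage_one h4 hL π hπ Q hker hQ Φ hΦQ hsq hgen hfaith hΦ hmin
  haveI := hPn
  obtain ⟨-, hΦe⟩ := CfsgLib.PGroup.RadicalFive.minimal_layer hQ hΦQ hΦ hmin
  obtain ⟨e⟩ := split_iso hL π hπ P Φ (MonoidHom.mem_ker.1 hz) hzP
    (hsq z (hker ▸ hz)) hzz hΦe hP2 h32 hab (hker ▸ hsq) O
  exact ⟨(MulEquiv.subgroupCongr hker).symm.trans e⟩

end CfsgLib.PGroup.RadicalSeven
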