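import Cfsg.Agent.Lib.PGroup.RadicalSeven.Layer
import Cfsg.Agent.Lib.PGroup.RadicalSeven.Cyclic

/-!
# The second layer does not exist
-/

set_option autoImplicit false
set_option linter.unusedSectionVars false
set_option linter.style.haveILetI false

open Subgroup

namespace CfsgLib.PGroup.RadicalSeven

universe u v

variable {Y : Type u} [Group Y] [Finite Y] {L : Type v} [Group L] [Finite L] [IsSimpleGroup L]

/-- A faithful second layer with an elementary middle term. -/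
theorem false_of_faithful (h4 : Cfsg.SectionalPRankLE 2 4 Y) (hL : Nat.card L = 168) (π : Y →* L)
    (hπ : Function.Surjective π) (P : Subgroup Y) [P.Normal] (hidx : P.relIndex π.ker = 2)
    (Φ R : Subgroup Y) [Φ.Normal] [R.Normal] (hRΦ : R ≤ Φ) (hR8 : Nat.card R = 8)
    (hΦ16 : Nat.card Φ = 16) (hne : ¬ R ≤ center Y) (hΦ2 : ∀ x ∈ Φ, x * x = 1)
    (hΦc : ∀ x ∈ Φ, ∀ q ∈ π.ker, x * q = q * x) (hRc : ∀ q, π q = 1 → ∀ m ∈ P, cm q m ∈ R)
    (O : Octad π Φ P) (hsqP : ∀ m ∈ P, m * m ∈ R)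
    (hQ : ∀ q, π q = 1 → q ∉ P → q * q ∈ Φ ∧ q * q ∉ R) : False := by
  have hPk := O.leK
  have hP128 : Nat.card P = 128 := by rw [card_of_map O.le, hΦ16, O.card]
  rcases O.square_dichotomy hπ hL R hRΦ hR8 hne hΦ2 hΦc hsqP with h | ⟨hc, hΩ⟩
  · have := CfsgLib.PGroup.RadicalFive.card_le_sixteen h4 (comm_of_exp_two h) h
    omega
  have hΩiff : ∀ x, x ∈ Φ ↔ x ∈ P ∧ x * x = 1 :=
    fun x => ⟨fun hx => ⟨O.le hx, hΦ2 x hx⟩, fun hx => hΩ x hx.1 hx.2⟩
  rcases omega_cases h4 hL π hπ Φ R hRΦ hΦ16 hR8 hΦ2 hΦc hne with ⟨w, hw, hwR, hwc⟩ | hns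
  swap
  · refine false_of_indecomposable h4 hL π hπ (fun m hm => ?_) P Φ R hPk hc hP128 hΩiff hΦ16 hRΦ hR8
      hsqP (fun q hq m hm => hRΦ (hRc q hq m hm)) O.ne hns hQ
    have hmm : m * m ∈ Φ := by
      by_cases hmP : m ∈ P
      · exact hRΦ (hsqP m hmP)
      · exact (hQ m hm hmP).1
    have h1 : m ^ 4 = 1 := by
      rw [show m ^ 4 = m * m * (m * m) by simp [pow_succ, mul_assoc]]
      exact hΦ2 _ hmm
    rw [show (16 : ℕ) = 4 * 4 from rfl, pow_mul, h1, one_pow]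
  -- a central involution outside the layer
  set N := zpowers w with hN
  haveI : N.Normal := ⟨fun n hn g => by
    obtain ⟨k, rfl⟩ := mem_zpowers_iff.1 hn
    rw [← conj_zpow, hwc g, mul_inv_cancel_right]
    exact zpow_mem (mem_zpowers w) k⟩
  have hw1 : w ≠ 1 := fun e => hwR (e ▸ one_mem R)
  have hN2 : Nat.card N = 2 := by
    rw [hN, Nat.card_zpowers]
    exact orderOf_eq_prime (hp := ⟨Nat.prime_two⟩) (by rw [pow_two]; exact hΦ2 w hw) hw1
  have hNΦ : N ≤ Φ := zpowers_le.2 hw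
  have hNR : ∀ x ∈ N, x ∈ R → x = 1 := fun x hx hxR =>
    (CfsgLib.PGroup.RadicalFive.mem_zpowers_two (hΦ2 w hw) hx).resolve_right fun e => hwR (e ▸ hxR)
  have hNk : N ≤ π.ker := hNΦ.trans (O.le.trans hPk)
  set mk := QuotientGroup.mk' N with hmk
  let π' : Y ⧸ N →* L := QuotientGroup.lift N π hNk
  have hk' : π'.ker = π.ker.map mk := QuotientGroup.ker_lift _ _ _
  haveI : (P.map mk).Normal := Subgroup.Normal.map inferInstance _ (QuotientGroup.mk'_surjective N)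
  haveI : (R.map mk).Normal := Subgroup.Normal.map inferInstance _ (QuotientGroup.mk'_surjective N)
  have hΦR : Φ.map mk = R.map mk := by
    refine le_antisymm ?_ (map_mono hRΦ)
    rintro _ ⟨x, hx, rfl⟩
    by_cases hxR : x ∈ R
    · exact mem_map_of_mem mk hxR
    have hi : (R.subgroupOf Φ).index = 2 := by
      have h := relIndex_mul_relIndex ⊥ R Φ bot_le hRΦ
      rw [relIndex_bot_left, relIndex_bot_left, hR8, hΦ16] at h
      show R.relIndex Φ = 2
      omega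
    have hm := (mul_mem_iff_of_index_two hi (a := ⟨w⁻¹, inv_mem hw⟩) (b := ⟨x, hx⟩)).2
    simp only [mem_subgroupOf, coe_mul] at hm
    refine ⟨w⁻¹ * x, hm (iff_of_false (fun e => hwR (inv_mem_iff.1 e)) hxR), ?_⟩
    rw [map_mul, show mk w⁻¹ = 1 from (QuotientGroup.eq_one_iff _).2 (inv_mem (mem_zpowers w)), one_mul]
  refine false_of_hyperplane (CfsgLib.Fusion.RankThree.sectional_quotient h4 N) hL π'
    (fun g => ?_) (P.map mk) (hk' ▸ map_mono hPk) ?_ ?_ ?_ (R.map mk) ?_ ?_ ?_ ?_ ?_ ?_ ?_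
  · obtain ⟨x, hx⟩ := hπ g
    exact ⟨mk x, hx⟩
  · rw [hk', ← relIndex_comap, comap_map_eq, QuotientGroup.ker_mk', sup_eq_left.2 (hNΦ.trans O.le)]
    exact hidx
  · rintro _ ⟨a, ha, rfl⟩ _ ⟨b, hb, rfl⟩
    rw [← map_mul, ← map_mul, hc a ha b hb]
  · have h := card_of_map (K := N) (P := P) (hNΦ.trans O.le)
    rw [hP128, hN2, ← hmk] at h
    omega
  · exact map_mono (hRΦ.trans O.le)
  · have h := card_of_map (K := N) (P := Φ) hNΦ
    rw [hΦ16, hN2, ← hmk, hΦR] at h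
    omega
  · rintro _ ⟨x, hx, rfl⟩
    rw [← map_mul, hΦ2 x (hRΦ hx), map_one]
  · rintro _ ⟨x, hx, rfl⟩ q hq
    rw [hk'] at hq
    obtain ⟨q', hq', rfl⟩ := mem_map.1 hq
    rw [← map_mul, ← map_mul, hΦc x (hRΦ hx) q' hq']
  · intro q hq
    rw [hk'] at hq
    obtain ⟨q', hq', rfl⟩ := mem_map.1 hq
    rw [← hΦR, ← map_mul]
    refine mem_map_of_mem mk ?_
    by_cases hqP : q' ∈ P
    · exact hRΦ (hsqP q' hqP)
    · exact (hQ q' (MonoidHom.mem_ker.1 hq') hqP).1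
  · rintro _ ⟨m, hm, rfl⟩ h1
    rw [← hΦR]
    rw [← map_mul] at h1
    exact mem_map_of_mem mk (hΩ m hm (hNR _ ((QuotientGroup.eq_one_iff _).1 h1) (hsqP m hm)))
  · refine fun hle => hne fun r hr => mem_center_iff.2 fun g => ?_
    have h : mk (cm g r) = 1 := by
      simp only [cm, map_mul, map_inv]
      rw [mem_center_iff.1 (hle (mem_map_of_mem mk hr)) (mk g), mul_inv_cancel_right, mul_inv_cancel]
    have h1 := hNR _ ((QuotientGroup.eq_one_iff _).1 h) (mul_mem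
      ((inferInstance : R.Normal).conj_mem r hr g) (inv_mem hr))
    exact mul_inv_eq_iff_eq_mul.1 (mul_inv_eq_one.1 h1)

/-- A central second layer. -/
theorem false_of_cyclic_layer (h4 : Cfsg.SectionalPRankLE 2 4 Y) (hL : Nat.card L = 168) (π : Y →* L)
    (hπ : Function.Surjective π) (P : Subgroup Y) [P.Normal] (hidx : P.relIndex π.ker = 2) {z : Y}
    (hz : z ∈ π.ker) (hzP : z ∉ P) (hρ : z * z * (z * z) ≠ 1) (hρ2 : z * z * (z * z) * (z * z * (z * z)) = 1)
    (Φ : Subgroup Y) [Φ.Normal] (hΦ : Φ = zpowers (z * z)) (hΦc : Φ ≤ center Y)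
    (hR : ∀ a ∈ π.ker, ∀ b ∈ π.ker, cm a b = 1 ∨ cm a b = z * z * (z * z))
    (O : Octad π Φ P) (hsqP : ∀ m ∈ P, m * m = 1 ∨ m * m = z * z * (z * z))
    (hQ : ∀ q ∈ π.ker, q ∈ P ∨ z⁻¹ * q ∈ P) (hQ4 : ∀ q ∈ π.ker, q * q ∈ Φ) : False := by
  set w := z * z with hw
  set ρ := w * w with hρd
  have hwΦ : w ∈ Φ := hΦ ▸ mem_zpowers w
  have hwP : w ∈ P := O.le hwΦ
  have hwc : ∀ g, w * g = g * w := fun g => (mem_center_iff.1 (hΦc hwΦ) g).symm
  have hρc : ∀ g, g * ρ = ρ * g := fun g => mem_center_iff.1 (hΦc (mul_mem hwΦ hwΦ)) g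
  have hPk := O.leK
  have hcP := O.comm hπ hL (fun k hk m _ => (mem_center_iff.1 (hΦc hk) m).symm) fun a ha b hb => by
    rcases hR a (hPk ha) b (hPk hb) with e | e <;> rw [e]
    · exact ⟨one_mem _, mul_one _⟩
    · exact ⟨hΦc (mul_mem hwΦ hwΦ), hρ2⟩
  have hw4 : orderOf w = 4 := orderOf_eq_prime_pow (p := 2) (n := 1)
    (by rw [pow_one, pow_two]; exact hρ)
    (by rw [show (2 : ℕ) ^ (1 + 1) = 2 * 2 from rfl, pow_mul, pow_two w, pow_two, hρd.symm]; exact hρ2)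
  have hΦ4 : Nat.card Φ = 4 := by rw [hΦ, Nat.card_zpowers, hw4]
  have hP32 : Nat.card P = 32 := by rw [card_of_map O.le, hΦ4, O.card]
  -- the involutions of `P`
  let Ω : Subgroup Y :=
    { carrier := {x | x ∈ P ∧ x * x = 1}
      one_mem' := ⟨one_mem P, mul_one 1⟩
      mul_mem' := fun {a b} ha hb => ⟨mul_mem ha.1 hb.1, by
        rw [(show Commute b a from hcP b hb.1 a ha.1).mul_mul_mul_comm, ha.2, hb.2, one_mul]⟩
      inv_mem' := fun {a} ha => ⟨inv_mem ha.1, by rw [← mul_inv_rev, ha.2, inv_one]⟩ }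
  have hΩm : ∀ x, x ∈ Ω ↔ x ∈ P ∧ x * x = 1 := fun x => Iff.rfl
  haveI : Ω.Normal := ⟨fun x hx g => ⟨(inferInstance : P.Normal).conj_mem x hx.1 g, by
    rw [show g * x * g⁻¹ * (g * x * g⁻¹) = g * (x * x) * g⁻¹ by group, hx.2, mul_one, mul_inv_cancel]⟩⟩
  have hΩP : Ω ≤ P := fun x hx => hx.1
  have hΩk : Ω ≤ π.ker := hΩP.trans hPk
  have hwsplit : ∀ m ∈ P, m ∈ Ω ∨ w⁻¹ * m ∈ Ω := by
    intro m hm
    rcases hsqP m hm with e | e
    · exact Or.inl ⟨hm, e⟩
    · refine Or.inr ⟨mul_mem (inv_mem hwP) hm, ?_⟩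
      rw [(show Commute m w⁻¹ from (show Commute m w from (hwc m).symm).inv_right).mul_mul_mul_comm, e,
        hρd, ← mul_inv_rev, inv_mul_cancel]
  have hwΩ : w ∉ Ω := fun h => hρ h.2
  have hρΩ : ρ ∈ Ω := ⟨mul_mem hwP hwP, hρ2⟩
  have hR' : ∀ a ∈ π.ker, ∀ b ∈ π.ker, cm a b ∈ Ω := fun a ha b hb => by
    rcases hR a ha b hb with e | e <;> rw [e]
    · exact one_mem Ω
    · exact hρΩ
  have hidxΩ : (Ω.subgroupOf P).index = 2 := by
    refine index_eq_two_iff.2 ⟨⟨w⁻¹, inv_mem hwP⟩, fun b => ?_⟩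
    simp only [mem_subgroupOf, coe_mul]
    have hc : (b : Y) * w⁻¹ = w⁻¹ * b := ((show Commute (b : Y) w from (hwc b).symm).inv_right).eq
    rw [hc]
    rcases hwsplit b b.2 with h | h
    · exact Or.inr ⟨h, fun h' => hwΩ (inv_mem_iff.1 (by
        have := mul_mem h' (inv_mem h)
        rwa [mul_inv_cancel_right] at this))⟩
    · exact Or.inl ⟨h, fun h' => hwΩ (inv_mem_iff.1 (by
        have := mul_mem h (inv_mem h')
        rwa [mul_inv_cancel_right] at this))⟩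
  have hΩ16 : Nat.card Ω = 16 := by
    have h1 := relIndex_mul_relIndex ⊥ Ω P bot_le hΩP
    rw [relIndex_bot_left, relIndex_bot_left, hP32, show Ω.relIndex P = 2 from hidxΩ] at h1
    omega
  -- the kernel of `Y/Ω` is central
  have hcmP : ∀ g, cm g z ∈ P := by
    intro g
    have h : z⁻¹ * (g * z * g⁻¹) ∈ P :=
      (hQ _ ((inferInstance : π.ker.Normal).conj_mem z hz g)).resolve_left fun h => hzP (by
        have := (inferInstance : P.Normal).conj_mem _ h g⁻¹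
        rwa [show g⁻¹ * (g * z * g⁻¹) * g⁻¹⁻¹ = z by group] at this)
    have := (inferInstance : P.Normal).conj_mem _ h z
    rwa [show z * (z⁻¹ * (g * z * g⁻¹)) * z⁻¹ = cm g z by unfold cm; group] at this
  set mk := QuotientGroup.mk' Ω with hmk
  haveI : (P.map mk).Normal := Subgroup.Normal.map inferInstance _ (QuotientGroup.mk'_surjective Ω)
  have hPmap : Nat.card (P.map mk) = 2 := by
    have h := card_of_map (K := Ω) (P := P) hΩP
    rw [hP32, hΩ16, ← hmk] at h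
    omega
  have hPmc : ∀ x ∈ P, ∀ y, mk y * mk x * (mk y)⁻¹ = mk x := by
    intro x hx y
    rcases hwsplit x hx with h | h
    · rw [show mk x = 1 from (QuotientGroup.eq_one_iff x).2 h, mul_one, mul_inv_cancel]
    · rw [show mk x = mk w from ((QuotientGroup.eq.2 h : (w : Y ⧸ Ω) = x)).symm, ← map_inv, ← map_mul,
        ← map_mul, ← hwc y, mul_inv_cancel_right]
  let φ : Y →* P.map mk := MonoidHom.mk' (fun g => ⟨mk (cm g z), mem_map_of_mem mk (hcmP g)⟩) fun g g' => by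
    refine Subtype.ext ?_
    rw [coe_mul]
    show mk (cm (g * g') z) = mk (cm g z) * mk (cm g' z)
    rw [show cm (g * g') z = g * cm g' z * g⁻¹ * cm g z by unfold cm; group, map_mul, map_mul, map_mul,
      map_inv, hPmc _ (hcmP g') g, ← map_mul, ← map_mul, hcP _ (hcmP g') _ (hcmP g)]
  have hφ := hom_trivial hL π hπ φ (fun q hq => MonoidHom.mem_ker.2 (Subtype.ext
    ((QuotientGroup.eq_one_iff _).2 (hR' q hq z hz)))) (by rw [hPmap]; norm_num)
  have hzΩ : ∀ g, cm g z ∈ Ω := fun g => (QuotientGroup.eq_one_iff _).1 (congrArg Subtype.val (hφ g))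
  have hcen : ∀ q ∈ π.ker, ∀ g, mk q * mk g = mk g * mk q := by
    have hzc : ∀ g, mk z * mk g = mk g * mk z := fun g => by
      have h : mk (cm g z) = 1 := (QuotientGroup.eq_one_iff _).2 (hzΩ g)
      simp only [cm, map_mul, map_inv, mul_inv_eq_one] at h
      exact (mul_inv_eq_iff_eq_mul.1 h).symm
    have hPc : ∀ x ∈ P, ∀ g, mk x * mk g = mk g * mk x := fun x hx g =>
      (mul_inv_eq_iff_eq_mul.1 (hPmc x hx g)).symm
    intro q hq g
    rcases hQ q hq with h | h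
    · exact hPc q h g
    · rw [show q = z * (z⁻¹ * q) by group, map_mul]
      exact (show Commute (mk z) (mk g) from hzc g).mul_left (hPc _ h g)
  let π' : Y ⧸ Ω →* L := QuotientGroup.lift Ω π hΩk
  have hk' : π'.ker = π.ker.map mk := QuotientGroup.ker_lift _ _ _
  obtain ⟨c, r, y, st⟩ := exists_std hL π hπ (fun m hm => by
      have h2 := hΦ ▸ hQ4 m hm
      have h4' : (m * m) ^ orderOf w = 1 := by
        obtain ⟨k, hk⟩ := mem_zpowers_iff.1 h2
        rw [← hk, ← zpow_natCast, ← zpow_mul, mul_comm, zpow_mul, zpow_natCast, pow_orderOf_eq_one, one_zpow]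
      rw [hw4] at h4'
      rw [show (16 : ℕ) = 2 * 4 * 2 from rfl, pow_mul, pow_mul, pow_two m, h4', one_pow])
    Φ P O.le O.sq O.card O.ker O.ne
  have hsupsq : ∀ a : Y, π a * π a = 1 → π a ≠ 1 → a * a ∈ P := by
    intro a ha2 ha1
    obtain ⟨g, hg⟩ := st.conj _ ha2 ha1
    obtain ⟨g', rfl⟩ := hπ g
    set a' := g'⁻¹ * a * g' with ha'
    have hπa : π' (mk a') = π (r * r) := by
      show π a' = π (r * r)
      rw [ha', map_mul, map_mul, map_inv, ← hg]; group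
    have hsq := sq_sq_of_central hL π'
      (fun q hq g => by
        have hq' : q ∈ π.ker.map mk := hk' ▸ MonoidHom.mem_ker.2 hq
        obtain ⟨q₀, hq₀, rfl⟩ := mem_map.1 hq'
        obtain ⟨g₀, rfl⟩ := QuotientGroup.mk'_surjective Ω g
        exact hcen q₀ hq₀ g₀)
      (fun q hq => by
        have hq' : q ∈ π.ker.map mk := hk' ▸ MonoidHom.mem_ker.2 hq
        obtain ⟨q₀, hq₀, rfl⟩ := mem_map.1 hq'
        rw [← map_mul, ← map_mul]
        exact (QuotientGroup.eq_one_iff _).2 ⟨mul_mem (O.le (hQ4 q₀ hq₀)) (O.le (hQ4 q₀ hq₀)), by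
          obtain ⟨k, hk⟩ := mem_zpowers_iff.1 (hΦ ▸ hQ4 q₀ hq₀)
          rw [← hk, ← zpow_add, ← zpow_add, show k + k + (k + k) = ((orderOf w : ℕ) : ℤ) * k by rw [hw4]; ring,
            zpow_mul, zpow_natCast, pow_orderOf_eq_one, one_zpow]⟩)
      st.t2 (y₀ := π y) (by rw [← map_mul, ← map_mul, st.y3, map_one]) st.tri hπa (y := mk y) rfl
      (by rw [← map_mul, ← map_mul, st.y3, map_one])
    rw [← map_mul, ← map_mul] at hsq
    have hmem : a' * a' * (a' * a') ∈ Ω := (QuotientGroup.eq_one_iff _).1 hsq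
    have haP : a' * a' ∈ P := by
      have hk : a' * a' ∈ π.ker := by
        rw [MonoidHom.mem_ker, map_mul, show π a' = π (r * r) from hπa]; exact st.t2
      refine (hQ _ hk).resolve_right fun hp => hwΩ ?_
      set p := z⁻¹ * (a' * a') with hp'
      have e : a' * a' * (a' * a') = w * (cm z⁻¹ p * (p * p)) := by
        rw [hw, hp']; unfold cm; group
      rw [e] at hmem
      have hpp : cm z⁻¹ p * (p * p) ∈ Ω := mul_mem (hR' _ (inv_mem hz) _ (hPk hp)) (by
        rcases hsqP p hp with e | e <;> rw [e]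
        · exact one_mem Ω
        · exact hρΩ)
      have := mul_mem hmem (inv_mem hpp)
      rwa [mul_inv_cancel_right] at this
    rw [show a * a = g' * (a' * a') * g'⁻¹ by rw [ha']; group]
    exact (inferInstance : P.Normal).conj_mem _ haP g'
  obtain ⟨s, hs1, hs4, hs2⟩ := st.dih
  obtain ⟨X₁, hPX, hsurj, hX₁⟩ :=
    exists_supplement hL π hπ P hPk hidx hsupsq ⟨s, π (r * r), hs1, st.t2, hs4, hs2⟩
  let π₁ : X₁ →* L := π.comp X₁.subtype
  have hk₁ : ∀ x : X₁, π₁ x = 1 ↔ (x : Y) ∈ P :=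
    fun x => ⟨hX₁ x x.2, fun h => MonoidHom.mem_ker.1 (hPk h)⟩
  refine false_of_cyclic (CfsgLib.Fusion.RankThree.sectional_of_injective h4 X₁.subtype X₁.subtype_injective)
    hL π₁ (fun g => ?_) (fun a b ha hb => Subtype.ext (hcP a ((hk₁ a).1 ha) b ((hk₁ b).1 hb))) ?_
    ⟨w, hPX hwP⟩ ((hk₁ _).2 hwP) (fun g => Subtype.ext (hwc g)) (Subtype.ext hρ2)
    (fun e => hρ (congrArg Subtype.val e)) (Ω.subgroupOf X₁) (fun x hx => MonoidHom.mem_ker.2 ((hk₁ x).2 hx.1))
    (fun x hx => Subtype.ext hx.2) hρΩ (fun m hm => ?_) ?_ ?_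
  · obtain ⟨x, hx, e⟩ := hsurj g
    exact ⟨⟨x, hx⟩, e⟩
  · have e : π₁.ker = P.subgroupOf X₁ := by
      ext x
      exact (MonoidHom.mem_ker.trans (hk₁ x)).trans mem_subgroupOf.symm
    rw [e, Nat.card_congr (subgroupOfEquivOfLe hPX).toEquiv, hP32]
  · rcases hwsplit m ((hk₁ m).1 hm) with h | h
    · exact ⟨0, m, h, by rw [pow_zero, one_mul]⟩
    · exact ⟨1, ⟨w⁻¹ * m, hPX (hΩP h)⟩, h, Subtype.ext (by simp)⟩
  · rw [Nat.card_congr (subgroupOfEquivOfLe (hΩP.trans hPX)).toEquiv, hΩ16]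
  · obtain ⟨g, m, hm, hgm⟩ := O.ne
    obtain ⟨x, hx, e⟩ := hsurj (π g)
    have hq : x⁻¹ * g ∈ π.ker := by rw [MonoidHom.mem_ker, map_mul, map_inv, e, inv_mul_cancel]
    have hxm : cm x m ∉ Φ := fun h => hgm (by
      rw [show cm g m = x * cm (x⁻¹ * g) m * x⁻¹ * cm x m by unfold cm; group]
      exact mul_mem ((inferInstance : Φ.Normal).conj_mem _ (O.ker _ (MonoidHom.mem_ker.1 hq) m hm) x) h)
    obtain ⟨m₁, hm₁, hxm₁⟩ : ∃ m₁ ∈ Ω, cm x m₁ ∉ Φ := by
      rcases hwsplit m hm with h | h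
      · exact ⟨m, h, hxm⟩
      · refine ⟨_, h, ?_⟩
        rwa [show cm x (w⁻¹ * m) = cm x m from ?_]
        unfold cm
        have hcx : Commute w⁻¹ x := (show Commute w x from hwc x).inv_left
        rw [show x * (w⁻¹ * m) * x⁻¹ * (w⁻¹ * m)⁻¹ = x * w⁻¹ * m * x⁻¹ * m⁻¹ * w by group, ← hcx.eq,
          show w⁻¹ * x * m * x⁻¹ * m⁻¹ * w = w⁻¹ * ((x * m * x⁻¹ * m⁻¹) * w) by group, ← hwc,
          inv_mul_cancel_left]
    refine ⟨⟨x, hx⟩, ⟨m₁, hPX (hΩP hm₁)⟩, hm₁, fun h => hxm₁ ?_⟩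
    obtain ⟨k, hk⟩ := mem_zpowers_iff.1 h
    have := congrArg Subtype.val hk
    simp only [SubgroupClass.coe_zpow, coe_mul] at this
    show cm x m₁ ∈ Φ
    rw [show cm x m₁ = ((cm (⟨x, hx⟩ : X₁) ⟨m₁, hPX (hΩP hm₁)⟩ : X₁) : Y) from rfl, ← this]
    exact zpow_mem (mul_mem hwΦ hwΦ) k

/-- There is no second layer. -/
theorem false_of_second_layer (h4 : Cfsg.SectionalPRankLE 2 4 Y) (hL : Nat.card L = 168) (π : Y →* L)
    (hπ : Function.Surjective π) (hQp : IsPGroup 2 π.ker) (P : Subgroup Y) [P.Normal]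
    (hidx : P.relIndex π.ker = 2) {z : Y} (hz : z ∈ π.ker) (hzP : z ∉ P) (R Φ : Subgroup Y) [R.Normal]
    [Φ.Normal] (hR : R ≠ ⊥) (hmin : ∀ M : Subgroup Y, M.Normal → M ≤ R → M ≠ ⊥ → M = R)
    (hRΦ : R ≤ Φ) (hwΦ : z * z ∈ Φ) (hzR : z * z ∉ R) (hΦR : ∀ x ∈ Φ, x ∈ R ∨ (z * z)⁻¹ * x ∈ R)
    (hΦcm : ∀ g, ∀ x ∈ Φ, cm g x ∈ R) (hcm : ∀ a ∈ π.ker, ∀ b ∈ π.ker, cm a b ∈ R)
    (hsqP : ∀ m ∈ P, m * m ∈ R) (O : Octad π Φ P) : False := by
  have hPk := O.leK
  have hRk : R ≤ π.ker := hRΦ.trans (O.le.trans hPk)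
  obtain ⟨hRc, hR2⟩ := CfsgLib.PGroup.RadicalFive.minimal_layer hQp hRk hR hmin
  set w := z * z with hw
  have hwk : w ∈ π.ker := mul_mem hz hz
  have hwq : ∀ q ∈ π.ker, w * q = q * w := fun q hq => by
    have h : cm w q = 1 := by
      rw [show cm w q = z * cm z q * z⁻¹ * cm z q by rw [hw]; unfold cm; group,
        ← hRc _ (hcm z hz q hq) z hz, mul_inv_cancel_right, hR2 _ (hcm z hz q hq)]
    exact mul_inv_eq_iff_eq_mul.1 (mul_inv_eq_one.1 h)
  have hΦc : ∀ x ∈ Φ, ∀ q ∈ π.ker, x * q = q * x := by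
    intro x hx q hq
    rcases hΦR x hx with h | h
    · exact hRc x h q hq
    · rw [show x = w * (w⁻¹ * x) by group]
      exact (show Commute w q from hwq q hq).mul_left (hRc _ h q hq)
  have hΦsq : ∀ x ∈ Φ, x * x = 1 ∨ x * x = w * w := by
    intro x hx
    rcases hΦR x hx with h | h
    · exact Or.inl (hR2 x h)
    · right
      conv_lhs => rw [show x = w * (w⁻¹ * x) by group]
      rw [(show Commute (w⁻¹ * x) w from hRc _ h w hwk).mul_mul_mul_comm, hR2 _ h, mul_one]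
  have hQ : ∀ q ∈ π.ker, q ∈ P ∨ z⁻¹ * q ∈ P := by
    intro q hq
    by_cases hqP : q ∈ P
    · exact Or.inl hqP
    refine Or.inr ?_
    have h := (mul_mem_iff_of_index_two (H := P.subgroupOf π.ker) hidx
      (a := ⟨z⁻¹, inv_mem hz⟩) (b := ⟨q, hq⟩)).2
    simp only [mem_subgroupOf, coe_mul] at h
    exact h (iff_of_false (fun e => hzP (inv_mem_iff.1 e)) hqP)
  have hQ' : ∀ q ∈ π.ker, q ∉ P → w⁻¹ * (q * q) ∈ R := by
    intro q hq hqP
    have hp := (hQ q hq).resolve_left hqP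
    set p := z⁻¹ * q with hp'
    rw [show w⁻¹ * (q * q) = cm z⁻¹ p * (p * p) by rw [hw, hp']; unfold cm; group]
    exact mul_mem (hcm _ (inv_mem hz) _ (hPk hp)) (hsqP p hp)
  have hQ4 : ∀ q ∈ π.ker, q * q ∈ Φ := fun q hq => by
    by_cases hqP : q ∈ P
    · exact hRΦ (hsqP q hqP)
    · rw [show q * q = w * (w⁻¹ * (q * q)) by group]
      exact mul_mem hwΦ (hRΦ (hQ' q hq hqP))
  have hi : Nat.card (Φ.map (QuotientGroup.mk' R)) = 2 := by
    have e : Φ.map (QuotientGroup.mk' R) = zpowers (QuotientGroup.mk' R w) := by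
      refine le_antisymm ?_ (zpowers_le.2 (mem_map_of_mem _ hwΦ))
      rintro _ ⟨x, hx, rfl⟩
      rcases hΦR x hx with h | h
      · rw [show QuotientGroup.mk' R x = 1 from (QuotientGroup.eq_one_iff x).2 h]; exact one_mem _
      · rw [show QuotientGroup.mk' R x = QuotientGroup.mk' R w from (QuotientGroup.eq.2 h).symm]
        exact mem_zpowers _
    rw [e, Nat.card_zpowers]
    refine orderOf_eq_prime (hp := ⟨Nat.prime_two⟩) ?_ fun e => hzR ((QuotientGroup.eq_one_iff w).1 e)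
    rw [pow_two, ← map_mul]
    exact (QuotientGroup.eq_one_iff _).2 (hsqP w (O.le hwΦ))
  have hΦcard : Nat.card Φ = Nat.card R * 2 := by rw [card_of_map hRΦ, hi]
  rcases layer_dichotomy h4 hL π hπ R hR hRc hR2 hmin with ⟨hRcen, hR2'⟩ | ⟨hne, hR8⟩
  · -- central layer
    have hwc : ∀ g, cm g w = 1 := by
      let φ : Y →* R := MonoidHom.mk' (fun g => ⟨cm g w, hΦcm g w hwΦ⟩) fun g g' => by
        refine Subtype.ext ?_
        rw [coe_mul]
        show cm (g * g') w = cm g w * cm g' w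
        rw [show cm (g * g') w = g * cm g' w * g⁻¹ * cm g w by unfold cm; group,
          mem_center_iff.1 (hRcen (hΦcm g' w hwΦ)) g, mul_inv_cancel_right,
          mem_center_iff.1 (hRcen (hΦcm g w hwΦ))]
      have hφ := hom_trivial hL π hπ φ (fun q hq => MonoidHom.mem_ker.2 (Subtype.ext (by
        show cm q w = 1
        unfold cm
        rw [← hwq q hq, mul_inv_cancel_right, mul_inv_cancel]))) (by omega)
      exact fun g => congrArg Subtype.val (hφ g)
    have hΦcen : Φ ≤ center Y := fun x hx => by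
      rcases hΦR x hx with h | h
      · exact hRcen h
      · rw [show x = w * (w⁻¹ * x) by group]
        exact mul_mem (mem_center_iff.2 fun g => mul_inv_eq_iff_eq_mul.1 (mul_inv_eq_one.1 (hwc g))) (hRcen h)
    by_cases hww : w * w = 1
    · have h2 : ∀ x ∈ Φ, x * x = 1 := fun x hx => (hΦsq x hx).elim id fun e => e.trans hww
      have hP2 := O.elementary hπ hL hΦcen h2
      have := CfsgLib.PGroup.RadicalFive.card_le_sixteen h4 (comm_of_exp_two hP2) hP2
      rw [card_of_map O.le, hΦcard, hR2', O.card] at this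
      omega
    have hρR : w * w ∈ R := hsqP w (O.le hwΦ)
    have hRρ : R = zpowers (w * w) := by
      refine (eq_of_le_of_card_ge (zpowers_le.2 hρR) ?_).symm
      rw [hR2', Nat.card_zpowers]
      exact (orderOf_eq_prime (hp := ⟨Nat.prime_two⟩) (by rw [pow_two]; exact hR2 _ hρR) hww).ge
    have hRm : ∀ x ∈ R, x = 1 ∨ x = w * w := fun x hx =>
      CfsgLib.PGroup.RadicalFive.mem_zpowers_two (hR2 _ hρR) (hRρ ▸ hx)
    have hΦz : Φ = zpowers w := by
      refine le_antisymm (fun x hx => ?_) (zpowers_le.2 hwΦ)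
      rcases hΦR x hx with h | h
      · rcases hRm x h with e | e <;> rw [e]
        · exact one_mem _
        · exact mul_mem (mem_zpowers w) (mem_zpowers w)
      · rw [show x = w * (w⁻¹ * x) by group]
        refine mul_mem (mem_zpowers w) ?_
        rcases hRm _ h with e | e <;> rw [e]
        · exact one_mem _
        · exact mul_mem (mem_zpowers w) (mem_zpowers w)
    exact false_of_cyclic_layer h4 hL π hπ P hidx hz hzP hww (hR2 _ hρR) Φ hΦz hΦcen
      (fun a ha b hb => hRm _ (hcm a ha b hb)) O (fun m hm => hRm _ (hsqP m hm)) hQ hQ4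
  · -- faithful layer
    have hww : w * w = 1 := by
      by_contra hn
      have hfix : ∀ g, g * (w * w) = (w * w) * g := fun g => by
        refine mul_inv_eq_iff_eq_mul.1 ?_
        rw [show g * (w * w) * g⁻¹ = (cm g w * w) * (cm g w * w) by unfold cm; group,
          (show Commute w (cm g w) from (hRc _ (hΦcm g w hwΦ) w hwk).symm).mul_mul_mul_comm,
          hR2 _ (hΦcm g w hwΦ), one_mul]
      have hρR : w * w ∈ R := hsqP w (O.le hwΦ)
      have hn' : (zpowers (w * w)).Normal := ⟨fun x hx g => by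
        obtain ⟨k, rfl⟩ := mem_zpowers_iff.1 hx
        rw [← conj_zpow, hfix g, mul_inv_cancel_right]
        exact zpow_mem (mem_zpowers _) k⟩
      have h := hmin _ hn' (zpowers_le.2 hρR) (zpowers_ne_bot.2 hn)
      have hc : Nat.card (zpowers (w * w)) = 2 := by
        rw [Nat.card_zpowers]
        exact orderOf_eq_prime (hp := ⟨Nat.prime_two⟩) (by rw [pow_two]; exact hR2 _ hρR) hn
      rw [h, hR8] at hc
      omega
    exact false_of_faithful h4 hL π hπ P hidx Φ R hRΦ hR8 (by rw [hΦcard, hR8]) hne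
      (fun x hx => (hΦsq x hx).elim id fun e => e.trans hww) hΦc
      (fun q hq m hm => hcm q (MonoidHom.mem_ker.2 hq) m (hPk hm)) O hsqP
      (fun q hq hqP => ⟨hQ4 q (MonoidHom.mem_ker.2 hq), fun h => hzR (by
        have := mul_mem h (inv_mem (hQ' q (MonoidHom.mem_ker.2 hq) hqP))
        rwa [show q * q * (w⁻¹ * (q * q))⁻¹ = w by group] at this)⟩)

end CfsgLib.PGroup.RadicalSeven
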